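import Groth.Agent.AlgSpQMod.GenStages
import Groth.Agent.AlgSpNorm.IntCover
import Groth.Agent.AlgSpDec.LimScheme

/-!
# Finite finitely presented coverings by schemes
-/

set_option autoImplicit false
set_option backward.isDefEq.respectTransparency false
set_option backward.isDefEq.respectTransparency.types false
set_option maxHeartbeats 400000

universe u

open CategoryTheory CategoryTheory.Limits AlgebraicGeometry AlgSp Groth.Agent.AlgSpLib Groth.Agent.AlgSpDec Opposite
  TopologicalSpace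

namespace Groth.Agent.AlgSpQMod

variable {S : Scheme.{u}}

/-- The points having a neighbourhood whose map to `X` lifts to `U`. -/
def liftLocus {X Z : Sp S} {U : Over S} (p : (yon S).obj U ⟶ X) (t : Z ⟶ X) : Set (Points Z) :=
  {z | ∃ (R : Over S) (j : (yon S).obj R ⟶ Z) (h : R ⟶ U), RepWith @IsOpenImmersion j ∧
    (yon S).map h ≫ p = j ≫ t ∧ z ∈ Set.range (Points.ofPt j)}

theorem isOpen_liftLocus {X Z : Sp S} (hZ : IsAlgSpace Z) {U : Over S} (p : (yon S).obj U ⟶ X) (t : Z ⟶ X) :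
    IsOpen (liftLocus p t) := by
  rw [isOpen_iff_forall_mem_open]
  rintro z ⟨R, j, h, hj, hh, w, hw⟩
  refine ⟨Set.range (Points.map j), ?_, isOpen_range_openImm hZ hj, Points.ofScheme R w, ?_⟩
  · rintro _ ⟨q, rfl⟩
    obtain ⟨q, rfl⟩ := (Points.schemeHomeo R).surjective q
    exact ⟨R, j, h, hj, hh, q, Points.ofPt_eq_map_ofScheme j q⟩
  · rw [← hw, Points.ofPt_eq_map_ofScheme]

theorem mem_liftLocus_of_map {X Z Z' : Sp S} {U : Over S} (p : (yon S).obj U ⟶ X) {t : Z ⟶ X} {t' : Z' ⟶ X}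
    (φ : Z' ⟶ Z) (hφ : Representable φ) (hφt : φ ≫ t = t') {z : Points Z'} (h : Points.map φ z ∈ liftLocus p t) :
    z ∈ liftLocus p t' := by
  obtain ⟨R, j, k, hj, hk, w, hw⟩ := h
  have sq := hφ.isPullback j
  refine ⟨hφ.pullback j, hφ.fst j, hφ.snd j ≫ k, repWith_of_isPullback sq.flip hj, ?_, ?_⟩
  · rw [Functor.map_comp, Category.assoc, hk, ← hφt, ← Category.assoc, ← sq.w, Category.assoc]
  · obtain ⟨q, hq, -⟩ := exists_point_of_isPullback sq (x := z) (y := Points.ofScheme R w)
      (hw.symm.trans (Points.ofPt_eq_map_ofScheme j w))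
    obtain ⟨q, rfl⟩ := (Points.schemeHomeo _).surjective q
    exact ⟨q, (Points.ofPt_eq_map_ofScheme _ _).trans hq⟩

variable [QuasiSeparatedSpace ↥S]

/-- Quasi-compact quasi-separated spaces have finite finitely presented surjections from schemes, locally
factoring through a given etale covering. -/
theorem exists_scheme_cover_fp {X : Sp S} (hX : IsAlgSpace X) (hqc : IsQuasiCompactSp X)
    (hqs : IsQuasiSeparatedSp X) {U : Over S} (p : (yon S).obj U ⟶ X) (hp : RepWith @Etale p)
    (hps : RepWith @Surjective p) :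
    ∃ (Y : Over S) (g : (yon S).obj Y ⟶ X), IsFiniteMor g ∧ IsSurjectiveMor g ∧ IsFinitePresentationMor g ∧
      ∀ y : ↥Y.left, ∃ (V : Y.left.Opens), y ∈ V ∧
        ∃ k : Over.mk (V.ι ≫ Y.hom) ⟶ U, (yon S).map k ≫ p = (yon S).map (Over.homMk V.ι) ≫ g := by
  classical
  obtain ⟨Y, g, hg, hgs, hloc⟩ := AlgSpNorm.exists_scheme_cover hX hqc hqs p hp hps
  obtain ⟨I, hI, hdir, hne, D, t, c, hc, e, hD, hDa, ht, he⟩ :=
    exists_finite_fp_limit (IsAlgSpace.yon_obj Y) hX hqc hqs (AlgSpDec.isIntegralMor_iff_repWith.2 hg)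
  haveI : IsDirectedOrder I := hdir
  haveI : IsCofiltered Iᵒᵖ := inferInstance
  have hta : ∀ i, RepWith @IsAffineHom (t.app i) := fun i =>
    repWith_mono (fun _ _ e (_ : IsFinite e) => (inferInstance : IsAffineHom e)) _
      (AlgSpDec.isFiniteMor_iff_repWith.1 (ht i).1)
  have hDqc : ∀ i, IsQuasiCompactSp (D.obj i) := fun i => isQuasiCompactSp_of_affine hX (t.app i) (hta i) hqc
  have hDqs : ∀ i, IsQuasiSeparatedSp (D.obj i) := fun i => isQuasiSeparatedSp_of_affine (t.app i) (hta i) hqs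
  obtain ⟨i₁, hi₁⟩ := exists_isRepresentable_stage D hD hDa hDqc hDqs c hc e.symm
  obtain ⟨T₁, ⟨e₁⟩⟩ : ∃ T : Over S, Nonempty ((yon S).obj T ≅ D.obj i₁) := by
    obtain ⟨T, ⟨r⟩⟩ := hi₁.has_representation
    exact ⟨T, ⟨AlgSp.isoOfRepresentableBy r⟩⟩
  have hYc : IsQuasiCompactSp ((yon S).obj Y) := isQuasiCompactSp_of_affine hX g
    (repWith_mono (fun _ _ e (_ : IsIntegralHom e) => (inferInstance : IsAffineHom e)) _ hg) hqc
  haveI : CompactSpace ↥Y.left := (AlgSpPts.isQuasiCompactSp_yon_iff Y).1 hYc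
  have hg' : ∀ i, c.π.app i ≫ t.app i = e.hom ≫ g := fun i => by rw [← he i, Iso.hom_inv_id_assoc]
  -- every point lifts at some stage
  have key : ∀ y : ↥Y.left, ∃ i, Points.map (c.π.app i) (Points.ofPt e.inv y) ∈ liftLocus p (t.app i) := by
    intro y
    obtain ⟨Wy, cy, hyW, hcy⟩ := hloc y
    obtain ⟨v, hv⟩ := surjective_ofPt (repWith_of_isIso @Surjective e₁.hom)
      (Points.map (c.π.app i₁) (Points.ofPt e.inv y))
    obtain ⟨V, hV, hvV, -⟩ := exists_isAffineOpen_mem_and_subset (U := (⊤ : T₁.left.Opens)) (x := v) trivial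
    haveI : IsAffine V.toScheme := hV
    let Z : Over S := Over.mk (V.ι ≫ T₁.hom)
    let ιV : Z ⟶ T₁ := CategoryTheory.Over.homMk V.ι rfl
    let gZ : (yon S).obj Z ⟶ D.obj i₁ := (yon S).map ιV ≫ e₁.hom
    haveI : IsAffine Z.left := hV
    have hgZ : RepWith @IsOpenImmersion gZ :=
      repWith_comp ((repWith_yon_map_iff _ _).2 (inferInstanceAs (IsOpenImmersion V.ι))) (repWith_of_isIso _ _)
    obtain ⟨W, cW, hcW, pW, fst, aW, bW, haW, sqW, hbW, hAW, hWA, sqj, hfst, hpW⟩ :=
      exists_limit_square'' D hDa c hc i₁ gZ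
    obtain ⟨f', hf'⟩ := (yon S).map_surjective (fst ≫ e.hom)
    haveI hf'o : IsOpenImmersion f'.left := by
      refine (repWith_yon_map_iff @IsOpenImmersion f').1 ?_
      rw [hf']
      exact repWith_comp (repWith_of_isPullback sqW.flip hgZ) (repWith_of_isIso _ _)
    obtain ⟨w, hw⟩ : ∃ w : ↥cW.pt.left, f'.left w = y := by
      obtain ⟨q, hq, -⟩ := exists_point_of_isPullback sqW (x := Points.ofPt e.inv y)
        (y := Points.ofScheme Z ⟨v, hvV⟩) (by
          rw [← hv, ← Points.ofPt_eq_map_ofScheme]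
          exact (ofPt_comp ιV e₁.hom ⟨v, hvV⟩).symm)
      obtain ⟨q, rfl⟩ := (Points.schemeHomeo _).surjective q
      refine ⟨q, (Points.schemeHomeo Y).injective ?_⟩
      change Points.ofScheme Y (f'.left q) = Points.ofScheme Y y
      refine (Points.map_yon_map_apply f' q).symm.trans ?_
      rw [hf', Points.map_comp]
      refine (congrArg (Points.map e.hom) hq).trans ?_
      rw [Points.ofPt_eq_map_ofScheme, ← Points.map_comp, Iso.inv_hom_id, Points.map_id]
    have hA : w ∈ f'.left ⁻¹ᵁ Wy := by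
      show f'.left w ∈ Wy
      rw [hw]; exact hyW
    haveI : ∀ j, IsAffine ((W ⋙ Over.forget S).obj j) := hWA
    haveI := IsCofiltered.isConnected (Over i₁)
    haveI : ∀ {j k : Over i₁} (f : j ⟶ k), IsAffineHom ((W ⋙ Over.forget S).map f) := fun f => inferInstance
    obtain ⟨_, ⟨j, B, hB, rfl⟩, hwB, hBA⟩ := Opens.isBasis_iff_nbhd.1
      (isBasis_preimage_isAffineOpen (W ⋙ Over.forget S) ((Over.forget S).mapCone cW)
        (isLimitOfPreserves (Over.forget S) hcW)) hA
    let B' : (W.obj j).left.Opens := B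
    let ZB : Over S := Over.mk (B'.ι ≫ (W.obj j).hom)
    let ιB : ZB ⟶ W.obj j := CategoryTheory.Over.homMk B'.ι rfl
    haveI : IsAffine ZB.left := hB
    let gB : (yon S).obj ZB ⟶ D.obj j.left := (yon S).map ιB ≫ aW j
    have hgB : RepWith @IsOpenImmersion gB :=
      repWith_comp ((repWith_yon_map_iff _ _).2 (inferInstanceAs (IsOpenImmersion B'.ι)))
        (repWith_of_isPullback (sqj j).flip hgZ)
    obtain ⟨W₂, cW₂, hcW₂, pW₂, fst₂, a₂, b₂, ha₂, sqW₂, hb₂, hA₂, hW₂A, sqj₂, hfst₂, hpW₂⟩ :=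
      exists_limit_square'' D hDa c hc j.left gB
    obtain ⟨m, hm⟩ := (yon S).map_surjective (sqW.lift fst₂ ((yon S).map (pW₂ ≫ ιB ≫ bW j)) (by
      rw [← c.w j.hom, ← Category.assoc, sqW₂.w, Category.assoc, Functor.map_comp, Functor.map_comp]
      simp only [gB, Category.assoc]
      rw [(sqj j).w]))
    have hmfst : (yon S).map m ≫ fst = fst₂ := by rw [hm, IsPullback.lift_fst]
    have hmπ : m ≫ cW.π.app j = pW₂ ≫ ιB := (yon S).map_injective ((sqj j).hom_ext
      (by
        rw [Functor.map_comp, Category.assoc, ← hfst, reassoc_of% hmfst, Functor.map_comp, Category.assoc]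
        exact sqW₂.w)
      (by
        rw [← Functor.map_comp, ← Functor.map_comp, Category.assoc, ← hpW, Category.assoc, Functor.map_comp, hm,
          IsPullback.lift_snd]))
    have hrange : Set.range (m ≫ f').left ⊆ Set.range Wy.ι := by
      rintro _ ⟨q, rfl⟩
      rw [Scheme.Opens.range_ι]
      refine hBA ?_
      change (cW.π.app j).left (m.left q) ∈ B'
      have e : (cW.π.app j).left (m.left q) = ιB.left (pW₂.left q) :=
        congrArg (fun x : cW₂.pt ⟶ W.obj j => x.left q) hmπ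
      rw [e]
      exact (pW₂.left q).2
    let r : cW₂.pt ⟶ Over.mk (Wy.ι ≫ Y.hom) :=
      CategoryTheory.Over.homMk (IsOpenImmersion.lift Wy.ι (m ≫ f').left hrange) (by
        change _ ≫ Wy.ι ≫ Y.hom = _
        rw [IsOpenImmersion.lift_fac_assoc]
        exact Over.w (m ≫ f'))
    have hr : r ≫ (Over.homMk Wy.ι rfl : Over.mk (Wy.ι ≫ Y.hom) ⟶ Y) = m ≫ f' :=
      Over.OverMorphism.ext (IsOpenImmersion.lift_fac _ _ _)
    let E := hp.rep.pullback (gB ≫ t.app j.left)
    let π : E ⟶ ZB := hp.rep.snd (gB ≫ t.app j.left)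
    haveI : Etale π.left := hp.property_snd _
    let a : cW₂.pt ⟶ E := hp.rep.lift' (r ≫ cy) pW₂ (by
      rw [Functor.map_comp, Category.assoc, hcy, ← Functor.map_comp_assoc, hr, Functor.map_comp, hf']
      simp only [Category.assoc]
      rw [← hg' j.left, reassoc_of% hmfst, reassoc_of% sqW₂.w])
    have ha : a ≫ π = pW₂ := hp.rep.lift'_snd _ _ _
    haveI := IsCofiltered.isConnected (Over j.left)
    haveI : ∀ k, IsAffine ((W₂ ⋙ Over.forget S).obj k) := hW₂A
    haveI : ∀ {k k' : Over j.left} (f : k ⟶ k'), IsAffineHom ((W₂ ⋙ Over.forget S).map f) := fun f => inferInstance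
    let T : W₂ ⋙ Over.forget S ⟶ (Functor.const (Over j.left)).obj ZB.left :=
      { app := fun k => (b₂ k).left
        naturality := fun k k' f => by
          change (W₂.map f).left ≫ (b₂ k').left = (b₂ k).left ≫ 𝟙 _
          rw [← Over.comp_left, hb₂, Category.comp_id] }
    obtain ⟨k, gk, hgk, hgk'⟩ := Scheme.exists_π_app_comp_eq_of_locallyOfFinitePresentation
      (W₂ ⋙ Over.forget S) T π.left ((Over.forget S).mapCone cW₂) (isLimitOfPreserves (Over.forget S) hcW₂) a.left
      (by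
        ext k
        change (cW₂.π.app k).left ≫ (b₂ k).left = a.left ≫ π.left
        rw [← Over.comp_left, ← Over.comp_left, ← hpW₂ k, ha])
    have hgk'' : gk ≫ π.left = (b₂ k).left := hgk'
    let G : W₂.obj k ⟶ E := CategoryTheory.Over.homMk gk (by
      rw [← Over.w π, reassoc_of% hgk'']; exact Over.w (b₂ k))
    have hG : G ≫ π = b₂ k := Over.OverMorphism.ext hgk'
    refine ⟨k.left, W₂.obj k, a₂ k, G ≫ hp.rep.fst' (gB ≫ t.app j.left),
      repWith_of_isPullback (sqj₂ k).flip hgB, ?_, ?_⟩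
    · rw [Functor.map_comp, Category.assoc, (hp.rep.isPullback' _).w, ← Functor.map_comp_assoc, hG,
        ← reassoc_of% (sqj₂ k).w]
      exact congrArg (a₂ k ≫ ·) ((t.naturality k.hom).trans (Category.comp_id _))
    · obtain ⟨q, hq, -⟩ := exists_point_of_isPullback sqW₂ (x := Points.ofPt e.inv y)
        (y := Points.ofScheme ZB ⟨(cW.π.app j).left w, hwB⟩) (by
          have hy : Points.ofPt fst w = Points.ofPt e.inv y := by
            rw [← hw, ← ofPt_comp, hf', Category.assoc, Iso.hom_inv_id, Category.comp_id]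
          rw [← hy, Points.map_ofPt, hfst, ofPt_comp, ← Points.ofPt_eq_map_ofScheme]
          exact (ofPt_comp ιB (aW j) ⟨_, hwB⟩).symm)
      obtain ⟨q, rfl⟩ := (Points.schemeHomeo _).surjective q
      refine ⟨(cW₂.π.app k).left q, ?_⟩
      rw [← ofPt_comp, ← hfst₂, ← Points.map_ofPt]
      exact congrArg (Points.map (c.π.app k.left)) ((Points.ofPt_eq_map_ofScheme fst₂ q).trans hq)
  choose iy hiy using key
  have hopen : ∀ y, IsOpen ((fun z => Points.map (c.π.app (iy y)) (Points.ofPt e.inv z)) ⁻¹'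
      liftLocus p (t.app (iy y))) := fun y =>
    (isOpen_liftLocus (hD _) p (t.app (iy y))).preimage
      ((Points.continuous_map _).comp (Points.continuous_ofPt _))
  obtain ⟨s, hs⟩ := isCompact_univ.elim_finite_subcover _ hopen fun y _ => Set.mem_iUnion.2 ⟨y, hiy y⟩
  obtain ⟨l, hl⟩ := IsCofiltered.inf_objs_exists (insert i₁ (s.image iy))
  have hrep : ∀ {a b : Iᵒᵖ} (φ : a ⟶ b), Representable (D.map φ) := fun φ =>
    AlgSpDec.representable_of_isAffineMor (hDa _ _ φ)
  have hcov : ∀ x : Points c.pt, Points.map (c.π.app l) x ∈ liftLocus p (t.app l) := fun x => by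
    obtain ⟨z, rfl⟩ := surjective_ofPt (repWith_of_isIso @Surjective e.inv) x
    obtain ⟨y, hy, hz⟩ := Set.mem_iUnion₂.1 (hs (Set.mem_univ z))
    obtain ⟨f⟩ := hl (Finset.mem_insert_of_mem (Finset.mem_image_of_mem iy hy))
    refine mem_liftLocus_of_map p (D.map f) (hrep f) ((t.naturality f).trans (Category.comp_id _)) ?_
    rw [← Points.map_comp, c.w]
    exact hz
  obtain ⟨m_, φ, hφ⟩ := exists_stage_covered D hDa c hc (hDqc l) (isOpen_liftLocus (hD l) p (t.app l)) hcov
  obtain ⟨f₁⟩ := hl (Finset.mem_insert_self i₁ _)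
  let ψ := D.map (φ ≫ f₁)
  have sq := (hrep (φ ≫ f₁)).isPullback e₁.hom
  haveI : IsIso ((hrep (φ ≫ f₁)).fst e₁.hom) := sq.isIso_fst_of_isIso
  let T' := (hrep (φ ≫ f₁)).pullback e₁.hom
  let E' := asIso ((hrep (φ ≫ f₁)).fst e₁.hom)
  refine ⟨T', E'.hom ≫ t.app m_, AlgSpDec.isFiniteMor_iff_repWith.2
      (repWith_comp (repWith_of_isIso _ _) (AlgSpDec.isFiniteMor_iff_repWith.1 (ht m_).1)), ?_,
    isFinitePresentationMor_comp_affine (IsAlgSpace.yon_obj _) (hD m_) hX (repWith_of_isIso _ _) (hta m_)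
      (isGood_of_isIso (P := @IsAffineHom) le_rfl (hD m_) E'.hom).2.2 (ht m_).2, fun z => ?_⟩
  · intro x
    obtain ⟨y, rfl⟩ := surjective_ofPt hgs x
    refine ⟨Points.map E'.inv (Points.map (c.π.app m_) (Points.ofPt e.inv y)), ?_⟩
    rw [← Points.map_comp, Iso.inv_hom_id_assoc, ← Points.map_comp, hg', Points.map_ofPt, Iso.inv_hom_id_assoc]
  · obtain ⟨R, j, h, hj, hh, w, hw⟩ :=
      mem_liftLocus_of_map p (D.map φ) (hrep φ) ((t.naturality φ).trans (Category.comp_id _))
        (hφ (Points.ofPt E'.hom z))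
    obtain ⟨j', hj'⟩ := (yon S).map_surjective (j ≫ E'.inv)
    haveI : IsOpenImmersion j'.left := by
      refine (repWith_yon_map_iff @IsOpenImmersion j').1 ?_
      rw [hj']
      exact repWith_comp hj (repWith_of_isIso _ _)
    have hz : z ∈ j'.left.opensRange := ⟨w, (Points.schemeHomeo T').injective (by
      change Points.ofScheme T' (j'.left w) = Points.ofScheme T' z
      refine (Points.map_yon_map_apply j' w).symm.trans ?_
      change Points.map _ (Points.ofScheme R w) = _
      rw [hj', Points.map_comp, ← Points.ofPt_eq_map_ofScheme, hw,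
        Points.ofPt_eq_map_ofScheme, ← Points.map_comp, Iso.hom_inv_id, Points.map_id])⟩
    have hle : Set.range j'.left.opensRange.ι ⊆ Set.range j'.left := by rw [Scheme.Opens.range_ι]; exact subset_rfl
    let k : Over.mk (j'.left.opensRange.ι ≫ T'.hom) ⟶ R :=
      CategoryTheory.Over.homMk (IsOpenImmersion.lift j'.left j'.left.opensRange.ι hle) (by
        rw [← Over.w j', IsOpenImmersion.lift_fac_assoc]; rfl)
    have hk : k ≫ j' = (Over.homMk j'.left.opensRange.ι : Over.mk (j'.left.opensRange.ι ≫ T'.hom) ⟶ T') :=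
      Over.OverMorphism.ext (IsOpenImmersion.lift_fac _ _ _)
    refine ⟨j'.left.opensRange, hz, k ≫ h, ?_⟩
    refine ((congrArg (· ≫ p) (Functor.map_comp _ k h)).trans
      ((Category.assoc _ _ _).trans (congrArg ((yon S).map k ≫ ·) hh))).trans ?_
    refine Eq.trans ?_ (congrArg (fun m => (yon S).map m ≫ E'.hom ≫ t.app m_) hk)
    have e : (yon S).map j' ≫ E'.hom ≫ t.app m_ = j ≫ t.app m_ := by
      rw [hj', Category.assoc, Iso.inv_hom_id_assoc]
    exact (((congrArg (· ≫ _) (Functor.map_comp _ k j')).trans (Category.assoc _ _ _)).trans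
      (congrArg ((yon S).map k ≫ ·) e)).symm

end Groth.Agent.AlgSpQMod
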