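import Groth.Agent.AlgSpQMod.SystemLimit

/-!
# Functions of an affine space over a base come from finitely presented affine spaces
-/

set_option autoImplicit false
set_option backward.isDefEq.respectTransparency false
set_option backward.isDefEq.respectTransparency.types false
set_option maxHeartbeats 400000

universe u

open CategoryTheory CategoryTheory.Limits AlgebraicGeometry AlgSp Groth.Agent.AlgSpLib

namespace Groth.Agent.AlgSpQMod

variable {S : Scheme.{u}} [QuasiSeparatedSpace ↥S] {X Y : Sp S}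

/-- Every function on a chart lies in a subspace of finite type. -/
theorem exists_ft_stage (hX : IsAlgSpace X) (hY : IsAlgSpace Y) (hqc : IsQuasiCompactSp Y)
    (hqs : IsQuasiSeparatedSp Y) {f : X ⟶ Y} (hfa : RepWith @IsAffineHom f) (u : Chart Y)
    (hu : RepWith @Surjective u.c) (x : Γ((pre f (qcqs_of_affine hfa) u).left, ⊤)) :
    ∃ (Z : Sp S) (ν : Z ⟶ Y) (A : Subalgebra u.R Γ((pre f (qcqs_of_affine hfa) u).left, ⊤))
      (m : (yon S).obj (subSpec f (qcqs_of_affine hfa) u A) ⟶ Z) (f' : X ⟶ Z) (hν : RepWith @IsAffineHom ν),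
      IsAlgSpace Z ∧ IsPullback m ((yon S).map (subπ f (qcqs_of_affine hfa) u A)) ν u.c ∧ A.FG ∧ x ∈ A ∧
      (∀ c : Chart Y, LocallyOfFiniteType (preπ ν (qcqs_of_affine hν) c).left) ∧
      ∃ hw : f' ≫ ν = f, x ∈ Set.range (preFun (qcqs_of_affine hν) (qcqs_of_affine hfa) f' hw u).left.appTop.hom := by
  classical
  have hf := qcqs_of_affine hfa
  obtain ⟨N, ⟨s, hs⟩, hxN, hN⟩ := exists_fg_stable (F := affMod f hf) hY hqc hqs u ({x} : Finset _)
  obtain ⟨Z, ν, m, f', hZ, sq, hf', hpf, hme, hms⟩ := exists_sub_space f hf u hX hY hu N hN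
  let A := Algebra.adjoin u.R (subSet f hf u N)
  have hxA : x ∈ A := Algebra.subset_adjoin (R := u.R) (s := subSet f hf u N) (hxN (by simp))
  have hAfg : A.FG := by
    refine ⟨(s : Finset Γ((pre f hf u).left, ⊤)), le_antisymm (Algebra.adjoin_le fun y hy => ?_) (Algebra.adjoin_le ?_)⟩
    · exact Algebra.subset_adjoin (show y ∈ N from hs.le (Submodule.subset_span hy))
    · intro y hy
      have hy' : y ∈ Submodule.span u.R (s : Set ((affMod f hf).M u)) := by rw [hs]; exact hy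
      exact Algebra.span_le_adjoin _ _ hy'
  have hν : RepWith @IsAffineHom ν := repWith_isAffineHom_sub f hf A sq hu
  refine ⟨Z, ν, A, m, f', hν, hZ, sq, hAfg, hxA, fun c =>
    ((repWith_ft_sub f hf A sq hu hAfg).2 c.c _ _ ((qcqs_of_affine hν).rep.isPullback c.c)).2, hf', ?_⟩
  rw [(range_preFun_sub f hf A sq (qcqs_of_affine hν) f' hf' hpf).1]
  exact hxA

/-- A function pulled back to a closed subspace comes from the ambient space. -/
theorem mem_range_of_closed {Z W : Sp S} {ν : Z ⟶ Y} {ν' : W ⟶ Y} {f : X ⟶ Y} {u : Chart Y} (hν : RepWith @IsAffineHom ν)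
    (hν' : RepWith @IsAffineHom ν') (hfa : RepWith @IsAffineHom f) (ψ : Z ⟶ W) (hψ : RepWith @IsClosedImmersion ψ)
    (hψν : ψ ≫ ν' = ν) (q : X ⟶ Z) (hq : q ≫ ν = f) (p : X ⟶ W) (hp : p ≫ ν' = f) (hqp : q ≫ ψ = p)
    {x : Γ((pre f (qcqs_of_affine hfa) u).left, ⊤)}
    (hx : x ∈ Set.range (preFun (qcqs_of_affine hν) (qcqs_of_affine hfa) q hq u).left.appTop.hom) :
    x ∈ Set.range (preFun (qcqs_of_affine hν') (qcqs_of_affine hfa) p hp u).left.appTop.hom := by
  haveI : IsAffineHom (preπ ν' (qcqs_of_affine hν') u).left :=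
    hν'.2 u.c _ _ ((qcqs_of_affine hν').rep.isPullback u.c)
  haveI : IsAffine (pre ν' (qcqs_of_affine hν') u).left := isAffine_of_isAffineHom (preπ ν' (qcqs_of_affine hν') u).left
  haveI : IsClosedImmersion (preFun (qcqs_of_affine hν') (qcqs_of_affine hν) ψ hψν u).left :=
    hψ.2 _ _ _ (isPullback_preFun (qcqs_of_affine hν') (qcqs_of_affine hν) ψ hψν u)
  obtain ⟨y, rfl⟩ := hx
  obtain ⟨z, rfl⟩ := (IsClosedImmersion.isAffine_surjective_of_isAffine
    (preFun (qcqs_of_affine hν') (qcqs_of_affine hν) ψ hψν u).left).2 y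
  refine ⟨z, ?_⟩
  rw [← preFun_comp (qcqs_of_affine hν') (qcqs_of_affine hν) (qcqs_of_affine hfa) ψ hψν q hq p hp hqp u]
  rfl

/-- An affine morphism is a limit of affine morphisms of finite presentation. -/
theorem exists_affine_fp_limit (hX : IsAlgSpace X) (hY : IsAlgSpace Y) (hqc : IsQuasiCompactSp Y)
    (hqs : IsQuasiSeparatedSp Y) {f : X ⟶ Y} (hf : IsAffineMor f) :
    ∃ (I : Type u) (_ : Preorder I) (_ : IsDirected I (fun a b => a ≤ b)) (_ : Nonempty I) (D : Iᵒᵖ ⥤ Sp S)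
      (t : D ⟶ (Functor.const Iᵒᵖ).obj Y) (c : Cone D) (_ : IsLimit c) (e : c.pt ≅ X),
      (∀ i, IsAlgSpace (D.obj i)) ∧ (∀ (i j : Iᵒᵖ) (φ : i ⟶ j), IsAffineMor (D.map φ)) ∧
      (∀ i, IsAffineMor (t.app i) ∧ IsFinitePresentationMor (t.app i)) ∧
      (∀ i, e.inv ≫ c.π.app i ≫ t.app i = f) := by
  have hfa := AlgSpDec.repWith_isAffineHom_of_isAffineMor hf
  obtain ⟨U, a, hU, hae, has⟩ := AlgSpDec.exists_affine_atlas hqc
  obtain ⟨u, hu⟩ : ∃ u : Chart Y, RepWith @Surjective u.c := ⟨⟨U, hU, a, hae⟩, has⟩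
  clear has hae hU a U
  have key : ∀ x : Γ((pre f (qcqs_of_affine hfa) u).left, ⊤), ∃ (W : Sp S) (w : W ⟶ Y) (p : X ⟶ W)
      (hw : RepWith @IsAffineHom w) (hp : p ≫ w = f), IsAlgSpace W ∧ IsFinitePresentationMor w ∧
      x ∈ Set.range (preFun (qcqs_of_affine hw) (qcqs_of_affine hfa) p hp u).left.appTop.hom := by
    intro x
    obtain ⟨Z, ν, A, m, f', hν, hZ, -, -, -, hft, hw, hx⟩ := exists_ft_stage hX hY hqc hqs hfa u hu x
    obtain ⟨W, ν', haff', ψ, hW, hψν, hψc, hfp⟩ := exists_closed_fp hY hqc hqs hZ hν hft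
    exact ⟨W, ν', f' ≫ ψ, haff', by rw [Category.assoc, hψν, hw], hW,
      isFinitePresentationMor_of_preπ hY hqc hW haff' hfp,
      mem_range_of_closed hν haff' hfa ψ hψc hψν f' hw _ _ rfl hx⟩
  choose W w p hw hp hW hfp hx using key
  obtain ⟨I, hI, hdir, hne, D, t, c, hc, e, hD, hDa, ht, he⟩ := exists_system_limit hY hqc hqs
    (P := @IsAffineHom) le_rfl (fun _ _ g (_ : IsClosedImmersion g) => (inferInstance : IsAffineHom g)) hfa u hu W w
    (fun k => ⟨hW k, hw k, hfp k⟩) p hp (fun x => ⟨x, hx x⟩)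
  exact ⟨I, hI, hdir, hne, D, t, c, hc, e, hD, hDa,
    fun i => ⟨AlgSpDec.isAffineMor_of_repWith le_rfl (ht i).1, (ht i).2⟩, he⟩

/-- Functions of an integral space over the base come from finite finitely presented spaces. -/
theorem exists_finite_stage (hX : IsAlgSpace X) (hY : IsAlgSpace Y) (hqc : IsQuasiCompactSp Y)
    (hqs : IsQuasiSeparatedSp Y) {f : X ⟶ Y} (hfi : RepWith @IsIntegralHom f) (hfa : RepWith @IsAffineHom f)
    (u : Chart Y) (hu : RepWith @Surjective u.c) (x : Γ((pre f (qcqs_of_affine hfa) u).left, ⊤)) :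
    ∃ (W : Sp S) (w : W ⟶ Y) (p : X ⟶ W)
      (hw : RepWith @IsFinite w) (hp : p ≫ w = f), IsAlgSpace W ∧ IsFinitePresentationMor w ∧
      x ∈ Set.range (preFun (qcqs_of_affine (repWith_mono (fun _ _ g (_ : IsFinite g) =>
        (inferInstance : IsAffineHom g)) _ hw)) (qcqs_of_affine hfa) p hp u).left.appTop.hom := by
  have hFA : (@IsFinite : MorphismProperty Scheme.{u}) ≤ @IsAffineHom :=
    fun _ _ g (_ : IsFinite g) => (inferInstance : IsAffineHom g)
  haveI : IsIntegralHom (preπ f (qcqs_of_affine hfa) u).left :=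
    hfi.2 u.c _ _ ((qcqs_of_affine hfa).rep.isPullback u.c)
  haveI : IsAffine (pre f (qcqs_of_affine hfa) u).left := isAffine_of_isAffineHom (preπ f (qcqs_of_affine hfa) u).left
  haveI : Algebra.IsIntegral u.R Γ((pre f (qcqs_of_affine hfa) u).left, ⊤) :=
    ⟨IsIntegralHom.isIntegral_app (preπ f (qcqs_of_affine hfa) u).left _ (isAffineOpen_top _)⟩
  obtain ⟨Z, ν, A, m, f', hν, hZ, sq, ⟨s, hs⟩, -, -, hw, hx⟩ := exists_ft_stage hX hY hqc hqs hfa u hu x
  have hZfin : IsFiniteMor ν := by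
    refine AlgSpPts.descend_chart isLocalOnBase_fpqc_isFiniteMor hZ hY u.et hu sq
      (AlgSpDec.isFiniteMor_iff_repWith.2 ((repWith_yon_map_iff _ _).2 ?_))
    haveI : Module.Finite u.R A := by
      refine (Module.Finite.iff_fg (N := Subalgebra.toSubmodule A)).2 ?_
      rw [← hs]
      exact fg_adjoin_of_finite (Finset.finite_toSet s) fun y _ => Algebra.IsIntegral.isIntegral y
    haveI : IsFinite (Spec.map (CommRingCat.ofHom (algebraMap u.R A))) :=
      (IsFinite.SpecMap_iff _).2 (RingHom.finite_algebraMap.2 inferInstance)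
    change IsFinite (Spec.map _ ≫ u.W.left.isoSpec.inv)
    infer_instance
  obtain ⟨W, g, i, hW, hgfin, hgfp, hic, hig⟩ := exists_finite_fp hZ hY hqc hqs hZfin
  have hgr := AlgSpDec.isFiniteMor_iff_repWith.1 hgfin
  exact ⟨W, g, f' ≫ i, hgr, by rw [Category.assoc, hig, hw], hW, hgfp,
    mem_range_of_closed hν (repWith_mono hFA _ hgr) hfa i hic hig f' hw _ _ rfl hx⟩

/-- An integral morphism is a limit of finite morphisms of finite presentation. -/
theorem exists_finite_fp_limit (hX : IsAlgSpace X) (hY : IsAlgSpace Y) (hqc : IsQuasiCompactSp Y)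
    (hqs : IsQuasiSeparatedSp Y) {f : X ⟶ Y} (hf : IsIntegralMor f) :
    ∃ (I : Type u) (_ : Preorder I) (_ : IsDirected I (fun a b => a ≤ b)) (_ : Nonempty I) (D : Iᵒᵖ ⥤ Sp S)
      (t : D ⟶ (Functor.const Iᵒᵖ).obj Y) (c : Cone D) (_ : IsLimit c) (e : c.pt ≅ X),
      (∀ i, IsAlgSpace (D.obj i)) ∧ (∀ (i j : Iᵒᵖ) (φ : i ⟶ j), IsAffineMor (D.map φ)) ∧
      (∀ i, IsFiniteMor (t.app i) ∧ IsFinitePresentationMor (t.app i)) ∧
      (∀ i, e.inv ≫ c.π.app i ≫ t.app i = f) := by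
  have hfi := AlgSpDec.isIntegralMor_iff_repWith.1 hf
  have hfa : RepWith @IsAffineHom f :=
    repWith_mono (fun _ _ e (_ : IsIntegralHom e) => (inferInstance : IsAffineHom e)) _ hfi
  have hFA : (@IsFinite : MorphismProperty Scheme.{u}) ≤ @IsAffineHom :=
    fun _ _ g (_ : IsFinite g) => (inferInstance : IsAffineHom g)
  obtain ⟨U, a, hU, hae, has⟩ := AlgSpDec.exists_affine_atlas hqc
  obtain ⟨u, hu⟩ : ∃ u : Chart Y, RepWith @Surjective u.c := ⟨⟨U, hU, a, hae⟩, has⟩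
  clear has hae hU a U
  choose W w p hw hp hW hfp hx using exists_finite_stage hX hY hqc hqs hfi hfa u hu
  obtain ⟨I, hI, hdir, hne, D, t, c, hc, e, hD, hDa, ht, he⟩ := exists_system_limit hY hqc hqs (P := @IsFinite) hFA
    (fun _ _ g (_ : IsClosedImmersion g) => (inferInstance : IsFinite g)) hfa u hu W w
    (fun k => ⟨hW k, hw k, hfp k⟩) p hp (fun x => ⟨x, hx x⟩)
  exact ⟨I, hI, hdir, hne, D, t, c, hc, e, hD, hDa,
    fun i => ⟨AlgSpDec.isFiniteMor_iff_repWith.2 (ht i).1, (ht i).2⟩, he⟩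

end Groth.Agent.AlgSpQMod
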