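import Mathlib.AlgebraicGeometry.Morphisms.FiniteType
import Mathlib.AlgebraicGeometry.Morphisms.QuasiCompact
import Mathlib.AlgebraicGeometry.Gluing

/-!
# Open subschemes of affine schemes seen over a large subalgebra
-/

set_option autoImplicit false
set_option backward.isDefEq.respectTransparency false
set_option backward.isDefEq.respectTransparency.types false
set_option maxHeartbeats 400000

universe u

open CategoryTheory AlgebraicGeometry TopologicalSpace

namespace Groth.Agent.AlgSpQMod

/-- A quasi-compact open subscheme of finite type of an affine scheme over `R` is an open subscheme of the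
spectrum of any large enough subalgebra. -/
theorem exists_finset_isOpenImmersion {R B : Type u} [CommRing R] [CommRing B] [Algebra R B] {X : Scheme.{u}}
    (g : X ⟶ Spec (.of B)) [IsOpenImmersion g] [QuasiCompact g]
    [LocallyOfFiniteType (g ≫ Spec.map (CommRingCat.ofHom (algebraMap R B)))] :
    ∃ T : Finset B, ∀ A : Subalgebra R B, (T : Set B) ⊆ A →
      IsOpenImmersion (g ≫ Spec.map (CommRingCat.ofHom A.val.toRingHom)) := by
  classical
  have : CompactSpace X := QuasiCompact.compactSpace_of_compactSpace g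
  obtain ⟨t, ht⟩ := PrimeSpectrum.isCompact_isOpen_iff.1
    ⟨isCompact_range g.continuous, g.isOpenEmbedding.isOpen_range⟩
  have hsub : ∀ b ∈ t, (PrimeSpectrum.basicOpen b : Set (PrimeSpectrum B)) ⊆ Set.range g := fun b hb x hx => by
    rw [← ht]
    exact fun h => hx (h hb)
  have hft : ∀ b : t, (algebraMap R (Localization.Away (b : B))).FiniteType := fun b => by
    let ι : Spec (.of (Localization.Away (b : B))) ⟶ Spec (.of B) :=
      Spec.map (CommRingCat.ofHom (algebraMap B (Localization.Away (b : B))))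
    have hr : Set.range ι ⊆ Set.range g := by
      refine (Set.Subset.trans ?_ (hsub b b.2))
      exact (PrimeSpectrum.localization_away_comap_range _ _).le
    have : IsOpenImmersion (IsOpenImmersion.lift g ι hr) :=
      have : IsOpenImmersion (IsOpenImmersion.lift g ι hr ≫ g) := by
        rw [IsOpenImmersion.lift_fac]; infer_instance
      IsOpenImmersion.of_comp _ g
    have hL : LocallyOfFiniteType (IsOpenImmersion.lift g ι hr ≫ g ≫
        Spec.map (CommRingCat.ofHom (algebraMap R B))) := inferInstance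
    rw [← Category.assoc, IsOpenImmersion.lift_fac, ← Spec.map_comp] at hL
    exact (HasRingHomProperty.Spec_iff (P := @LocallyOfFiniteType)).1 hL
  choose s hs using fun b => (RingHom.finiteType_algebraMap.1 (hft b)).out
  choose n a ha using fun (b : t) (z : Localization.Away (b : B)) =>
    IsLocalization.Away.surj (S := Localization.Away (b : B)) (b : B) z
  refine ⟨t ∪ t.attach.biUnion fun b => (s b).image (a b), fun A hA => ?_⟩
  let θ := Spec.map (CommRingCat.ofHom A.val.toRingHom)
  let V : t → (Spec (.of A)).Opens := fun b => PrimeSpectrum.basicOpen ⟨b, hA (Finset.mem_union_left _ b.2)⟩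
  have hbij : ∀ b : t, Function.Bijective (Localization.awayMap A.val.toRingHom
      (⟨b, hA (Finset.mem_union_left _ b.2)⟩ : A)) := by
    intro b
    set b' : A := ⟨b, hA (Finset.mem_union_left _ b.2)⟩ with hb'
    refine ⟨(injective_iff_map_eq_zero _).2 fun x hx => ?_, fun z => ?_⟩
    · obtain ⟨c, ⟨d, k, rfl⟩, rfl⟩ := IsLocalization.exists_mk'_eq (Submonoid.powers b') x
      rw [Localization.awayMap, IsLocalization.Away.map, IsLocalization.map_mk', IsLocalization.mk'_eq_zero_iff] at hx
      obtain ⟨⟨_, m, rfl⟩, hm⟩ := hx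
      rw [IsLocalization.mk'_eq_zero_iff]
      exact ⟨⟨_, m, rfl⟩, Subtype.val_injective (by simpa using hm)⟩
    have hz : z ∈ Algebra.adjoin R (s b : Set (Localization.Away (b : B))) := hs b ▸ Algebra.mem_top
    induction hz using Algebra.adjoin_induction with
    | mem z hz =>
      have haz : a b z ∈ A := hA (Finset.mem_union_right _ (Finset.mem_biUnion.2
        ⟨b, Finset.mem_attach _ _, Finset.mem_image_of_mem _ hz⟩))
      refine ⟨IsLocalization.mk' _ (⟨a b z, haz⟩ : A) (⟨b' ^ n b z, n b z, rfl⟩ : Submonoid.powers b'), ?_⟩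
      rw [Localization.awayMap, IsLocalization.Away.map, IsLocalization.map_mk']
      rw [IsLocalization.mk'_eq_iff_eq_mul]
      have h2 := (ha b z).symm
      rw [← map_pow] at h2
      exact h2
    | algebraMap r =>
      refine ⟨algebraMap A _ (algebraMap R A r), ?_⟩
      rw [Localization.awayMap, IsLocalization.Away.map, IsLocalization.map_eq]
      exact (IsScalarTower.algebraMap_apply R B (Localization.Away (b : B)) r).symm
    | add x y _ _ hx hy =>
      obtain ⟨x, rfl⟩ := hx; obtain ⟨y, rfl⟩ := hy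
      exact ⟨x + y, map_add _ _ _⟩
    | mul x y _ _ hx hy =>
      obtain ⟨x, rfl⟩ := hx; obtain ⟨y, rfl⟩ := hy
      exact ⟨x * y, map_mul _ _ _⟩
  have : IsIso (θ ∣_ ⨆ b, V b) := by
    let 𝒰 := Scheme.Opens.iSupOpenCover V
    refine (IsZariskiLocalAtTarget.iff_of_openCover (P := .isomorphisms _) 𝒰).mpr fun b ↦ ?_
    refine (MorphismProperty.arrow_mk_iso_iff (.isomorphisms _)
      ((morphismRestrictRestrict ..).symm ≪≫ morphismRestrictOpensRange ..)).mp ?_
    have e : Scheme.Opens.ι _ ''ᵁ (𝒰.f b).opensRange = V b := by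
      simp only [Scheme.Opens.iSupOpenCover, 𝒰, ← Scheme.Hom.opensRange_comp, Scheme.homOfLE_ι,
        Scheme.Opens.opensRange_ι]
    rw [e]
    refine (MorphismProperty.arrow_mk_iso_iff (.isomorphisms Scheme)
      (SpecMapRestrictBasicOpenIso (CommRingCat.ofHom A.val.toRingHom) _)).2 ?_
    have : IsIso (CommRingCat.ofHom (Localization.awayMap A.val.toRingHom
        (⟨(show t from b).1, hA (Finset.mem_union_left _ (show t from b).2)⟩ : A))) :=
      (ConcreteCategory.isIso_iff_bijective _).2 (hbij b)
    change IsIso (Spec.map _)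
    infer_instance
  have hr : Set.range g ⊆ Set.range (θ ⁻¹ᵁ ⨆ b, V b).ι := by
    rw [Scheme.Opens.range_ι]
    intro x hx
    rw [← ht] at hx
    obtain ⟨b, hb, hbx⟩ := Set.not_subset.1 hx
    change θ x ∈ ⨆ b, V b
    exact Opens.mem_iSup.2 ⟨⟨b, hb⟩, hbx⟩
  have hl : IsOpenImmersion (IsOpenImmersion.lift (θ ⁻¹ᵁ ⨆ b, V b).ι g hr) :=
    have : IsOpenImmersion (IsOpenImmersion.lift (θ ⁻¹ᵁ ⨆ b, V b).ι g hr ≫ (θ ⁻¹ᵁ ⨆ b, V b).ι) := by
      rw [IsOpenImmersion.lift_fac]; infer_instance
    IsOpenImmersion.of_comp _ (θ ⁻¹ᵁ ⨆ b, V b).ι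
  have e : g ≫ θ = IsOpenImmersion.lift (θ ⁻¹ᵁ ⨆ b, V b).ι g hr ≫ (θ ∣_ ⨆ b, V b) ≫ (⨆ b, V b).ι := by
    rw [morphismRestrict_ι, IsOpenImmersion.lift_fac_assoc]
  change IsOpenImmersion (g ≫ θ)
  rw [e]
  infer_instance

end Groth.Agent.AlgSpQMod
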