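import Groth.Agent.AlgSpQMod.FiniteFp
import Groth.Agent.AlgSpQMod.SubOpen
import Groth.Agent.AlgSpQMod.GenStages
import Groth.Agent.AlgSpPts.OpenSub
import Groth.Agent.AlgSpDec.LimOpen
import Groth.Agent.AlgSpDec.PointsSpectral
import Groth.Agent.AlgSpLib.LargestOpen

/-!
# Quasi-affine morphisms of finite type embed in morphisms of finite presentation
-/

set_option autoImplicit false
set_option backward.isDefEq.respectTransparency false
set_option backward.isDefEq.respectTransparency.types false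
set_option maxHeartbeats 400000

universe u

open CategoryTheory CategoryTheory.Limits AlgebraicGeometry AlgSp Groth.Agent.AlgSpLib Groth.Agent.AlgSpDec

namespace Groth.Agent.AlgSpQMod

variable {S : Scheme.{u}} {X Y : Sp S}

/-- An open set around a compact set contains a compact open set around it. -/
theorem exists_compact_open {U : Over S} {a : (yon S).obj U ⟶ X} (ha : RepWith @Etale a)
    (has : RepWith @Surjective a) {K : Set (Points X)} (hK : IsCompact K) {O : Set (Points X)} (hO : IsOpen O)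
    (hKO : K ⊆ O) : ∃ Q : Set (Points X), IsOpen Q ∧ IsCompact Q ∧ K ⊆ Q ∧ Q ⊆ O := by
  classical
  let O' : U.left.Opens := ⟨Points.ofPt a ⁻¹' O, hO.preimage (Points.continuous_ofPt a)⟩
  let B := fun B : {B : U.left.affineOpens // B.1 ≤ O'} => Points.ofPt a '' (B.1.1 : Set U.left)
  have hBo : ∀ b, IsOpen (B b) := fun b => (Groth.Agent.AlgSpLib.isOpenMap_ofPt ha) _ b.1.1.2
  obtain ⟨s, hs⟩ := hK.elim_finite_subcover B hBo fun x hx => by
    obtain ⟨w, rfl⟩ := surjective_ofPt has x
    obtain ⟨V, hV, hwV, hVO⟩ := exists_isAffineOpen_mem_and_subset (U := O') (x := w) (hKO hx)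
    exact Set.mem_iUnion.2 ⟨⟨⟨V, hV⟩, hVO⟩, w, hwV, rfl⟩
  refine ⟨⋃ b ∈ s, B b, isOpen_biUnion fun b _ => hBo b,
    s.isCompact_biUnion fun b _ => (IsAffineOpen.isCompact b.1.2).image (Points.continuous_ofPt a), hs, ?_⟩
  simp only [Set.iUnion_subset_iff, B]
  rintro b - _ ⟨w, hw, rfl⟩
  exact b.2 hw

variable [QuasiSeparatedSpace ↥S]

theorem exists_open_affine_ft (hX : IsAlgSpace X) (hY : IsAlgSpace Y) (hqc : IsQuasiCompactSp Y)
    (hqs : IsQuasiSeparatedSp Y) {f : X ⟶ Y} (hf : IsQuasiAffineMor f) (hft : LocP @LocallyOfFiniteType f) :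
    ∃ (Z : Sp S) (ν : Z ⟶ Y) (j : X ⟶ Z) (hν : RepWith @IsAffineHom ν), IsAlgSpace Z ∧
      RepWith @IsOpenImmersion j ∧ j ≫ ν = f ∧
      ∀ c : Chart Y, LocallyOfFiniteType (preπ ν (qcqs_of_affine hν) c).left := by
  classical
  have hfr : RepWith (@QuasiCompact ⊓ @QuasiSeparated) f := repWith_mono (fun _ _ g hg => by
    haveI : IsSeparated g := hg.1
    exact ⟨hg.2, inferInstanceAs (QuasiSeparated g)⟩) _ (repWith_of_isQuasiAffineMor hf)
  obtain ⟨U, a, hU, hae, has⟩ := AlgSpDec.exists_affine_atlas hqc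
  obtain ⟨u, hu⟩ : ∃ u : Chart Y, RepWith @Surjective u.c := ⟨⟨U, hU, a, hae⟩, has⟩
  clear has hae hU a U
  haveI : (pre f hfr u).left.IsQuasiAffine := by
    obtain ⟨W, i, fst, sq, hW⟩ := hf (Z := u.W) u.aff u.c
    let e : pre f hfr u ≅ W := (yon S).preimageIso ((hfr.rep.isPullback u.c).isoIsPullback _ _ sq)
    haveI : IsIso e.hom.left := inferInstanceAs (IsIso ((Over.forget S).map e.hom))
    haveI := hW
    exact Scheme.IsQuasiAffine.of_isAffineHom e.hom.left
  haveI hlft : LocallyOfFiniteType (preπ f hfr u).left :=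
    ((locP_of_isPullback (hfr.rep.isPullback u.c) hX hY (IsAlgSpace.yon_obj u.W) hft) (𝟙 _) (𝟙 _)
      (preπ f hfr u) (AlgSp.repWith_id _ _) (AlgSp.repWith_id _ _) (by simp))
  let B := Γ((pre f hfr u).left, ⊤)
  let g : (pre f hfr u).left ⟶ Spec (.of B) := (pre f hfr u).left.toSpecΓ
  haveI : IsOpenImmersion g := inferInstanceAs (IsOpenImmersion (pre f hfr u).left.toSpecΓ)
  haveI hgq : QuasiCompact g := (quasiCompact_iff_compactSpace g).2 inferInstance
  haveI : LocallyOfFiniteType (g ≫ Spec.map (CommRingCat.ofHom (algebraMap u.R B))) := by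
    have e : g ≫ Spec.map (CommRingCat.ofHom (algebraMap u.R B)) = (preπ f hfr u).left ≫ u.W.left.isoSpec.hom :=
      (Scheme.toSpecΓ_naturality (preπ f hfr u).left).symm
    rw [e]; infer_instance
  obtain ⟨T, hT⟩ := exists_finset_isOpenImmersion g (R := u.R)
  obtain ⟨N, ⟨s, hs⟩, hTN, hst⟩ := exists_fg_stable (F := affMod f hfr) hY hqc hqs u T
  obtain ⟨Z, ν, m, f', hZ, sq, hf', hpf, hme, hms⟩ := exists_sub_space f hfr u hX hY hu N hst
  let A := Algebra.adjoin u.R (subSet f hfr u N)
  have hAfg : A.FG := by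
    refine ⟨(s : Finset B), le_antisymm (Algebra.adjoin_le fun y hy => ?_) (Algebra.adjoin_le ?_)⟩
    · exact Algebra.subset_adjoin (show y ∈ N from hs.le (Submodule.subset_span hy))
    · intro y hy
      have hy' : y ∈ Submodule.span u.R (s : Set ((affMod f hfr).M u)) := by rw [hs]; exact hy
      exact Algebra.span_le_adjoin _ _ hy'
  have hν : RepWith @IsAffineHom ν := repWith_isAffineHom_sub f hfr A sq hu
  refine ⟨Z, ν, f', hν, hZ, ?_, hf', fun c =>
    ((repWith_ft_sub f hfr A sq hu hAfg).2 c.c _ _ ((qcqs_of_affine hν).rep.isPullback c.c)).2⟩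
  have sq1 : IsPullback (hfr.rep.fst u.c) ((yon S).map (subg f hfr u A)) f' m := by
    refine IsPullback.of_bot ?_ hpf sq
    rw [← Functor.map_comp, subg_π, hf']
    exact hfr.rep.isPullback u.c
  have ho : IsOpenImmersion (subg f hfr u A).left :=
    hT A fun x hx => Algebra.subset_adjoin (R := u.R) (s := subSet f hfr u N) (hTN hx)
  exact AlgSpPts.descend_chart isLocalOnBase_fpqc_isOpenImmersion hX hZ hme hms sq1
    ((AlgSp.repWith_yon_map_iff _ _).2 ho)

/-- A quasi-affine morphism locally of finite type is a closed immersion followed by one of finite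
presentation. -/
theorem exists_closed_fp_quasiAffine (hX : IsAlgSpace X) (hY : IsAlgSpace Y) (hqc : IsQuasiCompactSp Y)
    (hqs : IsQuasiSeparatedSp Y) {f : X ⟶ Y} (hf : IsQuasiAffineMor f) (hft : LocP @LocallyOfFiniteType f) :
    ∃ (V : Sp S) (i : X ⟶ V) (g : V ⟶ Y), IsAlgSpace V ∧ i ≫ g = f ∧ RepWith @IsClosedImmersion i ∧
      IsFinitePresentationMor g := by
  classical
  obtain ⟨Z, ν, jX, hν, hZ, hjX, hjν, hftc⟩ := exists_open_affine_ft hX hY hqc hqs hf hft
  obtain ⟨W, w, hwa, ψ, hW, hψw, hψc, hfp⟩ := exists_closed_fp hY hqc hqs hZ hν hftc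
  have hwfp := isFinitePresentationMor_of_preπ hY hqc hW hwa hfp
  have hWqc := isQuasiCompactSp_of_affine hY w hwa hqc
  have hWqs := isQuasiSeparatedSp_of_affine w hwa hqs
  obtain ⟨U, a, hU, hae, has⟩ := AlgSpDec.exists_affine_atlas hWqc
  haveI : Mono ψ := mono_of_closed hψc
  -- the image of the complement is closed
  have hψcl : IsClosedMap (Points.map ψ) := AlgSpPts.isClosedMap_map (repWith_mono
    (fun _ _ e (_ : IsClosedImmersion e) => (inferInstance : UniversallyClosed e)) _ hψc)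
  let R := Set.range (Points.map jX)
  have hRo : IsOpen R := isOpen_range_openImm hZ hjX
  let O : Set (Points W) := (Points.map ψ '' Rᶜ)ᶜ
  have hO : IsOpen O := (hψcl _ hRo.isClosed_compl).isOpen_compl
  have hXqc : IsQuasiCompactSp X :=
    AlgSpPts.isQuasiCompactMor_of_repWith (repWith_mono (fun _ _ g hg => hg.2) _ (repWith_of_isQuasiAffineMor hf))
      hY hqc (𝟙 Y) (𝟙 X) f (IsPullback.of_horiz_isIso ⟨by simp⟩)
  haveI : CompactSpace (Points X) := (AlgSpPts.isQuasiCompactSp_iff hX).1 hXqc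
  have hKO : Set.range (Points.map (jX ≫ ψ)) ⊆ O := by
    rintro _ ⟨x, rfl⟩ ⟨z, hz, he⟩
    rw [Points.map_comp] at he
    exact hz ⟨x, (injective_points_map_of_mono ψ he).symm⟩
  obtain ⟨Q, hQo, hQc, hKQ, hQO⟩ := exists_compact_open hae has (isCompact_range (Points.continuous_map _)) hO hKO
  obtain ⟨V, j, hV, hj, hjr⟩ := AlgSpPts.exists_open_subspace hW hQo
  haveI := mono_of_openImm hj
  haveI : CompactSpace (Points V) := by
    refine ⟨?_⟩
    have hjo : Topology.IsInducing (Points.map j) := (isOpenEmbedding_map' hW hj).isInducing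
    rw [hjo.isCompact_iff, Set.image_univ, hjr]
    exact hQc
  have hVqc : IsQuasiCompactSp V := isQuasiCompactSp_of_compactSpace hV
  have hjqc : IsQuasiCompactMor j := AlgSpPts.isQuasiCompactMor_of_qc_qs hV hW hVqc hWqs j
  -- the pullback of `V` to `Z` is `X`
  let P := pullback ψ j
  have hfst : RepWith @IsOpenImmersion (pullback.fst ψ j) :=
    repWith_of_isPullback (IsPullback.of_hasPullback ψ j).flip hj
  have hsnd : RepWith @IsClosedImmersion (pullback.snd ψ j) :=
    repWith_of_isPullback (IsPullback.of_hasPullback ψ j) hψc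
  have hP : IsAlgSpace P := isAlgSpace_pullback hZ hV hW ψ j
  obtain ⟨l, hl⟩ : ∃ l : X ⟶ V, l ≫ j = jX ≫ ψ := exists_lift_openImmersion hX hV hW hj (jX ≫ ψ) (hjr.symm ▸ hKQ)
  let k : X ⟶ P := pullback.lift jX l hl.symm
  haveI := mono_of_openImm hfst
  have hk : RepWith @IsOpenImmersion k := by
    have sqk : IsPullback (𝟙 X) k jX (pullback.fst ψ j) :=
      ⟨⟨by simp [k]⟩, ⟨PullbackCone.IsLimit.mk _ (fun s => s.fst)
        (fun s => Category.comp_id _)
        (fun s => by rw [← cancel_mono (pullback.fst ψ j), Category.assoc, pullback.lift_fst, s.condition])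
        (fun s m h1 _ => by rw [← h1, Category.comp_id])⟩⟩
    exact repWith_of_isPullback sqk hjX
  haveI : IsIso k := isIso_of_openImm_surjective hP hk fun z => by
    have h1 : Points.map ψ (Points.map (pullback.fst ψ j) z) ∈ Q := by
      rw [← Points.map_comp, pullback.condition, Points.map_comp, ← hjr]
      exact ⟨_, rfl⟩
    obtain ⟨x, hx⟩ : Points.map (pullback.fst ψ j) z ∈ R := by
      by_contra h
      exact hQO h1 ⟨_, h, rfl⟩
    refine ⟨x, injective_points_map_of_mono (pullback.fst ψ j) ?_⟩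
    rw [← Points.map_comp, pullback.lift_fst, hx]
  have hlk : l = k ≫ pullback.snd ψ j := (pullback.lift_snd _ _ _).symm
  refine ⟨V, l, j ≫ w, hV, by rw [reassoc_of% hl, hψw, hjν], ?_, ?_⟩
  · rw [hlk]
    exact repWith_comp (repWith_of_isIso _ k) hsnd
  · have hjs : IsSeparatedMor j := isSeparatedMor_of_repWith (repWith_mono
      (fun _ _ e (_ : IsOpenImmersion e) => (inferInstance : IsSeparated e)) _ hj)
    refine ⟨locP_comp hV hW hY (locP_of_repWith (repWith_mono
      (fun _ _ e (_ : IsOpenImmersion e) => (inferInstance : LocallyOfFinitePresentation e)) _ hj)) hwfp.1, ?_, ?_⟩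
    · exact AlgSpPts.isQuasiCompactMor_comp hW hY hjqc hwfp.2.1
    · exact AlgSpPts.isQuasiSeparatedMor_comp (isQuasiSeparatedMor_of_isSeparatedMor hjs) hwfp.2.2

end Groth.Agent.AlgSpQMod
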