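import Groth.Agent.AlgSpQMod.IsoOverOpen
import Groth.Agent.AlgSpQMod.QuasiAffineFp

/-!
# Integral morphisms as limits of finite finitely presented ones, fixed over an open
-/

set_option autoImplicit false
set_option backward.isDefEq.respectTransparency false
set_option backward.isDefEq.respectTransparency.types false
set_option maxHeartbeats 400000

universe u

open CategoryTheory CategoryTheory.Limits AlgebraicGeometry AlgSp Groth.Agent.AlgSpLib Opposite

namespace Groth.Agent.AlgSpQMod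

variable {S : Scheme.{u}} [QuasiSeparatedSpace ↥S] {X Y V : Sp S}

/-- The trace of a quasi-compact open subspace on a chart is covered by finitely many basic opens inside it. -/
theorem exists_basicOpen_cover (hV : IsAlgSpace V) (hY : IsAlgSpace Y) (hqs : IsQuasiSeparatedSp Y) {j : V ⟶ Y}
    (hj : RepWith @IsOpenImmersion j) (hVqc : IsQuasiCompactSp V) (u : Chart Y) :
    ∃ s : Finset u.R, Set.range (hj.rep.snd u.c).left ⊆ ⋃ r : s, (u.W.left.basicOpen r.1 : Set u.W.left) ∧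
      ∀ r ∈ s, (u.W.left.basicOpen r : Set u.W.left) ⊆ Set.range (hj.rep.snd u.c).left := by
  classical
  haveI : CompactSpace ↥u.W.left := inferInstance
  have hUqc : IsQuasiCompactSp ((yon S).obj u.W) := by
    haveI : CompactSpace (Points ((yon S).obj u.W)) := (Points.schemeHomeo _).compactSpace
    exact (AlgSpPts.isQuasiCompactSp_iff (IsAlgSpace.yon_obj u.W)).2 ‹_›
  have hm := AlgSpPts.isQuasiCompactMor_of_qc_qs (IsAlgSpace.yon_obj u.W) hY hUqc hqs u.c
  have hP := hm hV hVqc j _ _ (hj.rep.isPullback u.c).flip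
  haveI : CompactSpace ↥(hj.rep.pullback u.c).left :=
    haveI := (AlgSpPts.isQuasiCompactSp_iff (IsAlgSpace.yon_obj _)).1 hP
    (Points.schemeHomeo (hj.rep.pullback u.c)).symm.compactSpace
  haveI : IsOpenImmersion (hj.rep.snd u.c).left := hj.property_snd u.c
  let O : u.W.left.Opens := (hj.rep.snd u.c).left.opensRange
  obtain ⟨s, hs⟩ := (isCompact_range (hj.rep.snd u.c).left.continuous).elim_finite_subcover
    (fun r : {r : u.R // (u.W.left.basicOpen r : Set u.W.left) ⊆ Set.range (hj.rep.snd u.c).left} =>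
      (u.W.left.basicOpen r.1 : Set u.W.left))
    (fun r => (u.W.left.basicOpen r.1).2) (fun w hw => by
      obtain ⟨g, hg, hwg⟩ := (isAffineOpen_top u.W.left).exists_basicOpen_le (V := O) ⟨w, hw⟩ trivial
      exact Set.mem_iUnion.2 ⟨⟨g, hg⟩, hwg⟩)
  refine ⟨s.image Subtype.val, fun w hw => ?_, fun r hr => ?_⟩
  · obtain ⟨r, hr, hwr⟩ := Set.mem_iUnion₂.1 (hs hw)
    exact Set.mem_iUnion.2 ⟨⟨r.1, Finset.mem_image_of_mem _ hr⟩, hwr⟩
  · obtain ⟨r', -, rfl⟩ := Finset.mem_image.1 hr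
    exact r'.2

/-- Finite fibre products containing given factors, as a system indexed by finite sets. -/
theorem exists_wide_system (hY : IsAlgSpace Y) {P : MorphismProperty Scheme.{u}} [P.IsMultiplicative]
    [P.IsStableUnderBaseChange] (hPA : P ≤ @IsAffineHom) {f : X ⟶ Y} {K : Type u} (W : K → Sp S)
    (w : ∀ k, W k ⟶ Y) (hw : ∀ k, IsGood P (w k)) (p : ∀ k, X ⟶ W k) (hp : ∀ k, p k ≫ w k = f) (E0 : Finset K) :
    ∃ (PE : Finset K → Sp S) (bE : ∀ E, PE E ⟶ Y) (_ : ∀ E, RepWith @IsAffineHom (bE E))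
      (_ : ∀ E, IsGood P (bE E)) (qX : ∀ E, X ⟶ PE E) (_ : ∀ E, qX E ≫ bE E = f)
      (pr : ∀ {E E' : Finset K}, E ⊆ E' → (PE E' ⟶ PE E))
      (_ : ∀ {E E' : Finset K} (h : E ⊆ E'), pr h ≫ bE E = bE E')
      (_ : ∀ E : Finset K, pr (Finset.Subset.refl E) = 𝟙 _)
      (_ : ∀ {E E' E'' : Finset K} (h : E ⊆ E') (h' : E' ⊆ E''), pr h' ≫ pr h = pr (h.trans h')),
      (∀ {E E' : Finset K} (h : E ⊆ E'), qX E' ≫ pr h = qX E) ∧
      (∀ (E : Finset K) (k : K), k ∈ E ∨ k ∈ E0 →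
        ∃ π : PE E ⟶ W k, π ≫ w k = bE E ∧ qX E ≫ π = p k) := by
  classical
  have hg := fun E : Finset K => isGood_widePullback w hPA hY hw (E ∪ E0)
  exact ⟨fun E => widePullback Y (fun k : (E ∪ E0 : Finset K) => W k) (fun k => w k),
    fun E => WidePullback.base (fun k : (E ∪ E0 : Finset K) => w k),
    fun E => repWith_mono hPA _ (hg E).2.1, hg,
    fun E => WidePullback.lift f (fun k : (E ∪ E0 : Finset K) => p k) (fun k => hp k),
    fun E => WidePullback.lift_base _ _ _ _,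
    fun {E E'} h => WidePullback.lift (WidePullback.base (fun k : (E' ∪ E0 : Finset K) => w k))
      (fun k => WidePullback.π (fun k : (E' ∪ E0 : Finset K) => w k) ⟨k.1, Finset.union_subset_union_left h k.2⟩)
      (fun k => WidePullback.π_arrow (fun k : (E' ∪ E0 : Finset K) => w k)
        ⟨k.1, Finset.union_subset_union_left h k.2⟩),
    fun h => WidePullback.lift_base _ _ _ _,
    fun E => WidePullback.hom_ext _ _ _ (fun k => by simp) (by simp),
    fun h h' => WidePullback.hom_ext _ _ _ (fun k => by simp) (by simp),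
    fun h => WidePullback.hom_ext _ _ _ (fun k => by simp) (by simp),
    fun E k hk => ⟨WidePullback.π (fun k : (E ∪ E0 : Finset K) => w k) ⟨k, Finset.mem_union.2 hk⟩,
      WidePullback.π_arrow (fun k : (E ∪ E0 : Finset K) => w k) _, WidePullback.lift_π _ _ _ _ _⟩⟩

/-- A stage killing the localized kernels agrees with the limit over the open. -/
theorem isIso_of_kills {Z Q : Sp S} {PV Pi : Sp S} {f : X ⟶ Y} (hfa : RepWith @IsAffineHom f) {t : Z ⟶ Y}
    (hta : RepWith @IsAffineHom t) {b : Q ⟶ Y} (hba : RepWith @IsAffineHom b) (h : X ⟶ Z) (hh : h ≫ t = f)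
    (φ : Z ⟶ Q) (hφ : φ ≫ b = t) (hφc : RepWith @IsClosedImmersion φ) (q : X ⟶ Q) (hq : q ≫ b = f)
    (hqφ : h ≫ φ = q) (hY : IsAlgSpace Y) (hX : IsAlgSpace X) (hZ : IsAlgSpace Z) (hV : IsAlgSpace V)
    {j : V ⟶ Y} (hj : RepWith @IsOpenImmersion j) {u : Chart Y} (hu : RepWith @Surjective u.c) (s : Finset u.R)
    (hs : Set.range (hj.rep.snd u.c).left ⊆ ⋃ r : s, (u.W.left.basicOpen r.1 : Set u.W.left))
    (hsur : ∀ r ∈ s, ∀ x, ∃ n : ℕ, (preπ f (qcqs_of_affine hfa) u).left.appTop.hom r ^ n * x ∈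
      Set.range (preFun (qcqs_of_affine hba) (qcqs_of_affine hfa) q hq u).left.appTop.hom)
    (T : ∀ r ∈ s, Finset (affChart hba u).R)
    (hk : ∀ r hr, ∀ x ∈ T r hr, (preFun (qcqs_of_affine hba) (qcqs_of_affine hta) φ hφ u).left.appTop.hom x = 0)
    (hT : ∀ r hr, ∀ y, (preFun (qcqs_of_affine hba) (qcqs_of_affine hfa) q hq u).left.appTop.hom y = 0 →
      ∃ m : ℕ, (preπ b (qcqs_of_affine hba) u).left.appTop.hom r ^ m * y ∈
        Ideal.span (T r hr : Set (affChart hba u).R))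
    {pv₁ : PV ⟶ X} {pv₂ : PV ⟶ V} (hPV : IsPullback pv₁ pv₂ f j) {q₁ : Pi ⟶ Z} {q₂ : Pi ⟶ V}
    (hPi : IsPullback q₁ q₂ t j) (k : PV ⟶ Pi) (hk₁ : k ≫ q₁ = pv₁ ≫ h) (hk₂ : k ≫ q₂ = pv₂) : IsIso k := by
  have hb := qcqs_of_affine hba
  have htq := qcqs_of_affine hta
  have hcomp := preFun_comp hb htq (qcqs_of_affine hfa) φ hφ h hh q hq hqφ u
  refine isIso_over_open hj hfa hta h hh hY hX hZ hV hu s hs (fun r hr x => ?_) (fun r hr y hy => ?_) hPV hPi k
    hk₁ hk₂
  · obtain ⟨n, z, hz⟩ := hsur r hr x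
    exact ⟨n, (preFun hb htq φ hφ u).left.appTop.hom z, (congrArg (fun m : pre f (qcqs_of_affine hfa) u ⟶
      pre b hb u => m.left.appTop.hom z) hcomp).trans hz⟩
  · haveI : IsAffineHom (preπ b hb u).left := hba.2 u.c _ _ (hb.rep.isPullback u.c)
    haveI : IsAffine (pre b hb u).left := isAffine_of_isAffineHom (preπ b hb u).left
    haveI : IsClosedImmersion (preFun hb htq φ hφ u).left := hφc.2 _ _ _ (isPullback_preFun hb htq φ hφ u)
    obtain ⟨z, rfl⟩ := (IsClosedImmersion.isAffine_surjective_of_isAffine (preFun hb htq φ hφ u).left).2 y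
    obtain ⟨m, hm⟩ := hT r hr z ((congrArg (fun m : pre f (qcqs_of_affine hfa) u ⟶
      pre b hb u => m.left.appTop.hom z) hcomp).symm.trans hy)
    refine ⟨m, ?_⟩
    have h0 : Ideal.span (T r hr : Set (affChart hba u).R) ≤
        RingHom.ker (preFun hb htq φ hφ u).left.appTop.hom := Ideal.span_le.2 fun x hx' => hk r hr x hx'
    have h1 : (preFun hb htq φ hφ u).left.appTop.hom ((preπ b hb u).left.appTop.hom r ^ m * z) = 0 := h0 hm
    rw [map_mul, map_pow] at h1
    rw [← congrArg (fun g : pre t htq u ⟶ u.W => g.left.appTop.hom r) (preFun_snd hb htq φ hφ u)]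
    exact h1

/-- An integral morphism, finite of finite presentation over a quasi-compact open, is a limit of finite finitely
presented morphisms fixed over the open. -/
theorem exists_finite_fp_limit_open (hX : IsAlgSpace X) (hY : IsAlgSpace Y) (hqc : IsQuasiCompactSp Y)
    (hqs : IsQuasiSeparatedSp Y) {f : X ⟶ Y} (hf : IsIntegralMor f) (hV : IsAlgSpace V) {j : V ⟶ Y}
    (hj : RepWith @IsOpenImmersion j) (hVqc : IsQuasiCompactSp V) {PV : Sp S} {pv₁ : PV ⟶ X} {pv₂ : PV ⟶ V}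
    (hPV : IsPullback pv₁ pv₂ f j) (hfin : IsFiniteMor pv₂) (hfp : LocP @LocallyOfFinitePresentation pv₂) :
    ∃ (I : Type u) (_ : Preorder I) (_ : IsDirected I (fun a b => a ≤ b)) (_ : Nonempty I) (D : Iᵒᵖ ⥤ Sp S)
      (t : D ⟶ (Functor.const Iᵒᵖ).obj Y) (c : Cone D) (_ : IsLimit c) (e : c.pt ≅ X),
      (∀ i, IsAlgSpace (D.obj i)) ∧ (∀ (i j : Iᵒᵖ) (φ : i ⟶ j), IsAffineMor (D.map φ)) ∧
      (∀ i, IsFiniteMor (t.app i) ∧ IsFinitePresentationMor (t.app i)) ∧
      (∀ i, e.inv ≫ c.π.app i ≫ t.app i = f) ∧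
      (∀ (i : Iᵒᵖ) (Pi : Sp S) (q₁ : Pi ⟶ D.obj i) (q₂ : Pi ⟶ V), IsPullback q₁ q₂ (t.app i) j →
        ∀ k : PV ⟶ Pi, k ≫ q₁ = pv₁ ≫ e.inv ≫ c.π.app i → k ≫ q₂ = pv₂ → IsIso k) := by
  classical
  have hfi := AlgSpDec.isIntegralMor_iff_repWith.1 hf
  have hfa : RepWith @IsAffineHom f :=
    repWith_mono (fun _ _ e (_ : IsIntegralHom e) => (inferInstance : IsAffineHom e)) _ hfi
  have hFA : (@IsFinite : MorphismProperty Scheme.{u}) ≤ @IsAffineHom :=
    fun _ _ g (_ : IsFinite g) => (inferInstance : IsAffineHom g)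
  obtain ⟨U, a, hU, hae, has⟩ := AlgSpDec.exists_affine_atlas hqc
  obtain ⟨u, hu⟩ : ∃ u : Chart Y, RepWith @Surjective u.c := ⟨⟨U, hU, a, hae⟩, has⟩
  clear has hae hU a U
  obtain ⟨s, hs, hs'⟩ := exists_basicOpen_cover hV hY hqs hj hVqc u
  choose W w p hw hp hW hfpW hx using exists_finite_stage hX hY hqc hqs hfi hfa u hu
  have hff := fun r (hr : r ∈ s) => awayMap_preπ hj hPV hfa hX hV hY u hfin hfp r (hs' r hr)
  choose G hG using fun r (hr : r ∈ s) => exists_lifts_of_finite_away _ r (hff r hr).1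
  let E0 : Finset Γ((pre f (qcqs_of_affine hfa) u).left, ⊤) := s.attach.biUnion fun r => G r.1 r.2
  have hwa := fun k => repWith_mono hFA _ (hw k)
  obtain ⟨PE, bE, hba, hg, qX, hqX, pr, hpr, hprid, hprc, hqpr, hproj⟩ :=
    exists_wide_system hY hFA W w (fun k => ⟨hW k, hw k, hfpW k⟩) p hp E0
  have hsur : ∀ E, ∀ r ∈ s, ∀ b, ∃ n : ℕ, (preπ f (qcqs_of_affine hfa) u).left.appTop.hom r ^ n * b ∈
      Set.range (preFun (qcqs_of_affine (hba E)) (qcqs_of_affine hfa) (qX E) (hqX E) u).left.appTop.hom := by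
    intro E r hr
    refine hG r hr _ _ (fun x hx' => ?_) fun x => ⟨(preπ (bE E) (qcqs_of_affine (hba E)) u).left.appTop.hom x,
      congrArg (fun m : pre f (qcqs_of_affine hfa) u ⟶ u.W => m.left.appTop.hom x)
        (preFun_snd (qcqs_of_affine (hba E)) (qcqs_of_affine hfa) (qX E) (hqX E) u)⟩
    obtain ⟨z, hz⟩ := hx x
    obtain ⟨π, hπ, hqπ⟩ := hproj E x (Or.inr (Finset.mem_biUnion.2 ⟨⟨r, hr⟩, Finset.mem_attach _ _, hx'⟩))
    refine ⟨(preFun (qcqs_of_affine (hwa x)) (qcqs_of_affine (hba E)) π hπ u).left.appTop.hom z, Eq.trans ?_ hz⟩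
    exact congrArg (fun m : pre f (qcqs_of_affine hfa) u ⟶ pre (w x) (qcqs_of_affine (hwa x)) u =>
      m.left.appTop.hom z) (preFun_comp (qcqs_of_affine (hwa x)) (qcqs_of_affine (hba E)) (qcqs_of_affine hfa) π hπ
        (qX E) (hqX E) (p x) (hp x) hqπ u)
  have hft : ∀ E, (preπ (bE E) (qcqs_of_affine (hba E)) u).left.appTop.hom.FiniteType := fun E => by
    haveI : IsFinite (preπ (bE E) (qcqs_of_affine (hba E)) u).left :=
      (hg E).2.1.2 u.c _ _ ((qcqs_of_affine (hba E)).rep.isPullback u.c)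
    haveI : IsAffine (pre (bE E) (qcqs_of_affine (hba E)) u).left :=
      isAffine_of_isAffineHom (preπ (bE E) (qcqs_of_affine (hba E)) u).left
    exact RingHom.Finite.finiteType ((HasAffineProperty.iff_of_isAffine (P := @IsFinite)).1 inferInstance).2
  choose T hT0 hTk using fun E r (hr : r ∈ s) =>
    exists_kills _ r (hff r hr).2 (preπ (bE E) (qcqs_of_affine (hba E)) u).left.appTop.hom
      (preFun (qcqs_of_affine (hba E)) (qcqs_of_affine hfa) (qX E) (hqX E) u).left.appTop.hom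
      (RingHom.ext fun x => congrArg (fun m : pre f (qcqs_of_affine hfa) u ⟶ u.W => m.left.appTop.hom x)
        (preFun_snd (qcqs_of_affine (hba E)) (qcqs_of_affine hfa) (qX E) (hqX E) u))
      (hft E) (hsur E r hr)
  obtain ⟨I, hI, hdir, hne, D, t, c, hc, e, hD, hDa, ht, he, hex⟩ := exists_system_limit_of hY hqc hqs
    (P := @IsFinite) (fun _ _ g (_ : IsClosedImmersion g) => (inferInstance : IsFinite g)) hfa u hu W w hwa p hp
    PE bE hba hg qX hqX pr hpr hprid hprc hqpr (fun E k hk => hproj E k (Or.inl hk))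
    (fun E => s.attach.biUnion fun r => T E r.1 r.2)
    (fun E x hx' => by
      obtain ⟨r, -, hxr⟩ := Finset.mem_biUnion.1 hx'
      exact hT0 E r.1 r.2 x hxr)
    (fun x => ⟨x, hx x⟩)
  refine ⟨I, hI, hdir, hne, D, t, c, hc, e, hD, hDa,
    fun i => ⟨AlgSpDec.isFiniteMor_iff_repWith.2 (ht i).1, (ht i).2⟩, he, fun i Pi q₁ q₂ hPi k hk₁ hk₂ => ?_⟩
  obtain ⟨E, φ, hti, hφ, hφc, hqφ, hkill⟩ := hex i
  exact isIso_of_kills hfa hti (hba E) (e.inv ≫ c.π.app i) (by rw [Category.assoc]; exact he i) φ hφ hφc (qX E)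
    (hqX E) (by rw [Category.assoc]; exact hqφ) hY hX (hD i) hV hj hu s hs (hsur E) (T E)
    (fun r hr x hx' => hkill x (Finset.mem_biUnion.2 ⟨⟨r, hr⟩, Finset.mem_attach _ _, hx'⟩)) (hTk E) hPV hPi k
    hk₁ hk₂

end Groth.Agent.AlgSpQMod
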