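import Groth.Agent.AlgSpQMod.QuasiAffineFp
import Groth.Agent.AlgSpDec.RedInduced
import Groth.Agent.AlgSpDec.IdealFactor
import Groth.Agent.AlgSpQMod.FiniteLimitOpen

/-!
# Quasi-compact opens are complements of finitely generated ideals
-/

set_option autoImplicit false
set_option backward.isDefEq.respectTransparency false
set_option backward.isDefEq.respectTransparency.types false
set_option maxHeartbeats 400000

universe u

open CategoryTheory CategoryTheory.Limits AlgebraicGeometry AlgSp Groth.Agent.AlgSpLib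

namespace Groth.Agent.AlgSpQMod

variable {S : Scheme.{u}} {X : Sp S}

/-- Points of a chart in the image of a representable map. -/
theorem ofPt_mem_range_iff {P : MorphismProperty Scheme.{u}} {Z : Sp S} {i : Z ⟶ X} (hi : RepWith P i) {W : Over S}
    (a : (yon S).obj W ⟶ X) (w : W.left) :
    Points.ofPt a w ∈ Set.range (Points.map i) ↔ w ∈ Set.range (hi.rep.snd a).left := by
  constructor
  · rintro ⟨z, hz⟩
    rw [Points.ofPt_eq_map_ofScheme] at hz
    obtain ⟨v, -, hv⟩ := exists_point_of_isPullback (hi.rep.isPullback a) hz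
    obtain ⟨p, rfl⟩ := (Points.schemeHomeo _).surjective v
    exact ⟨p, (Points.schemeHomeo W).injective ((Points.map_yon_map_apply (hi.rep.snd a) p).symm.trans hv)⟩
  · rintro ⟨p, rfl⟩
    refine ⟨Points.map (hi.rep.fst a) (Points.ofScheme _ p), ?_⟩
    rw [← Points.map_comp, (hi.rep.isPullback a).w, Points.map_comp, Points.ofPt_eq_map_ofScheme]
    exact congrArg (Points.map a) (Points.map_yon_map_apply (hi.rep.snd a) p)

/-- The range of a closed immersion into an affine scheme is the zero locus of the kernel on functions. -/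
theorem range_eq_zeroLocus {P D : Scheme.{u}} [IsAffine D] (i : P ⟶ D) [IsClosedImmersion i] :
    Set.range i = D.zeroLocus (U := ⊤) (RingHom.ker i.appTop.hom : Set Γ(D, ⊤)) := by
  haveI : IsAffine P := isAffine_of_isAffineHom i
  ext w
  rw [Scheme.zeroLocus_def]
  simp only [Set.mem_iInter, Set.mem_compl_iff, SetLike.mem_coe, RingHom.mem_ker]
  constructor
  · rintro ⟨p, rfl⟩ x hx hw
    have : p ∈ i ⁻¹ᵁ D.basicOpen x := hw
    rw [Scheme.preimage_basicOpen_top, hx, Scheme.basicOpen_zero] at this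
    exact this
  · intro h
    by_contra hw
    obtain ⟨g, hg, hwg⟩ := (isAffineOpen_top D).exists_basicOpen_le
      (V := ⟨(Set.range i)ᶜ, i.isClosedEmbedding.isClosed_range.isOpen_compl⟩) ⟨w, hw⟩ trivial
    have h0 : P.basicOpen (i.appTop.hom g) = ⊥ := by
      rw [← Scheme.preimage_basicOpen_top, eq_bot_iff]
      exact fun p hp => absurd ⟨p, rfl⟩ (hg hp)
    obtain ⟨n, hn⟩ := (Scheme.isNilpotent_iff_basicOpen_eq_bot _).2 h0
    refine h (g ^ n) (by rw [map_pow]; exact hn) ?_
    rcases Nat.eq_zero_or_pos n with h' | h'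
    · subst h'
      rw [pow_zero, Scheme.basicOpen_one]
      trivial
    · rw [Scheme.basicOpen_pow _ _ h']
      exact hwg

/-- An open subspace is quasi-compact when its complement is the zero locus of a finitely generated ideal. -/
theorem isQuasiCompactSp_of_complement {U : Sp S} (hU : IsAlgSpace U) (hX : IsAlgSpace X) (hqc : IsQuasiCompactSp X)
    {j : U ⟶ X} (hj : RepWith @IsOpenImmersion j) {Z : Sp S} {i : Z ⟶ X} (hi : RepWith @IsClosedImmersion i)
    (hfg : ∀ (E : EtOver X) (hE : IsAffine E.obj.left.left), ((idealOfRep hi.1).ideal E hE).FG)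
    (hc : Set.range (Points.map i) = (Set.range (Points.map j))ᶜ) : IsQuasiCompactSp U := by
  classical
  obtain ⟨A, a, hA, hae, has⟩ := AlgSpDec.exists_affine_atlas hqc
  let E : EtOver X := EtOver.mk a hae
  haveI : IsAffine E.obj.left.left := hA
  haveI : IsAffine A.left := hA
  obtain ⟨s, hs⟩ : (RingHom.ker (hi.rep.snd a).left.appTop.hom).FG := hfg E hA
  haveI : IsClosedImmersion (hi.rep.snd a).left := hi.property_snd a
  have hO : Points.ofPt a ⁻¹' Set.range (Points.map j) = ⋃ x ∈ s, (A.left.basicOpen x : Set A.left) := by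
    ext w
    rw [Set.mem_preimage, ← not_iff_not, ← Set.mem_compl_iff, ← hc, ofPt_mem_range_iff hi a w, range_eq_zeroLocus,
      show RingHom.ker (hi.rep.snd a).left.appTop.hom = Ideal.span (s : Set Γ(A.left, ⊤)) from hs.symm,
      Scheme.zeroLocus_span, Scheme.zeroLocus_def]
    simp
  have hcpt : IsCompact (Set.range (Points.map j)) := by
    have hsurj := surjective_ofPt has
    rw [← Set.image_preimage_eq (Set.range (Points.map j)) hsurj, hO]
    refine IsCompact.image ?_ (Points.continuous_ofPt a)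
    exact s.isCompact_biUnion fun x _ => ((isAffineOpen_top A.left).basicOpen x).isCompact
  haveI : CompactSpace (Points U) := by
    refine ⟨?_⟩
    rw [(AlgSpDec.isOpenEmbedding_map' hX hj).isInducing.isCompact_iff, Set.image_univ]
    exact hcpt
  exact isQuasiCompactSp_of_compactSpace hU

/-- The complement of a quasi-compact open is cut out by a finitely generated ideal. -/
theorem exists_ideal_complement [QuasiSeparatedSpace ↥S] {U : Sp S} (hU : IsAlgSpace U) (hX : IsAlgSpace X)
    (hqc : IsQuasiCompactSp X) (hqs : IsQuasiSeparatedSp X) {j : U ⟶ X} (hj : RepWith @IsOpenImmersion j)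
    (hUqc : IsQuasiCompactSp U) :
    ∃ (Z : Space S) (i : Z.obj ⟶ X) (hi : RepWith @IsClosedImmersion i), (idealOfRep hi.1).IsQCoh ∧
      (∀ (E : EtOver X) (hE : IsAffine E.obj.left.left), ((idealOfRep hi.1).ideal E hE).FG) ∧
      Set.range (Points.map i) = (Set.range (Points.map j))ᶜ := by
  classical
  obtain ⟨A, a, hA, hae, has⟩ := AlgSpDec.exists_affine_atlas hqc
  obtain ⟨u, hu⟩ : ∃ u : Chart X, RepWith @Surjective u.c := ⟨⟨A, hA, a, hae⟩, has⟩
  clear has hae hA a A
  obtain ⟨s, hs, hs'⟩ := exists_basicOpen_cover hU hX hqs hj hUqc u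
  obtain ⟨Z0, i0, hi0, hr0, ZU, q, hqe, hqs0, hred⟩ :=
    AlgSpDec.exists_reduced_induced hX (AlgSpDec.isOpen_range_openImm hX hj).isClosed_compl
  have hq0 := qcqs_of_affine (repWith_affine_of_closed hi0)
  haveI : IsClosedImmersion (preπ i0 hq0 u).left := hi0.2 u.c _ _ (hq0.rep.isPullback u.c)
  haveI : IsAffine (pre i0 hq0 u).left := isAffine_of_isAffineHom (preπ i0 hq0 u).left
  choose! n hn using fun r (hr : r ∈ s) => show ∃ n : ℕ, (preπ i0 hq0 u).left.appTop.hom r ^ n = 0 by
    refine (Scheme.isNilpotent_iff_basicOpen_eq_bot _).2 ?_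
    rw [← Scheme.preimage_basicOpen_top, eq_bot_iff]
    intro p hp
    obtain ⟨o, ho⟩ := hs' r hr hp
    have h1 : Points.ofPt u.c ((preπ i0 hq0 u).left p) ∈ Set.range (Points.map i0) :=
      (ofPt_mem_range_iff hq0 u.c _).2 ⟨p, rfl⟩
    rw [hr0] at h1
    exact h1 ((ofPt_mem_range_iff hj u.c _).2 ⟨o, ho⟩)
  obtain ⟨J, hJfg, hJker, hTJ, hJst⟩ := exists_fg_ideal i0 hq0 hX hqc hqs u (s.image fun r => r ^ (n r + 1))
    (fun x hx => by
      obtain ⟨r, hr, rfl⟩ := Finset.mem_image.1 hx
      rw [map_pow, pow_succ, hn r hr, zero_mul])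
  obtain ⟨W, i, q', h, hic, hifp, sq, hh⟩ := exists_closed_sub_fp hX hq0 hu hJfg hJst hJker
  refine ⟨W, i, hic, AlgSpDec.isQCoh_idealOfRep hic.1 hifp.2.1, fun E hE => ?_, ?_⟩
  · haveI : IsClosedImmersion (EtOver.bcπ hic.1 E).left := hic.property_snd _
    haveI : LocallyOfFinitePresentation (EtOver.bcπ hic.1 E).left :=
      (locP_of_isPullback (hic.rep.isPullback E.obj.hom) W.property hX (IsAlgSpace.yon_obj _) hifp.1) (𝟙 _) (𝟙 _)
        (EtOver.bcπ hic.1 E) (AlgSp.repWith_id _ _) (AlgSp.repWith_id _ _) (by simp)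
    haveI : IsAffine E.obj.left.left := hE
    exact fg_ker_of_lfp _
  · refine Set.Subset.antisymm ?_ ?_
    · rintro _ ⟨z, rfl⟩ hz
      obtain ⟨w, hw⟩ := surjective_ofPt hu (Points.map i z)
      obtain ⟨o, ho⟩ := (ofPt_mem_range_iff hj u.c w).1 (hw ▸ hz)
      obtain ⟨⟨r, hr⟩, hwr⟩ := Set.mem_iUnion.1 (hs ⟨o, ho⟩)
      obtain ⟨zw, hzw⟩ : ∃ zw, (idealι u J).left zw = w := by
        rw [Points.ofPt_eq_map_ofScheme] at hw
        obtain ⟨v, -, hv⟩ := exists_point_of_isPullback sq hw.symm
        obtain ⟨p, rfl⟩ := (Points.schemeHomeo _).surjective v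
        exact ⟨p, (Points.schemeHomeo u.W).injective ((Points.map_yon_map_apply (idealι u J) p).symm.trans hv)⟩
      have h1 : (idealι u J).left zw ∈ u.W.left.basicOpen (r ^ (n r + 1)) := by
        rw [Scheme.basicOpen_pow _ _ (Nat.succ_pos _), hzw]
        exact hwr
      have h2 : zw ∈ (idealι u J).left ⁻¹ᵁ u.W.left.basicOpen (r ^ (n r + 1)) := h1
      rw [Scheme.preimage_basicOpen_top, show (idealι u J).left.appTop.hom (r ^ (n r + 1)) = 0 from
        appTop_idealι_eq_zero u (hTJ (Finset.mem_image_of_mem _ hr)), Scheme.basicOpen_zero] at h2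
      exact h2
    · rw [← hr0, ← hh]
      rintro _ ⟨z, rfl⟩
      exact ⟨Points.map h z, (Points.map_comp _ _ _).symm⟩

end Groth.Agent.AlgSpQMod
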