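import Groth.Agent.AlgSpQMod.Built
import Groth.Agent.AlgSpDec.AffineRep
import Groth.Agent.AlgSpDec.QuasiAffineDescent

/-!
# The functions of a quasi-compact quasi-separated morphism as a module on charts
-/

set_option autoImplicit false
set_option backward.isDefEq.respectTransparency false
set_option backward.isDefEq.respectTransparency.types false
set_option maxHeartbeats 400000

universe u

open CategoryTheory CategoryTheory.Limits AlgebraicGeometry AlgSp Groth.Agent.AlgSpLib

namespace Groth.Agent.AlgSpQMod

/-- A cobase change of rings gives a base change of modules. -/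
theorem isBC_of_isPushout {A A' B B' : CommRingCat.{u}} {φ : A ⟶ A'} {a : A ⟶ B} {b : A' ⟶ B'} {g : B ⟶ B'}
    (h : IsPushout φ a b g) :
    letI : Module A B := a.hom.toAlgebra.toModule
    letI : Module A' B' := b.hom.toAlgebra.toModule
    IsBC φ.hom g.hom.toAddMonoidHom := by
  let _ : Algebra A A' := φ.hom.toAlgebra
  let _ : Algebra A B := a.hom.toAlgebra
  let _ : Algebra A' B' := b.hom.toAlgebra
  let _ : Algebra B B' := g.hom.toAlgebra
  let _ : Algebra A B' := ((algebraMap A' B').comp (algebraMap A A')).toAlgebra
  have : IsScalarTower A A' B' := .of_algebraMap_eq fun x => rfl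
  have : IsScalarTower A B B' := .of_algebraMap_eq fun x => congrArg (fun m : A ⟶ B' => m.hom x) h.w
  have hp : Algebra.IsPushout A A' B B' := CommRingCat.isPushout_iff_isPushout.1 h
  have hf : ∀ (r : A) (m : B), g.hom (r • m) = φ.hom r • g.hom m := fun r m => by
    change g.hom (a.hom r * m) = b.hom (φ.hom r) * g.hom m
    rw [map_mul]
    congr 1
    exact (congrArg (fun m : A ⟶ B' => m.hom r) h.w).symm
  refine ⟨hf, ?_⟩
  exact hp.out

variable {S : Scheme.{u}} {X Y : Sp S}

section

variable (f : X ⟶ Y) (hf : RepWith (@QuasiCompact ⊓ @QuasiSeparated) f)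

/-- The pullback of the source of an affine morphism to a chart. -/
noncomputable abbrev pre (c : Chart Y) : Over S := hf.rep.pullback c.c

/-- The projection to the chart. -/
noncomputable abbrev preπ (c : Chart Y) : pre f hf c ⟶ c.W := hf.rep.snd c.c

instance (c : Chart Y) : QuasiCompact (preπ f hf c).left := (hf.property_snd c.c).1

instance (c : Chart Y) : QuasiSeparated (preπ f hf c).left := (hf.property_snd c.c).2

instance (c : Chart Y) : CompactSpace (pre f hf c).left :=
  QuasiCompact.compactSpace_of_compactSpace (preπ f hf c).left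

instance (c : Chart Y) : QuasiSeparatedSpace (pre f hf c).left :=
  quasiSeparatedSpace_of_quasiSeparated (preπ f hf c).left

/-- The map induced by a morphism of charts. -/
noncomputable def preMap {d c : Chart Y} (h : Chart.Hom d c) : pre f hf d ⟶ pre f hf c :=
  hf.rep.lift (hf.rep.fst d.c) (preπ f hf d ≫ h.k) (by
    rw [Functor.map_comp, Category.assoc, h.w]; exact hf.rep.w d.c)

theorem preMap_fst {d c : Chart Y} (h : Chart.Hom d c) :
    (yon S).map (preMap f hf h) ≫ hf.rep.fst c.c = hf.rep.fst d.c :=
  hf.rep.lift_fst _ _ _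

theorem preMap_snd {d c : Chart Y} (h : Chart.Hom d c) : preMap f hf h ≫ preπ f hf c = preπ f hf d ≫ h.k :=
  hf.rep.lift_snd _ _ _

theorem isPullback_preMap {d c : Chart Y} (h : Chart.Hom d c) :
    IsPullback (preMap f hf h) (preπ f hf d) (preπ f hf c) h.k := by
  refine IsPullback.of_map (yon S) (preMap_snd f hf h) (IsPullback.of_right ?_ ?_ (hf.rep.isPullback c.c))
  · rw [preMap_fst, h.w]; exact hf.rep.isPullback d.c
  · rw [← Functor.map_comp, ← Functor.map_comp, preMap_snd]

theorem preMap_id (c : Chart Y) : preMap f hf (Chart.Hom.id c) = 𝟙 _ :=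
  hf.rep.hom_ext (by rw [preMap_fst]; simp) (by rw [preMap_snd]; simp [Chart.Hom.id])

theorem preMap_comp {e d c : Chart Y} (s : Chart.Hom e d) (h : Chart.Hom d c) :
    preMap f hf (s.comp h) = preMap f hf s ≫ preMap f hf h :=
  hf.rep.hom_ext (by rw [preMap_fst, Functor.map_comp, Category.assoc, preMap_fst, preMap_fst])
    (by rw [Category.assoc, preMap_snd, preMap_snd, reassoc_of% preMap_snd f hf s]; simp [Chart.Hom.comp])

/-- The module of functions of the morphism. -/
noncomputable def affMod : QMod.{u, u} Y where
  M c := Γ((pre f hf c).left, ⊤)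
  grp _ := inferInstance
  mod c := ((preπ f hf c).left.appTop.hom.toAlgebra).toModule
  map h := (preMap f hf h).left.appTop.hom.toAddMonoidHom
  map_id c x := by
    change (preMap f hf (Chart.Hom.id c)).left.appTop x = x
    rw [preMap_id]
    simp
  map_comp s h x := by
    change (preMap f hf (s.comp h)).left.appTop x = _
    rw [preMap_comp]
    simp
  bc {d c} h := by
    have sq : IsPullback (preMap f hf h).left (preπ f hf d).left (preπ f hf c).left h.k.left :=
      (isPullback_preMap f hf h).map (Over.forget S)
    haveI := h.etale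
    exact isBC_of_isPushout (AlgSpDec.isPushout_appTop sq).flip

end

end Groth.Agent.AlgSpQMod
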