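import Groth.Agent.AlgSpQMod.Glue
import Groth.Agent.AlgSpQMod.Affine

/-!
# Descending an affine scheme over a chart given by a subring stable under the relation
-/

set_option autoImplicit false
set_option backward.isDefEq.respectTransparency false
set_option backward.isDefEq.respectTransparency.types false
set_option maxHeartbeats 400000

universe u

open CategoryTheory CategoryTheory.Limits AlgebraicGeometry AlgSp Groth.Agent.AlgSpLib
open scoped TensorProduct

namespace Groth.Agent.AlgSpQMod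

/-- An injective map of algebras stays injective after a flat change of rings. -/
theorem injective_of_isPushout {A A' B B' C C' : CommRingCat.{u}} {φ : A ⟶ A'} {a : A ⟶ B} {a' : A' ⟶ B'}
    {i : B ⟶ B'} {c : A ⟶ C} {c' : A' ⟶ C'} {k : C ⟶ C'} (hB : IsPushout φ a a' i) (hC : IsPushout φ c c' k)
    (hφ : φ.hom.Flat) {j : B ⟶ C} {j' : B' ⟶ C'} (hj : a ≫ j = c) (hj' : a' ≫ j' = c') (hw : i ≫ j' = j ≫ k)
    (hinj : Function.Injective j.hom) : Function.Injective j'.hom := by
  let _ : Algebra A A' := φ.hom.toAlgebra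
  let _ : Algebra A B := a.hom.toAlgebra
  let _ : Algebra A' B' := a'.hom.toAlgebra
  let _ : Algebra B B' := i.hom.toAlgebra
  let _ : Algebra A C := c.hom.toAlgebra
  let _ : Algebra A' C' := c'.hom.toAlgebra
  let _ : Algebra C C' := k.hom.toAlgebra
  let _ : Algebra A B' := ((algebraMap A' B').comp (algebraMap A A')).toAlgebra
  let _ : Algebra A C' := ((algebraMap A' C').comp (algebraMap A A')).toAlgebra
  have : IsScalarTower A A' B' := .of_algebraMap_eq fun x => rfl
  have : IsScalarTower A A' C' := .of_algebraMap_eq fun x => rfl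
  have : IsScalarTower A B B' := .of_algebraMap_eq fun x => congrArg (fun m : A ⟶ B' => m.hom x) hB.w
  have : IsScalarTower A C C' := .of_algebraMap_eq fun x => congrArg (fun m : A ⟶ C' => m.hom x) hC.w
  have pB : Algebra.IsPushout A A' B B' := CommRingCat.isPushout_iff_isPushout.1 hB
  have pC : Algebra.IsPushout A A' C C' := CommRingCat.isPushout_iff_isPushout.1 hC
  haveI : Module.Flat A A' := hφ
  let ja : B →ₐ[A] C := { j.hom with commutes' := fun x => congrArg (fun m : A ⟶ C => m.hom x) hj }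
  let eB : A' ⊗[A] B ≃ₐ[A'] B' := Algebra.IsPushout.equiv A A' B B'
  let eC : A' ⊗[A] C ≃ₐ[A'] C' := Algebra.IsPushout.equiv A A' C C'
  have hi : Function.Injective (LinearMap.lTensor A' ja.toLinearMap) :=
    Module.Flat.lTensor_preserves_injective_linearMap ja.toLinearMap hinj
  have key : ∀ t, j'.hom (eB t) = eC (LinearMap.lTensor A' ja.toLinearMap t) := by
    intro t
    induction t using TensorProduct.induction_on with
    | zero => simp
    | add x y hx hy => simp only [map_add, hx, hy]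
    | tmul x y =>
      rw [LinearMap.lTensor_tmul]
      simp only [eB, eC, Algebra.IsPushout.equiv_tmul, Algebra.smul_def, map_mul]
      exact congrArg₂ (· * ·) (congrArg (fun m : A' ⟶ C' => m.hom x) hj') (congrArg (fun m : B ⟶ C' => m.hom y) hw)
  intro x y h
  obtain ⟨x, rfl⟩ := eB.surjective x
  obtain ⟨y, rfl⟩ := eB.surjective y
  rw [key, key] at h
  rw [hi (eC.injective h)]

variable {S : Scheme.{u}} {X Y : Sp S} {U P N : Over S} {π : P ⟶ U} {ν₀ : N ⟶ U} {g₀ : P ⟶ N}

/-- An open subscheme over the base. -/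
abbrev opn (T : Over S) (D : T.left.Opens) : Over S := Over.mk (D.ι ≫ T.hom)

/-- The inclusion of an open subscheme over the base. -/
abbrev opnι (T : Over S) (D : T.left.Opens) : opn T D ⟶ T := CategoryTheory.Over.homMk D.ι rfl

theorem appTop_injective_pullback [IsAffine U.left] [CompactSpace P.left] [QuasiSeparatedSpace P.left] [IsAffine N.left]
    (hg₀ : g₀ ≫ ν₀ = π) (hinj : Function.Injective g₀.left.appTop.hom) {T Q PT : Over S} [IsAffine T.left]
    {u : T ⟶ U} [Flat u.left] {x : Q ⟶ N} {ρ : Q ⟶ T} (sq : IsPullback x ρ ν₀ u) {xP : PT ⟶ P} {ρP : PT ⟶ T}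
    (sqT : IsPullback xP ρP π u) {g : PT ⟶ Q} (hgx : g ≫ x = xP ≫ g₀) (hgρ : g ≫ ρ = ρP) :
    Function.Injective g.left.appTop.hom := by
  have hN : IsPullback x.left ρ.left ν₀.left u.left := sq.map (Over.forget S)
  have hP : IsPullback xP.left ρP.left π.left u.left := sqT.map (Over.forget S)
  refine injective_of_isPushout (isPushout_appTop_of_isPullback hN).flip (AlgSpDec.isPushout_appTop hP).flip
    ((HasRingHomProperty.iff_of_isAffine (P := @Flat)).1 (inferInstance : Flat u.left)) ?_ ?_ ?_ hinj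
  · rw [← Scheme.Hom.comp_appTop, ← Over.comp_left, hg₀]
  · rw [← Scheme.Hom.comp_appTop, ← Over.comp_left, hgρ]
  · rw [← Scheme.Hom.comp_appTop, ← Scheme.Hom.comp_appTop, ← Over.comp_left, ← Over.comp_left, hgx]

/-- An affine scheme whose functions inject into those of the pullback dominates. -/
theorem dominates_of_injective [IsAffine U.left] [CompactSpace P.left] [QuasiSeparatedSpace P.left] [IsAffine N.left]
    (hg₀ : g₀ ≫ ν₀ = π) (hinj : Function.Injective g₀.left.appTop.hom) : Dominates π ν₀ g₀ := by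
  intro T Q PT u hu x ρ sq xP ρP sqT g hgx hgρ w a b _ _ hab
  refine Over.OverMorphism.ext (Scheme.hom_ext_of_forall _ _ fun z => ?_)
  obtain ⟨D, hD, hzD, -⟩ := exists_isAffineOpen_mem_and_subset (U := (⊤ : T.left.Opens)) (x := ρ.left z) trivial
  refine ⟨ρ.left ⁻¹ᵁ D, hzD, ?_⟩
  have : IsAffine (opn T D).left := hD
  let r : opn Q (ρ.left ⁻¹ᵁ D) ⟶ opn T D := CategoryTheory.Over.homMk (ρ.left ∣_ D) (by
    change _ ≫ D.ι ≫ T.hom = _ ≫ Q.hom
    rw [morphismRestrict_ι_assoc, Over.w ρ])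
  have sqD : IsPullback (opnι Q (ρ.left ⁻¹ᵁ D)) r ρ (opnι T D) :=
    IsPullback.of_map (Over.forget S) (Over.OverMorphism.ext (morphismRestrict_ι ρ.left D).symm)
      (isPullback_morphismRestrict ρ.left D).flip
  have sq' := sqD.paste_horiz sq
  have sqT' : IsPullback (pullback.fst ρP (opnι T D) ≫ xP) (pullback.snd ρP (opnι T D)) π (opnι T D ≫ u) :=
    (IsPullback.of_hasPullback _ _).paste_horiz sqT
  have : Flat (opnι T D ≫ u).left := by
    change Flat (D.ι ≫ u.left)
    infer_instance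
  obtain ⟨g', hg'x, hg'ρ⟩ := sqD.exists_lift (pullback.fst ρP (opnι T D) ≫ g) (pullback.snd ρP (opnι T D))
    (by rw [Category.assoc, hgρ, pullback.condition])
  have hi := appTop_injective_pullback hg₀ hinj sq' sqT' (g := g')
    (by rw [reassoc_of% hg'x, hgx, Category.assoc]) hg'ρ
  refine ext_of_isAffine ?_
  ext y
  apply hi
  have h2 := congrArg (fun m : pullback ρP (opnι T D) ⟶ N => m.left.appTop.hom y)
    (show g' ≫ opnι Q (ρ.left ⁻¹ᵁ D) ≫ a = g' ≫ opnι Q (ρ.left ⁻¹ᵁ D) ≫ b by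
      rw [reassoc_of% hg'x, reassoc_of% hg'x, hab])
  simpa using h2

variable {f : X ⟶ Y} {q : (yon S).obj U ⟶ Y} {p : (yon S).obj P ⟶ X}

/-- The subring of functions is stable under the relation of the chart. -/
def IsStable (p : (yon S).obj P ⟶ X) (π : P ⟶ U) (g₀ : P ⟶ N) (q : (yon S).obj U ⟶ Y) : Prop :=
  ∀ {T PT : Over S} (_ : IsAffine T.left) (a b : T ⟶ U) (_ : Etale a.left) (_ : Etale b.left)
    (_ : (yon S).map a ≫ q = (yon S).map b ≫ q) (xa xb : PT ⟶ P) (ρ : PT ⟶ T) (_ : IsPullback xa ρ π a)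
    (_ : IsPullback xb ρ π b) (_ : (yon S).map xa ≫ p = (yon S).map xb ≫ p) (z : Γ(N.left, ⊤)),
    (xb ≫ g₀).left.appTop.hom z ∈
      Subring.closure (Set.range ρ.left.appTop.hom ∪ Set.range (xa ≫ g₀).left.appTop.hom)

/-- A stable affine scheme has a transport. -/
theorem hasTransport_of_isStable [IsAffine U.left] [CompactSpace P.left] [QuasiSeparatedSpace P.left] [IsAffine N.left]
    (hg₀ : g₀ ≫ ν₀ = π) (hinj : Function.Injective g₀.left.appTop.hom)
    (sqP : IsPullback p ((yon S).map π) f q) (hqe : RepWith @Etale q) (hst : IsStable p π g₀ q) :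
    HasTransport p π ν₀ g₀ q := by
  intro R t s sqR A PR x ρ sq xP ρP sqT g hgx hgρ xs hxs1 hxs2
  have hdom : Dominates π ν₀ g₀ := dominates_of_injective hg₀ hinj
  have hte : Etale t.left := hqe.property _ _ _ sqR.flip
  have hse : Etale s.left := hqe.property _ _ _ sqR
  have key : ∀ D : R.left.affineOpens, ∃ sD : opn A (ρ.left ⁻¹ᵁ D.1) ⟶ N,
      sD ≫ ν₀ = opnι A (ρ.left ⁻¹ᵁ D.1) ≫ ρ ≫ s ∧
      ∀ {W : Over S} (j : W ⟶ opn A (ρ.left ⁻¹ᵁ D.1)) (l : W ⟶ PR),
        l ≫ g = j ≫ opnι A (ρ.left ⁻¹ᵁ D.1) → j ≫ sD = l ≫ xs ≫ g₀ := by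
    intro D
    have : IsAffine (opn R D.1).left := D.2
    let r : opn A (ρ.left ⁻¹ᵁ D.1) ⟶ opn R D.1 := CategoryTheory.Over.homMk (ρ.left ∣_ D.1) (by
      change _ ≫ D.1.ι ≫ R.hom = _ ≫ A.hom
      rw [morphismRestrict_ι_assoc, Over.w ρ])
    let ιD := opnι R D.1
    let ιA := opnι A (ρ.left ⁻¹ᵁ D.1)
    have sqD : IsPullback ιA r ρ ιD :=
      IsPullback.of_map (Over.forget S) (Over.OverMorphism.ext (morphismRestrict_ι ρ.left D.1).symm)
        (isPullback_morphismRestrict ρ.left D.1).flip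
    have sq' := sqD.paste_horiz sq
    let PD := pullback ρP ιD
    have sqF : IsPullback (pullback.fst ρP ιD) (pullback.snd ρP ιD) ρP ιD := IsPullback.of_hasPullback _ _
    have sqT' := sqF.paste_horiz sqT
    have hFt : Etale (ιD ≫ t).left := inferInstanceAs (Etale (D.1.ι ≫ t.left))
    have hFs : Etale (ιD ≫ s).left := inferInstanceAs (Etale (D.1.ι ≫ s.left))
    obtain ⟨gD, hgDx, hgDρ⟩ := sqD.exists_lift (pullback.fst ρP ιD ≫ g) (pullback.snd ρP ιD)
      (by rw [Category.assoc, hgρ, sqF.w])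
    have hi := appTop_injective_pullback hg₀ hinj sq' sqT' (g := gD)
      (by rw [reassoc_of% hgDx, hgx, Category.assoc]) hgDρ
    have : IsAffineHom ν₀.left := isAffineHom_of_isAffine _
    have : IsAffine (opn A (ρ.left ⁻¹ᵁ D.1)).left := by
      have : IsAffineHom ρ.left := MorphismProperty.of_isPullback (sq.map (Over.forget S)) ‹IsAffineHom ν₀.left›
      exact D.2.preimage ρ.left
    -- the square for the second map
    have sqS : IsPullback (pullback.fst ρP ιD ≫ xs) (pullback.snd ρP ιD) π (ιD ≫ s) := by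
      refine IsPullback.of_map (yon S) (by rw [Category.assoc, hxs2, sqF.w_assoc]) ?_
      refine IsPullback.of_right (h₁₂ := p) (h₂₂ := q) ?_ (by rw [← Functor.map_comp, ← Functor.map_comp,
        Category.assoc, hxs2, sqF.w_assoc]) sqP
      rw [Functor.map_comp, Category.assoc, hxs1, (yon S).map_comp ιD s, Category.assoc, ← sqR.w]
      simpa [Category.assoc] using (sqT'.map (yon S)).paste_horiz sqP
    have hmem : ∀ z : Γ(N.left, ⊤), ((pullback.fst ρP ιD ≫ xs) ≫ g₀).left.appTop.hom z ∈ gD.left.appTop.hom.range :=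
      fun z => by
        refine Subring.closure_le.2 ?_ (hst ‹_› (ιD ≫ t) (ιD ≫ s) hFt hFs
          (by rw [Functor.map_comp, Functor.map_comp, Category.assoc, Category.assoc, sqR.w]) _ _ _ sqT' sqS
          (by rw [Functor.map_comp, Functor.map_comp, Category.assoc, Category.assoc, hxs1]) z)
        rintro y (⟨y, rfl⟩ | ⟨y, rfl⟩)
        · exact ⟨r.left.appTop.hom y, by
            simpa using congrArg (fun m : PD ⟶ opn R D.1 => m.left.appTop.hom y) hgDρ⟩
        · refine ⟨(ιA ≫ x).left.appTop.hom y, ?_⟩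
          have h2 : gD ≫ ιA ≫ x = (pullback.fst ρP ιD ≫ xP) ≫ g₀ := by
            rw [reassoc_of% hgDx, hgx, Category.assoc]
          simpa using congrArg (fun m : PD ⟶ N => m.left.appTop.hom y) h2
    let φ : Γ(N.left, ⊤) →+* Γ((opn A (ρ.left ⁻¹ᵁ D.1)).left, ⊤) :=
      (RingEquiv.ofLeftInverse (Function.leftInverse_invFun hi)).symm.toRingHom.comp
        (RingHom.codRestrict ((pullback.fst ρP ιD ≫ xs) ≫ g₀).left.appTop.hom gD.left.appTop.hom.range hmem)
    have hφ : ∀ z, gD.left.appTop.hom (φ z) = ((pullback.fst ρP ιD ≫ xs) ≫ g₀).left.appTop.hom z := fun z => by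
      have := (RingEquiv.ofLeftInverse (Function.leftInverse_invFun hi)).apply_symm_apply
        (RingHom.codRestrict ((pullback.fst ρP ιD ≫ xs) ≫ g₀).left.appTop.hom gD.left.appTop.hom.range hmem z)
      exact congrArg Subtype.val this
    obtain ⟨l, hl⟩ : ∃ l : (opn A (ρ.left ⁻¹ᵁ D.1)).left ⟶ N.left, l.appTop = CommRingCat.ofHom φ :=
      ⟨(opn A (ρ.left ⁻¹ᵁ D.1)).left.toSpecΓ ≫ Spec.map (CommRingCat.ofHom φ) ≫ N.left.isoSpec.inv, by
        simp [Scheme.isoSpec, Scheme.Hom.comp_appTop]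
        exact congrArg (· ≫ CommRingCat.ofHom φ) (Scheme.toSpecΓ_appTop N.left).symm⟩
    have hlν : l ≫ ν₀.left = (ιA ≫ ρ ≫ s).left := by
      refine ext_of_isAffine ?_
      ext y
      apply hi
      have h2 : gD ≫ ιA ≫ ρ ≫ s = ((pullback.fst ρP ιD ≫ xs) ≫ g₀) ≫ ν₀ := by
        simp only [Category.assoc, hg₀, hxs2, reassoc_of% hgDx, reassoc_of% hgρ]
      rw [Scheme.Hom.comp_appTop, hl]
      refine (hφ _).trans ?_
      exact (congrArg (fun m : PD ⟶ U => m.left.appTop.hom y) h2).symm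
    let sD : opn A (ρ.left ⁻¹ᵁ D.1) ⟶ N := CategoryTheory.Over.homMk l (by
      rw [← Over.w ν₀, reassoc_of% hlν]
      exact Over.w (ιA ≫ ρ ≫ s))
    have hgs : gD ≫ sD = (pullback.fst ρP ιD ≫ xs) ≫ g₀ := Over.OverMorphism.ext (ext_of_isAffine (by
      ext z
      change gD.left.appTop.hom (sD.left.appTop.hom z) = _
      rw [show sD.left.appTop = CommRingCat.ofHom φ from hl]
      exact hφ z))
    refine ⟨sD, Over.OverMorphism.ext hlν, fun j l hjl => ?_⟩
    obtain ⟨m, hm1, hm2⟩ := sqF.exists_lift l (j ≫ r)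
      (by rw [Category.assoc, ← sqD.w, ← reassoc_of% hjl, hgρ])
    have : j = m ≫ gD := sqD.hom_ext (by rw [Category.assoc, hgDx, reassoc_of% hm1, hjl])
      (by rw [Category.assoc, hgDρ, hm2])
    rw [this, Category.assoc, hgs, Category.assoc, reassoc_of% hm1]
  choose sD hsD hsD' using key
  have hU : TopologicalSpace.IsOpenCover fun D : R.left.affineOpens => ρ.left ⁻¹ᵁ D.1 :=
    (ρ.left.preimage_iSup _).symm.trans (by rw [iSup_affineOpens_eq_top]; rfl)
  let C := A.left.openCoverOfIsOpenCover _ hU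
  have hag : ∀ D E : R.left.affineOpens, pullback.fst (C.f D) (C.f E) ≫ (sD D).left =
      pullback.snd (C.f D) (C.f E) ≫ (sD E).left := by
    intro D E
    let W : Over S := opn R (D.1 ⊓ E.1)
    let ιW := opnι R (D.1 ⊓ E.1)
    let Q := pullback ρ ιW
    have sqW : IsPullback (pullback.fst ρ ιW ≫ x) (pullback.snd ρ ιW) ν₀ (ιW ≫ t) :=
      (IsPullback.of_hasPullback _ _).paste_horiz sq
    have sqPW : IsPullback (pullback.fst ρP ιW ≫ xP) (pullback.snd ρP ιW) π (ιW ≫ t) :=
      (IsPullback.of_hasPullback _ _).paste_horiz sqT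
    obtain ⟨gW, hgW1, hgW2⟩ := (IsPullback.of_hasPullback ρ ιW).exists_lift (pullback.fst ρP ιW ≫ g)
      (pullback.snd ρP ιW) (by rw [Category.assoc, hgρ, pullback.condition])
    have hWD : ∀ F : R.left.affineOpens, D.1 ⊓ E.1 ≤ F.1 → ∃ j : Q ⟶ opn A (ρ.left ⁻¹ᵁ F.1),
        j ≫ opnι A (ρ.left ⁻¹ᵁ F.1) = pullback.fst ρ ιW := fun F hF => by
      refine ⟨CategoryTheory.Over.homMk (IsOpenImmersion.lift (ρ.left ⁻¹ᵁ F.1).ι (pullback.fst ρ ιW).left ?_) ?_,
        Over.OverMorphism.ext (IsOpenImmersion.lift_fac _ _ _)⟩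
      · rintro _ ⟨z, rfl⟩
        refine (ρ.left ⁻¹ᵁ F.1).range_ι.symm.subset (hF ?_)
        have h2 := congrArg (fun m : Q ⟶ R => m.left z) (pullback.condition (f := ρ) (g := ιW))
        change ρ.left ((pullback.fst ρ ιW).left z) ∈ D.1 ⊓ E.1
        refine (show _ = _ from h2) ▸ ?_
        exact ((pullback.snd ρ ιW).left z).2
      · change IsOpenImmersion.lift _ _ _ ≫ (ρ.left ⁻¹ᵁ F.1).ι ≫ A.hom = _
        rw [IsOpenImmersion.lift_fac_assoc, Over.w]
    obtain ⟨jD, hjD⟩ := hWD D inf_le_left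
    obtain ⟨jE, hjE⟩ := hWD E inf_le_right
    have he : jD ≫ sD D = jE ≫ sD E := by
      refine hdom (ιW ≫ t) (inferInstanceAs (Etale ((D.1 ⊓ E.1).ι ≫ t.left))) _ _ sqW _ _ sqPW gW
        (by rw [reassoc_of% hgW1, hgx, Category.assoc]) hgW2 (ιW ≫ s) _ _ ?_ ?_ ?_
      · rw [Category.assoc, hsD, reassoc_of% hjD, pullback.condition_assoc]
      · rw [Category.assoc, hsD, reassoc_of% hjE, pullback.condition_assoc]
      · rw [← Category.assoc, ← Category.assoc, hsD' D (gW ≫ jD) (pullback.fst ρP ιW) (by rw [Category.assoc, hjD, hgW1]),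
          hsD' E (gW ≫ jE) (pullback.fst ρP ιW) (by rw [Category.assoc, hjE, hgW1])]
    let κ := pullback.fst (C.f D) (C.f E) ≫ C.f D
    have hκ : ∀ z, ρ.left (κ z) ∈ D.1 ⊓ E.1 := fun z => by
      refine ⟨(pullback.fst (C.f D) (C.f E) z).2, ?_⟩
      have h2 : κ = pullback.snd (C.f D) (C.f E) ≫ C.f E := pullback.condition
      rw [h2]
      exact (pullback.snd (C.f D) (C.f E) z).2
    let K : Over S := Over.mk (κ ≫ A.hom)
    obtain ⟨v, hv1, hv2⟩ := ((IsPullback.of_hasPullback ρ ιW).map (Over.forget S)).exists_lift κ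
      (IsOpenImmersion.lift (D.1 ⊓ E.1).ι (κ ≫ ρ.left) (by
        rintro _ ⟨z, rfl⟩; exact (D.1 ⊓ E.1).range_ι.symm.subset (hκ z)))
      (IsOpenImmersion.lift_fac _ _ _).symm
    have e1 : v ≫ jD.left = pullback.fst (C.f D) (C.f E) := by
      rw [← cancel_mono (C.f D), Category.assoc]
      exact (congrArg (v ≫ ·) (congrArg Over.Hom.left hjD)).trans hv1
    have e2 : v ≫ jE.left = pullback.snd (C.f D) (C.f E) := by
      rw [← cancel_mono (C.f E), Category.assoc]
      exact ((congrArg (v ≫ ·) (congrArg Over.Hom.left hjE)).trans hv1).trans pullback.condition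
    rw [← e1, ← e2, Category.assoc, Category.assoc]
    exact congrArg (v ≫ ·) (congrArg Over.Hom.left he)
  let σ : A.left ⟶ N.left := C.glueMorphisms (fun D => (sD D).left) hag
  have hσ : ∀ D, C.f D ≫ σ = (sD D).left := fun D => C.ι_glueMorphisms _ hag D
  let sN : A ⟶ N := CategoryTheory.Over.homMk σ (C.hom_ext _ _ fun D => by
    rw [reassoc_of% hσ D]
    exact Over.w (sD D))
  refine ⟨sN, Over.OverMorphism.ext (C.hom_ext _ _ fun D => ?_), Over.OverMorphism.ext (Scheme.hom_ext_of_forall _ _ fun z => ?_)⟩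
  · change C.f D ≫ σ ≫ ν₀.left = _
    rw [reassoc_of% hσ D]
    exact congrArg Over.Hom.left (hsD D)
  · obtain ⟨D, hD, hzD, -⟩ := exists_isAffineOpen_mem_and_subset (U := (⊤ : R.left.Opens)) (x := ρ.left (g.left z)) trivial
    refine ⟨g.left ⁻¹ᵁ (ρ.left ⁻¹ᵁ D), hzD, ?_⟩
    let j : opn PR (g.left ⁻¹ᵁ (ρ.left ⁻¹ᵁ D)) ⟶ opn A (ρ.left ⁻¹ᵁ D) :=
      CategoryTheory.Over.homMk (g.left ∣_ (ρ.left ⁻¹ᵁ D)) (by
        change _ ≫ (ρ.left ⁻¹ᵁ D).ι ≫ A.hom = _ ≫ PR.hom
        rw [morphismRestrict_ι_assoc, Over.w g])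
    have h2 := congrArg Over.Hom.left (hsD' ⟨D, hD⟩ j (opnι PR _)
      (Over.OverMorphism.ext (morphismRestrict_ι g.left (ρ.left ⁻¹ᵁ D)).symm))
    change _ ≫ g.left ≫ σ = _ ≫ (xs ≫ g₀).left
    rw [← morphismRestrict_ι_assoc]
    exact (congrArg (g.left ∣_ (ρ.left ⁻¹ᵁ D) ≫ ·) (hσ ⟨D, hD⟩)).trans h2

end Groth.Agent.AlgSpQMod
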