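import Groth.Agent.AlgSpQMod.FpClosed

/-!
# Limits of systems of spaces affine over a base are tested on a chart
-/

set_option autoImplicit false
set_option backward.isDefEq.respectTransparency false
set_option backward.isDefEq.respectTransparency.types false
set_option maxHeartbeats 400000

universe u

open CategoryTheory CategoryTheory.Limits AlgebraicGeometry AlgSp Groth.Agent.AlgSpLib Opposite

namespace Groth.Agent.AlgSpQMod

variable {S : Scheme.{u}} {Y : Sp S}

/-- A map into an affine scheme over the base is given by a ring map. -/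
theorem exists_over_of_ringHom {U P T : Over S} [IsAffine U.left] [IsAffine P.left] (π : P ⟶ U) (v : T ⟶ U)
    (φ : Γ(P.left, ⊤) →+* Γ(T.left, ⊤)) (h : ∀ r, φ (π.left.appTop.hom r) = v.left.appTop.hom r) :
    ∃ l : T ⟶ P, l ≫ π = v ∧ ∀ x, l.left.appTop.hom x = φ x := by
  obtain ⟨l, hl⟩ : ∃ l : T.left ⟶ P.left, l.appTop = CommRingCat.ofHom φ :=
    ⟨T.left.toSpecΓ ≫ Spec.map (CommRingCat.ofHom φ) ≫ P.left.isoSpec.inv, by
      simp [Scheme.isoSpec, Scheme.Hom.comp_appTop]
      exact congrArg (· ≫ CommRingCat.ofHom φ) (Scheme.toSpecΓ_appTop _).symm⟩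
  have e : l ≫ π.left = v.left := by
    refine ext_of_isAffine ?_
    ext r
    change l.appTop.hom (π.left.appTop.hom r) = v.left.appTop.hom r
    rw [hl]
    exact h r
  exact ⟨CategoryTheory.Over.homMk l (by rw [← Over.w π, reassoc_of% e]; exact Over.w v),
    Over.OverMorphism.ext e, fun x => by
      change l.appTop.hom x = _
      rw [hl]; rfl⟩

variable {I : Type u} [Preorder I] {D : Iᵒᵖ ⥤ Sp S} (t : D ⟶ (Functor.const Iᵒᵖ).obj Y)

theorem trans_comp {i j : I} (h : i ≤ j) : D.map (homOfLE h).op ≫ t.app (op i) = t.app (op j) := by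
  simpa using t.naturality (homOfLE h).op

/-- A cone of spaces affine over the base is a limit when it is one on functions over a covering chart. -/
theorem nonempty_isLimit_of_chart [IsDirected I (fun a b => a ≤ b)] [Nonempty I]
    (ht : ∀ i, RepWith @IsAffineHom (t.app i)) {c : Cone D} (g : c.pt ⟶ Y) (hga : RepWith @IsAffineHom g)
    (hgc : ∀ i, c.π.app i ≫ t.app i = g) (u : Chart Y) (hu : RepWith @Surjective u.c)
    (hsurj : ∀ x : Γ((pre g (qcqs_of_affine hga) u).left, ⊤), ∃ (i : I) (z : _),
      (preFun (qcqs_of_affine (ht (op i))) (qcqs_of_affine hga) (c.π.app (op i)) (hgc (op i)) u).left.appTop.hom z = x)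
    (hinj : ∀ (i : I) (z : _),
      (preFun (qcqs_of_affine (ht (op i))) (qcqs_of_affine hga) (c.π.app (op i)) (hgc (op i)) u).left.appTop.hom z = 0 →
      ∃ (j : I) (h : i ≤ j), (preFun (qcqs_of_affine (ht (op i))) (qcqs_of_affine (ht (op j)))
        (D.map (homOfLE h).op) (trans_comp t h) u).left.appTop.hom z = 0) :
    Nonempty (IsLimit c) := by
  classical
  have hg := qcqs_of_affine hga
  haveI : IsAffineHom (preπ g hg u).left := hga.2 u.c _ _ (hg.rep.isPullback u.c)
  haveI : IsAffine (pre g hg u).left := isAffine_of_isAffineHom (preπ g hg u).left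
  have hq := fun i : I => qcqs_of_affine (ht (op i))
  haveI : ∀ i : I, IsAffine (pre (t.app (op i)) (hq i) u).left := fun i => by
    haveI : IsAffineHom (preπ (t.app (op i)) (hq i) u).left := (ht (op i)).2 u.c _ _ ((hq i).rep.isPullback u.c)
    exact isAffine_of_isAffineHom (preπ (t.app (op i)) (hq i) u).left
  let π := fun i : I => preFun (hq i) hg (c.π.app (op i)) (hgc (op i)) u
  let k : c.pt ⟶ limit D := limit.lift D c
  haveI : Mono k := mono_of_yon_injective fun T a b hab => by
    have hab' : ∀ i : I, a ≫ c.π.app (op i) = b ≫ c.π.app (op i) := fun i => by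
      rw [← limit.lift_π c (op i), reassoc_of% hab]
    have e : a ≫ g = b ≫ g := by
      rw [← hgc (op (Classical.arbitrary I)), reassoc_of% hab' _]
    let v := u.et.rep.fst' (a ≫ g)
    let q := u.et.rep.snd (a ≫ g)
    haveI : Etale q.left := u.et.property_snd (a ≫ g)
    haveI : Surjective q.left := hu.2 _ _ _ (u.et.rep.isPullback (a ≫ g))
    have hv := (u.et.rep.isPullback' (a ≫ g)).w
    refine hom_ext_of_fppf q (fppf_of_etale q.left) a b ?_
    let a' := hg.rep.lift ((yon S).map q ≫ a) v (by rw [Category.assoc]; exact hv.symm)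
    let b' := hg.rep.lift ((yon S).map q ≫ b) v (by rw [Category.assoc, ← e]; exact hv.symm)
    have ha : ∀ i, a' ≫ π i = b' ≫ π i := fun i => (hq i).rep.hom_ext
      (by
        simp only [π, Functor.map_comp, Category.assoc, preFun_fst]
        rw [reassoc_of% hg.rep.lift_fst ((yon S).map q ≫ a) v _, reassoc_of% hg.rep.lift_fst ((yon S).map q ≫ b) v _,
          hab'])
      (by simp only [π, Category.assoc, preFun_snd, a', b', hg.rep.lift_snd])
    have : a' = b' := Over.OverMorphism.ext (ext_of_isAffine (CommRingCat.hom_ext (RingHom.ext fun x => by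
      obtain ⟨i, z, rfl⟩ := hsurj x
      exact congrArg (fun m : u.et.rep.pullback (a ≫ g) ⟶ pre (t.app (op i)) (hq i) u => m.left.appTop.hom z) (ha i))))
    rw [← hg.rep.lift_fst ((yon S).map q ≫ a) v (by rw [Category.assoc]; exact hv.symm),
      ← hg.rep.lift_fst ((yon S).map q ≫ b) v (by rw [Category.assoc, ← e]; exact hv.symm)]
    exact congrArg (fun m => (yon S).map m ≫ hg.rep.fst u.c) this
  haveI : Sheaf.IsLocallySurjective k := isLocallySurjective_of_lifts _ fun T ξ => by
    have hξ : ∀ i j : I, ξ ≫ limit.π D (op i) ≫ t.app (op i) = ξ ≫ limit.π D (op j) ≫ t.app (op j) := fun i j => by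
      obtain ⟨b, hb₁, hb₂⟩ := directed_of (fun a b : I => a ≤ b) i j
      rw [← limit.w D (homOfLE hb₁).op, ← limit.w D (homOfLE hb₂).op, Category.assoc, Category.assoc, trans_comp,
        trans_comp]
    let i₀ := Classical.arbitrary I
    let η := ξ ≫ limit.π D (op i₀) ≫ t.app (op i₀)
    let v := u.et.rep.fst' η
    let q := u.et.rep.snd η
    haveI : Etale q.left := u.et.property_snd η
    haveI : Surjective q.left := hu.2 _ _ _ (u.et.rep.isPullback η)
    have hv := (u.et.rep.isPullback' η).w
    let T' := u.et.rep.pullback η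
    let l := fun i : I => (hq i).rep.lift ((yon S).map q ≫ ξ ≫ limit.π D (op i)) v
      (by rw [Category.assoc, Category.assoc, hξ i i₀]; exact hv.symm)
    have hl : ∀ (i j : I) (h : i ≤ j), l j ≫ preFun (hq i) (hq j) (D.map (homOfLE h).op) (trans_comp t h) u = l i :=
      fun i j h => (hq i).rep.hom_ext
        (by
          simp only [l, Functor.map_comp, Category.assoc, preFun_fst, (hq i).rep.lift_fst]
          rw [reassoc_of% (hq j).rep.lift_fst ((yon S).map q ≫ ξ ≫ limit.π D (op j)) v _, limit.w])
        (by simp only [l, Category.assoc, preFun_snd, (hq i).rep.lift_snd, (hq j).rep.lift_snd])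
    have htrπ : ∀ (i j : I) (h : i ≤ j),
        π j ≫ preFun (hq i) (hq j) (D.map (homOfLE h).op) (trans_comp t h) u = π i :=
      fun i j h => preFun_comp (hq i) (hq j) hg _ _ _ _ _ _ (c.w (homOfLE h).op) u
    choose ix z hz using hsurj
    let val : Γ((pre g hg u).left, ⊤) → Γ(T'.left, ⊤) := fun x => (l (ix x)).left.appTop.hom (z x)
    have hval : ∀ (i : I) (y : Γ((pre (t.app (op i)) (hq i) u).left, ⊤)),
        val ((π i).left.appTop.hom y) = (l i).left.appTop.hom y := by
      intro i y
      let x := (π i).left.appTop.hom y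
      obtain ⟨b, hb₁, hb₂⟩ := directed_of (fun a b : I => a ≤ b) (ix x) i
      let tz := (preFun (hq (ix x)) (hq b) (D.map (homOfLE hb₁).op) (trans_comp t hb₁) u).left.appTop.hom (z x)
      let ty := (preFun (hq i) (hq b) (D.map (homOfLE hb₂).op) (trans_comp t hb₂) u).left.appTop.hom y
      have e1 : (π b).left.appTop.hom tz = x :=
        (congrArg (fun m : pre g hg u ⟶ pre (t.app (op (ix x))) (hq (ix x)) u => m.left.appTop.hom (z x))
          (htrπ _ _ hb₁)).trans (hz x)
      have e2 : (π b).left.appTop.hom ty = x :=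
        congrArg (fun m : pre g hg u ⟶ pre (t.app (op i)) (hq i) u => m.left.appTop.hom y) (htrπ _ _ hb₂)
      obtain ⟨j, hj, h0⟩ := hinj b (tz - ty) (by
        change (π b).left.appTop.hom (tz - ty) = 0
        rw [map_sub, e1, e2, sub_self])
      have h1 : (l b).left.appTop.hom (tz - ty) = 0 := by
        rw [← congrArg (fun m : T' ⟶ pre (t.app (op b)) (hq b) u => m.left.appTop.hom (tz - ty)) (hl b j hj)]
        change (l j).left.appTop.hom ((preFun (hq b) (hq j) _ _ u).left.appTop.hom (tz - ty)) = 0
        rw [h0, map_zero]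
      rw [map_sub, sub_eq_zero] at h1
      exact ((congrArg (fun m : T' ⟶ pre (t.app (op (ix x))) (hq (ix x)) u => m.left.appTop.hom (z x))
        (hl _ _ hb₁)).symm.trans h1).trans
          (congrArg (fun m : T' ⟶ pre (t.app (op i)) (hq i) u => m.left.appTop.hom y) (hl _ _ hb₂))
    have hpair : ∀ (x x' : Γ((pre g hg u).left, ⊤)), ∃ (i : I) (y y' : Γ((pre (t.app (op i)) (hq i) u).left, ⊤)),
        (π i).left.appTop.hom y = x ∧ (π i).left.appTop.hom y' = x' := fun x x' => by
      obtain ⟨b, hb₁, hb₂⟩ := directed_of (fun a b : I => a ≤ b) (ix x) (ix x')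
      refine ⟨b, (preFun (hq (ix x)) (hq b) (D.map (homOfLE hb₁).op) (trans_comp t hb₁) u).left.appTop.hom (z x),
        (preFun (hq (ix x')) (hq b) (D.map (homOfLE hb₂).op) (trans_comp t hb₂) u).left.appTop.hom (z x'), ?_, ?_⟩
      · exact (congrArg (fun m : pre g hg u ⟶ pre (t.app (op (ix x))) (hq (ix x)) u => m.left.appTop.hom (z x))
          (htrπ _ _ hb₁)).trans (hz x)
      · exact (congrArg (fun m : pre g hg u ⟶ pre (t.app (op (ix x'))) (hq (ix x')) u => m.left.appTop.hom (z x'))
          (htrπ _ _ hb₂)).trans (hz x')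
    let φ : Γ((pre g hg u).left, ⊤) →+* Γ(T'.left, ⊤) :=
      { toFun := val
        map_one' := by rw [← map_one (π i₀).left.appTop.hom, hval, map_one]
        map_mul' := fun x x' => by
          obtain ⟨i, y, y', rfl, rfl⟩ := hpair x x'
          rw [← map_mul, hval, hval, hval, map_mul]
        map_zero' := by rw [← map_zero (π i₀).left.appTop.hom, hval, map_zero]
        map_add' := fun x x' => by
          obtain ⟨i, y, y', rfl, rfl⟩ := hpair x x'
          rw [← map_add, hval, hval, hval, map_add] }
    have hlv : l i₀ ≫ preπ (t.app (op i₀)) (hq i₀) u = v := (hq i₀).rep.lift_snd _ _ _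
    obtain ⟨m, hm1, hm2⟩ := exists_over_of_ringHom (preπ g hg u) v φ fun r => by
      rw [← congrArg (fun m : pre g hg u ⟶ u.W => m.left.appTop.hom r)
        (preFun_snd (hq i₀) hg (c.π.app (op i₀)) (hgc (op i₀)) u)]
      change val ((π i₀).left.appTop.hom ((preπ (t.app (op i₀)) (hq i₀) u).left.appTop.hom r)) = _
      rw [hval]
      exact congrArg (fun m : T' ⟶ u.W => m.left.appTop.hom r) hlv
    refine ⟨T', q, (yon S).map m ≫ hg.rep.fst u.c, fppf_of_etale _, limit.hom_ext fun j => ?_⟩
    have hmπ : m ≫ π j.unop = l j.unop :=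
      Over.OverMorphism.ext (ext_of_isAffine (CommRingCat.hom_ext (RingHom.ext fun y => by
        change m.left.appTop.hom ((π j.unop).left.appTop.hom y) = (l j.unop).left.appTop.hom y
        rw [hm2]
        exact hval _ y)))
    rw [Category.assoc, Category.assoc, limit.lift_π, ← preFun_fst (hq j.unop) hg (c.π.app j) (hgc j) u,
      ← Functor.map_comp_assoc, hmπ, Category.assoc]
    exact (hq j.unop).rep.lift_fst _ _ _
  haveI := isIso_of_mono_of_locallySurjective k
  exact ⟨IsLimit.ofIsoLimit (limit.isLimit D) (Cones.ext (asIso k) fun j => (limit.lift_π c j).symm).symm⟩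

end Groth.Agent.AlgSpQMod
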