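import Mathlib.RingTheory.IsTensorProduct
import Mathlib.RingTheory.Flat.FaithfullyFlat.Basic
import Mathlib.LinearAlgebra.TensorProduct.Pi
import Mathlib.RingTheory.Finiteness.Basic

/-!
# Submodules of a module and of its flat base changes
-/

set_option autoImplicit false

universe u v

open TensorProduct

namespace Groth.Agent.AlgSpQMod

variable {A B C D : Type u} [CommRing A] [CommRing B] [CommRing C] [CommRing D]
  [Algebra A B] [Algebra A C] [Algebra A D] [Algebra B D] [Algebra C D]
  [IsScalarTower A B D] [IsScalarTower A C D] [Algebra.IsPushout A B C D]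
  {MC MD : Type v} [AddCommGroup MC] [Module A MC] [Module C MC] [IsScalarTower A C MC]
  [AddCommGroup MD] [Module A MD] [Module B MD] [Module C MD] [Module D MD]
  [IsScalarTower A C MD] [IsScalarTower B D MD] [IsScalarTower C D MD] [IsScalarTower A B MD]

/-- In a cocartesian square the base change of a submodule is the image of its partial tensor product. -/
theorem exists_lTensor_of_mem_span (g : MC →ₗ[C] MD) (hg : IsBaseChange D g) :
    ∃ η : B ⊗[A] MC ≃ₗ[B] MD, (∀ b m, η (b ⊗ₜ m) = b • g m) ∧
      ∀ (N : Submodule C MC) (y : MD), y ∈ Submodule.span D (g '' N) →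
        ∃ w : B ⊗[A] (N.restrictScalars A), η ((N.restrictScalars A).subtype.lTensor B w) = y := by
  let η : B ⊗[A] MC ≃ₗ[B] MD :=
    (Algebra.IsPushout.cancelBaseChange A B C D MC).symm ≪≫ₗ (hg.equiv.restrictScalars B)
  have hη : ∀ b m, η (b ⊗ₜ m) = b • g m := fun b m => by
    simp [η, IsBaseChange.equiv_tmul]
  refine ⟨η, hη, fun N y hy => ?_⟩
  have hC : ∀ (c : C) (w : B ⊗[A] (N.restrictScalars A)), ∃ w', η ((N.restrictScalars A).subtype.lTensor B w') =
      c • η ((N.restrictScalars A).subtype.lTensor B w) := fun c w => by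
    induction w with
    | zero => exact ⟨0, by simp⟩
    | add x y hx hy =>
      obtain ⟨x', hx'⟩ := hx
      obtain ⟨y', hy'⟩ := hy
      exact ⟨x' + y', by simp only [map_add, smul_add, hx', hy']⟩
    | tmul b n =>
      refine ⟨b ⊗ₜ ⟨c • n.1, N.smul_mem c n.2⟩, ?_⟩
      simp only [LinearMap.lTensor_tmul, Submodule.subtype_apply, hη, map_smul]
      rw [← algebraMap_smul D b, ← algebraMap_smul D c (g n.1), ← algebraMap_smul D c, ← algebraMap_smul D b]
      exact smul_comm _ _ _
  induction hy using Submodule.span_induction with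
  | mem x hx =>
    obtain ⟨n, hn, rfl⟩ := hx
    exact ⟨1 ⊗ₜ ⟨n, hn⟩, by simp [hη]⟩
  | zero => exact ⟨0, by simp⟩
  | add x y _ _ hx hy =>
    obtain ⟨x', hx'⟩ := hx
    obtain ⟨y', hy'⟩ := hy
    exact ⟨x' + y', by simp only [map_add, hx', hy']⟩
  | smul d x _ hx =>
    obtain ⟨w, rfl⟩ := hx
    obtain ⟨t, rfl⟩ := (Algebra.IsPushout.equiv A B C D).surjective d
    induction t with
    | zero => exact ⟨0, by simp⟩
    | add x y hx hy =>
      obtain ⟨x', hx'⟩ := hx
      obtain ⟨y', hy'⟩ := hy
      exact ⟨x' + y', by simp only [map_add, add_smul, hx', hy']⟩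
    | tmul b c =>
      obtain ⟨w', hw'⟩ := hC c w
      refine ⟨b • w', ?_⟩
      rw [show (N.restrictScalars A).subtype.lTensor B (b • w') = b • (N.restrictScalars A).subtype.lTensor B w' from
          ((N.restrictScalars A).subtype.baseChange B).map_smul b w', map_smul, hw', Algebra.IsPushout.equiv_tmul,
        mul_smul, algebraMap_smul, algebraMap_smul]

variable {M MB : Type v} [AddCommGroup M] [Module A M] [AddCommGroup MB] [Module A MB] [Module B MB]
  [IsScalarTower A B MB]

/-- An element of a base change whose further base change lies in the base change of a submodule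
vanishes in the tensor product with the quotient. -/
theorem kills (fB : M →ₗ[A] MB) (hB : IsBaseChange B fB) (fC : M →ₗ[A] MC) (g : MC →ₗ[C] MD)
    (hg : IsBaseChange D g) (r : MB →ₗ[B] MD) (hr : ∀ m, r (fB m) = g (fC m)) (N : Submodule C MC) (y : MB)
    (hy : r y ∈ Submodule.span D (g '' N)) :
    ((N.restrictScalars A).mkQ ∘ₗ fC).lTensor B (hB.equiv.symm y) = 0 := by
  obtain ⟨η, hη, hN⟩ := exists_lTensor_of_mem_span (A := A) (B := B) (C := C) (D := D) g hg
  obtain ⟨w, hw⟩ := hN N _ hy
  have key : ∀ z : B ⊗[A] M, η (fC.lTensor B z) = r (hB.equiv z) := fun z => by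
    induction z with
    | zero => simp
    | add x y hx hy => simp only [map_add, hx, hy]
    | tmul b m => simp [hη, IsBaseChange.equiv_tmul, hr]
  have h1 : fC.lTensor B (hB.equiv.symm y) = (N.restrictScalars A).subtype.lTensor B w :=
    η.injective (by rw [key, LinearEquiv.apply_symm_apply, hw])
  rw [LinearMap.lTensor_comp, LinearMap.comp_apply, h1, ← LinearMap.comp_apply, ← LinearMap.lTensor_comp,
    show (N.restrictScalars A).mkQ ∘ₗ (N.restrictScalars A).subtype = 0 from LinearMap.ext fun x =>
      (Submodule.Quotient.mk_eq_zero _).2 x.2, LinearMap.lTensor_zero]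
  rfl

/-- Elements of a flat base change killed by finitely many maps come from their common kernel. -/
theorem mem_span_of_kills [Module.Flat A B] (fB : M →ₗ[A] MB) (hB : IsBaseChange B fB) {ι : Type*} [Finite ι]
    {Q : ι → Type v} [∀ p, AddCommGroup (Q p)] [∀ p, Module A (Q p)] (L : ∀ p, M →ₗ[A] Q p) (y : MB)
    (h : ∀ p, (L p).lTensor B (hB.equiv.symm y) = 0) :
    y ∈ Submodule.span B (fB '' ((⨅ p, LinearMap.ker (L p) : Submodule A M) : Set M)) := by
  classical
  have := Fintype.ofFinite ι
  let K : Submodule A M := ⨅ p, LinearMap.ker (L p)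
  have hK : LinearMap.ker (LinearMap.pi L) = K := LinearMap.ker_pi L
  have hz : (LinearMap.pi L).lTensor B (hB.equiv.symm y) = 0 := by
    apply (TensorProduct.piRight A A B Q).injective
    rw [map_zero]
    refine Eq.trans ?_ (funext h)
    generalize hB.equiv.symm y = z
    induction z with
    | zero => funext p; simp
    | add x y hx hy => funext p; simp only [map_add, Pi.add_apply, congrFun hx p, congrFun hy p]
    | tmul b m => funext p; simp
  have hex : Function.Exact K.subtype (LinearMap.pi L) := by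
    rw [LinearMap.exact_iff, Submodule.range_subtype, hK]
  obtain ⟨w, hw⟩ := (Module.Flat.lTensor_exact B hex _).1 hz
  have key : ∀ w : B ⊗[A] K, hB.equiv (K.subtype.lTensor B w) ∈ Submodule.span B (fB '' (K : Set M)) := fun w => by
    induction w with
    | zero => simp
    | add x y hx hy => simp only [map_add]; exact add_mem hx hy
    | tmul b m =>
      rw [LinearMap.lTensor_tmul, IsBaseChange.equiv_tmul]
      exact Submodule.smul_mem _ _ (Submodule.subset_span ⟨m.1, m.2, rfl⟩)
  have := key w
  rwa [hw, LinearEquiv.apply_symm_apply] at this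

omit [Algebra A B] [Algebra A C] in
/-- Membership in a submodule is local for jointly surjective flat maps. -/
theorem mem_of_cover {ι : Type*} (R : ι → Type u) [∀ l, CommRing (R l)] [∀ l, Algebra A (R l)]
    [∀ l, Module.Flat A (R l)] (hcov : ∀ P : Ideal A, P.IsPrime → ∃ (l : ι) (q : Ideal (R l)),
      q.IsPrime ∧ q.comap (algebraMap A (R l)) = P) (N : Submodule A M) (x : M)
    (P : ι → Type v) [∀ l, AddCommGroup (P l)] [∀ l, Module A (P l)] [∀ l, Module (R l) (P l)]
    [∀ l, IsScalarTower A (R l) (P l)] (f : ∀ l, M →ₗ[A] P l) (hf : ∀ l, IsBaseChange (R l) (f l))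
    (hx : ∀ l, f l x ∈ Submodule.span (R l) (f l '' N)) : x ∈ N := by
  by_contra hxN
  let ψ : A →ₗ[A] M ⧸ N := N.mkQ ∘ₗ LinearMap.toSpanSingleton A M x
  let I : Ideal A := LinearMap.ker ψ
  have hI : I ≠ ⊤ := fun h => hxN (by
    have : (1 : A) ∈ LinearMap.ker ψ := (show (1 : A) ∈ I from h ▸ Submodule.mem_top)
    simpa [ψ] using this)
  obtain ⟨P₀, hP₀, hIP⟩ := Ideal.exists_le_maximal I hI
  obtain ⟨l, q, hq, hqP⟩ := hcov P₀ hP₀.isPrime
  let φ : (A ⧸ I) →ₗ[A] M ⧸ N := Submodule.liftQ I ψ le_rfl
  have hφ : Function.Injective φ := LinearMap.ker_eq_bot.1 (Submodule.ker_liftQ_eq_bot _ _ _ le_rfl)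
  have hspan : ∀ z ∈ Submodule.span (R l) (f l '' N), N.mkQ.lTensor (R l) ((hf l).equiv.symm z) = 0 := by
    intro z hz
    induction hz using Submodule.span_induction with
    | mem z hz =>
      obtain ⟨n, hn, rfl⟩ := hz
      rw [IsBaseChange.equiv_symm_apply, LinearMap.lTensor_tmul, Submodule.mkQ_apply,
        (Submodule.Quotient.mk_eq_zero N).2 hn, tmul_zero]
    | zero => simp
    | add x y _ _ hx hy => simp [map_add, hx, hy]
    | smul r z _ hz =>
      rw [map_smul, show N.mkQ.lTensor (R l) (r • (hf l).equiv.symm z) = r • N.mkQ.lTensor (R l) ((hf l).equiv.symm z)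
        from (N.mkQ.baseChange (R l)).map_smul r _, hz, smul_zero]
  have h1 : φ.lTensor (R l) (1 ⊗ₜ Submodule.Quotient.mk (1 : A)) = 0 := by
    have := hspan _ (hx l)
    rw [IsBaseChange.equiv_symm_apply, LinearMap.lTensor_tmul] at this
    rw [LinearMap.lTensor_tmul]
    rw [show φ (Submodule.Quotient.mk (1 : A)) = N.mkQ x from
      (Submodule.liftQ_apply I ψ (1 : A)).trans (congrArg N.mkQ (one_smul A x))]
    exact this
  have h2 : (1 : R l) ⊗ₜ[A] (Submodule.Quotient.mk (1 : A) : A ⧸ I) = 0 :=
    Module.Flat.lTensor_preserves_injective_linearMap φ hφ (h1.trans (map_zero _).symm)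
  have h3 := congrArg (TensorProduct.tensorQuotEquivQuotSMul (R l) I) h2
  erw [map_zero, TensorProduct.tensorQuotEquivQuotSMul_tmul_mk, one_smul, Submodule.Quotient.mk_eq_zero] at h3
  rw [Ideal.smul_top_eq_map, Submodule.restrictScalars_mem] at h3
  exact hq.ne_top ((Ideal.eq_top_iff_one _).2 (Ideal.map_le_iff_le_comap.2 (hqP ▸ hIP) h3))

end Groth.Agent.AlgSpQMod
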