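import Mathlib.RingTheory.FinitePresentation
import Mathlib.RingTheory.RingHom.FiniteType
import Mathlib.RingTheory.Localization.Ideal
import Mathlib.RingTheory.Localization.Away.Basic
import Mathlib.AlgebraicGeometry.Morphisms.AffineAnd
import Mathlib.AlgebraicGeometry.Morphisms.Finite
import Mathlib.AlgebraicGeometry.Morphisms.FinitePresentation

/-!
# Rings over a base that agree with a finitely presented one away from a hypersurface
-/

set_option autoImplicit false
set_option backward.isDefEq.respectTransparency false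
set_option backward.isDefEq.respectTransparency.types false

universe u

open CategoryTheory AlgebraicGeometry

namespace Groth.Agent.AlgSpQMod

variable {R B : Type u} [CommRing R] [CommRing B]

/-- Generators of a localization which is finite over the base. -/
theorem exists_lifts_of_finite_away (φ : R →+* B) (r : R) (h : (Localization.awayMap φ r).Finite) :
    ∃ G : Finset B, ∀ (A : Type u) [CommRing A] (ψ : A →+* B), (∀ x ∈ G, x ∈ Set.range ψ) →
      (∀ x : R, φ x ∈ Set.range ψ) → ∀ b, ∃ n : ℕ, φ r ^ n * b ∈ Set.range ψ := by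
  classical
  letI := (Localization.awayMap φ r).toAlgebra
  haveI : Module.Finite (Localization.Away r) (Localization.Away (φ r)) := h
  obtain ⟨s, hs⟩ := Module.Finite.fg_top (R := Localization.Away r) (M := Localization.Away (φ r))
  choose num hnum using fun z : Localization.Away (φ r) =>
    IsLocalization.surj (M := Submonoid.powers (φ r)) z
  refine ⟨s.image fun z => (num z).1, fun A _ ψ hG hR b => ?_⟩
  suffices ∀ z : Localization.Away (φ r), ∃ (a : A) (n : ℕ),
      z * algebraMap B (Localization.Away (φ r)) (φ r ^ n) = algebraMap B _ (ψ a) by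
    obtain ⟨a, n, e⟩ := this (algebraMap B _ b)
    rw [← map_mul, IsLocalization.eq_iff_exists (Submonoid.powers (φ r))] at e
    obtain ⟨⟨_, m, rfl⟩, e⟩ := e
    obtain ⟨c, hc⟩ := hR (r ^ m)
    refine ⟨m + n, c * a, ?_⟩
    rw [map_mul, hc, map_pow]
    simp only at e
    rw [← e]
    ring
  intro z
  have hz : z ∈ Submodule.span (Localization.Away r) (s : Set (Localization.Away (φ r))) := hs ▸ trivial
  induction hz using Submodule.span_induction with
  | mem x hx =>
    obtain ⟨a, ha⟩ := hG _ (Finset.mem_image_of_mem _ hx)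
    obtain ⟨n, hn⟩ := (num x).2.2
    simp only at hn
    refine ⟨a, n, ?_⟩
    rw [ha, hn]
    exact hnum x
  | zero => exact ⟨0, 0, by simp⟩
  | add x y _ _ hx hy =>
    obtain ⟨a, n, ha⟩ := hx
    obtain ⟨b, m, hb⟩ := hy
    obtain ⟨c, hc⟩ := hR (r ^ n)
    obtain ⟨d, hd⟩ := hR (r ^ m)
    refine ⟨a * d + c * b, n + m, ?_⟩
    rw [map_add, map_mul, map_mul, hc, hd, map_add, map_mul, map_mul, ← ha, ← hb, map_pow φ, map_pow φ, pow_add,
      map_mul]
    ring
  | smul q x _ hx =>
    obtain ⟨a, n, ha⟩ := hx
    obtain ⟨⟨p, ⟨_, m, rfl⟩⟩, hq⟩ := IsLocalization.surj (M := Submonoid.powers r) q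
    obtain ⟨c, hc⟩ := hR p
    have h1 := congrArg (Localization.awayMap φ r) hq
    simp only [map_mul, Localization.awayMap, IsLocalization.Away.map, IsLocalization.map_eq, map_pow] at h1
    refine ⟨c * a, m + n, ?_⟩
    rw [map_mul, hc, map_mul, ← ha, pow_add, map_mul]
    change Localization.awayMap φ r q * x * _ = _
    simp only [Localization.awayMap, IsLocalization.Away.map]
    rw [← h1, map_pow, map_pow]
    ring

/-- The kernel of a map onto a finitely presented algebra, away from a hypersurface, is finitely generated. -/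
theorem exists_kills (φ : R →+* B) (r : R) (h : (Localization.awayMap φ r).FinitePresentation) {A : Type u}
    [CommRing A] (α : R →+* A) (ψ : A →+* B) (hψ : ψ.comp α = φ) (hα : α.FiniteType)
    (hsur : ∀ b, ∃ n : ℕ, φ r ^ n * b ∈ Set.range ψ) :
    ∃ T : Finset A, (∀ x ∈ T, ψ x = 0) ∧
      ∀ y, ψ y = 0 → ∃ m : ℕ, α r ^ m * y ∈ Ideal.span (T : Set A) := by
  classical
  subst hψ
  let χ : Localization.Away (α r) →+* Localization.Away (ψ (α r)) := Localization.awayMap ψ (α r)
  have he : χ.comp (Localization.awayMap α r) = Localization.awayMap (ψ.comp α) r := by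
    refine IsLocalization.ringHom_ext (Submonoid.powers r) (RingHom.ext fun x => ?_)
    simp [χ, Localization.awayMap, IsLocalization.Away.map]
  have hsurχ : Function.Surjective χ := Localization.awayMap_surjective_iff.2 fun b => by
    obtain ⟨n, a, ha⟩ := hsur b
    exact ⟨a, n, ha⟩
  have hχ : χ.FinitePresentation := RingHom.FinitePresentation.of_comp_finiteType _ (he.symm ▸ h)
    (RingHom.localization_away_map_finiteType R A (Localization.Away r) (Localization.Away (α r)) α r hα)
  obtain ⟨s, hs⟩ : (RingHom.ker χ).FG := by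
    letI := χ.toAlgebra
    haveI : Algebra.FinitePresentation (Localization.Away (α r)) (Localization.Away (ψ (α r))) := hχ
    exact Algebra.FinitePresentation.ker_fG_of_surjective
      (Algebra.ofId (Localization.Away (α r)) (Localization.Away (ψ (α r)))) hsurχ
  choose num hnum using fun z : Localization.Away (α r) => IsLocalization.surj (M := Submonoid.powers (α r)) z
  have hk : ∀ z ∈ s, ∃ n : ℕ, ψ (α r ^ n * (num z).1) = 0 := fun z hz => by
    have h0 : χ z = 0 := (hs ▸ Ideal.subset_span hz : z ∈ RingHom.ker χ)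
    have h1 := congrArg χ (hnum z)
    rw [map_mul, h0, zero_mul] at h1
    simp only [χ, Localization.awayMap, IsLocalization.Away.map, IsLocalization.map_eq] at h1
    obtain ⟨⟨_, n, rfl⟩, hn⟩ := (IsLocalization.map_eq_zero_iff (Submonoid.powers (ψ (α r))) _ _).1 h1.symm
    refine ⟨n, ?_⟩
    rw [map_mul, map_pow]
    exact hn
  choose! n hn using hk
  refine ⟨s.image fun z => α r ^ n z * (num z).1, fun x hx => ?_, fun y hy => ?_⟩
  · obtain ⟨z, hz, rfl⟩ := Finset.mem_image.1 hx
    exact hn z hz
  · let T' : Finset A := s.image fun z => α r ^ n z * (num z).1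
    have hle : RingHom.ker χ ≤ (Ideal.span (T' : Set A)).map (algebraMap A (Localization.Away (α r))) := by
      rw [← hs, Ideal.span_le]
      intro z hz
      obtain ⟨m, hm⟩ := (num z).2.2
      have hu : IsUnit (algebraMap A (Localization.Away (α r)) (α r)) := IsLocalization.Away.algebraMap_isUnit _
      have e : algebraMap A (Localization.Away (α r)) (α r ^ n z * (num z).1) =
          algebraMap A _ (α r ^ n z * (num z).2) * z := by
        rw [map_mul, ← hnum z, map_mul]; ring
      have hu' : IsUnit (algebraMap A (Localization.Away (α r)) (α r ^ n z * (num z).2)) := by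
        simp only at hm
        rw [← hm, map_mul, map_pow, map_pow]
        exact (hu.pow _).mul (hu.pow _)
      refine (Ideal.unit_mul_mem_iff_mem _ hu').1 ?_
      rw [← e]
      exact Ideal.mem_map_of_mem _ (Ideal.subset_span (Finset.mem_image_of_mem _ hz))
    have hy' : algebraMap A (Localization.Away (α r)) y ∈ RingHom.ker χ := by
      simp [RingHom.mem_ker, χ, Localization.awayMap, IsLocalization.Away.map, hy]
    obtain ⟨_, ⟨m, rfl⟩, hm⟩ :=
      (IsLocalization.algebraMap_mem_map_algebraMap_iff (Submonoid.powers (α r)) _ _ _).1 (hle hy')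
    exact ⟨m, hm⟩

section Scheme

variable {Q : ∀ {R S : Type u} [CommRing R] [CommRing S], (R →+* S) → Prop}

/-- A property of a restriction to a basic open, on rings. -/
theorem appTop_restrict_basicOpen_iff (hQ : RingHom.RespectsIso Q) {X Y : Scheme.{u}} [IsAffine X] [IsAffine Y]
    (f : X ⟶ Y) (r : Γ(Y, ⊤)) :
    Q (f ∣_ Y.basicOpen r).appTop.hom ↔ Q (Localization.awayMap f.appTop.hom r) := by
  haveI := (isAffineOpen_top Y).isLocalization_basicOpen r
  haveI := (isAffineOpen_top X).isLocalization_basicOpen (f.appTop r)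
  rw [morphismRestrict_appTop, CommRingCat.hom_comp, hQ.cancel_right_isIso]
  change Q (Scheme.Hom.app f ((Y.basicOpen r).ι ''ᵁ ⊤)).hom ↔ _
  rw [Scheme.Opens.ι_image_top]
  rw [(isAffineOpen_top Y).app_basicOpen_eq_away_map f (isAffineOpen_top X),
    CommRingCat.hom_comp, hQ.cancel_right_isIso, ← Scheme.Hom.appTop]
  exact (hQ.isLocalization_away_iff (P := Q) Γ(Y, Y.basicOpen r) Γ(X, X.basicOpen (f.appTop r)) _ r).symm

end Scheme

/-- Localized finite presentation from a finite and finitely presented restriction. -/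
theorem awayMap_finite_fp {X Y : Scheme.{u}} [IsAffine X] [IsAffine Y] (f : X ⟶ Y) (r : Γ(Y, ⊤))
    [IsFinite (f ∣_ Y.basicOpen r)] [LocallyOfFinitePresentation (f ∣_ Y.basicOpen r)] :
    (Localization.awayMap f.appTop.hom r).Finite ∧ (Localization.awayMap f.appTop.hom r).FinitePresentation := by
  haveI : IsAffine ↑(Y.basicOpen r) := (isAffineOpen_top Y).basicOpen r
  haveI : IsAffine ↑(f ⁻¹ᵁ Y.basicOpen r) := isAffine_of_isAffineHom (f ∣_ Y.basicOpen r)
  exact ⟨(appTop_restrict_basicOpen_iff (Q := fun {R S} _ _ φ => φ.Finite) RingHom.finite_respectsIso f r).1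
      ((HasAffineProperty.iff_of_isAffine (P := @IsFinite)).1 inferInstance).2,
    (appTop_restrict_basicOpen_iff (Q := fun {R S} _ _ φ => φ.FinitePresentation)
      RingHom.finitePresentation_respectsIso f r).1
      ((HasRingHomProperty.iff_of_isAffine (P := @LocallyOfFinitePresentation)).1 inferInstance)⟩

theorem isoRespects : RingHom.RespectsIso (fun {R S : Type u} [CommRing R] [CommRing S] (φ : R →+* S) =>
    Function.Bijective φ) :=
  ⟨fun f e h => by exact e.bijective.comp h, fun f e h => by exact h.comp e.bijective⟩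

/-- A map of affine schemes bijective on localized rings is an isomorphism over the basic open. -/
theorem isIso_restrict_basicOpen {X Y : Scheme.{u}} [IsAffine X] [IsAffine Y] (f : X ⟶ Y) (r : Γ(Y, ⊤))
    (hs : ∀ b, ∃ n : ℕ, f.appTop.hom r ^ n * b ∈ Set.range f.appTop.hom)
    (hi : ∀ y, f.appTop.hom y = 0 → ∃ m : ℕ, r ^ m * y = 0) : IsIso (f ∣_ Y.basicOpen r) := by
  haveI : IsAffine ↑(Y.basicOpen r) := (isAffineOpen_top Y).basicOpen r
  haveI : IsAffine ↑(f ⁻¹ᵁ Y.basicOpen r) := by
    rw [show f ⁻¹ᵁ Y.basicOpen r = X.basicOpen (f.appTop r) from Scheme.preimage_basicOpen f r]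
    exact (isAffineOpen_top X).basicOpen _
  have hb : Function.Bijective (f ∣_ Y.basicOpen r).appTop.hom :=
    (appTop_restrict_basicOpen_iff (Q := fun {R S} _ _ φ => Function.Bijective φ) isoRespects f r).2
      ⟨Localization.awayMap_injective_iff.2 hi, Localization.awayMap_surjective_iff.2 fun b => by
        obtain ⟨n, a, ha⟩ := hs b
        exact ⟨a, n, ha⟩⟩
  haveI : IsIso (f ∣_ Y.basicOpen r).appTop := (ConcreteCategory.isIso_iff_bijective _).2 hb
  have e : (f ∣_ Y.basicOpen r) = (Scheme.isoSpec _).hom ≫ Spec.map (f ∣_ Y.basicOpen r).appTop ≫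
      (Scheme.isoSpec _).inv := by
    rw [Scheme.isoSpec_hom_naturality_assoc, Iso.hom_inv_id, Category.comp_id]
  rw [e]
  infer_instance

end Groth.Agent.AlgSpQMod
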