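import Groth.Agent.AlgSpQMod.Alg
import Groth.Prelude.Def_AlgSp4
import Groth.Agent.AlgSpLib.LocP
import Groth.Agent.AlgSpLib.EtLocalInst
import Groth.Agent.AlgSpLib.Rep
import Mathlib.AlgebraicGeometry.Morphisms.Flat
import Mathlib.AlgebraicGeometry.Morphisms.Affine

/-!
# Quasi-coherent modules as systems on affine etale charts
-/

set_option autoImplicit false
set_option backward.isDefEq.respectTransparency false
set_option backward.isDefEq.respectTransparency.types false

universe u v

open CategoryTheory CategoryTheory.Limits AlgebraicGeometry AlgSp Groth.Agent.AlgSpLib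

namespace Groth.Agent.AlgSpQMod

variable {S : Scheme.{u}} {Y : Sp S}

/-- An affine etale chart. -/
structure Chart (Y : Sp S) where
  W : Over S
  aff : IsAffine W.left
  c : (yon S).obj W ⟶ Y
  et : RepWith @Etale c

attribute [instance] Chart.aff

/-- The ring of functions of a chart. -/
abbrev Chart.R (c : Chart Y) : Type u := Γ(c.W.left, ⊤)

/-- A morphism of charts over the space. -/
structure Chart.Hom (d c : Chart Y) where
  k : d.W ⟶ c.W
  w : (yon S).map k ≫ c.c = d.c

namespace Chart.Hom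

variable {b c d e : Chart Y}

theorem ext' {h h' : Chart.Hom d c} (e : h.k = h'.k) : h = h' := by
  cases h; cases h'; cases e; rfl

/-- The identity. -/
def id (c : Chart Y) : Chart.Hom c c := ⟨𝟙 _, by simp⟩

/-- Composition. -/
def comp (s : Chart.Hom e d) (h : Chart.Hom d c) : Chart.Hom e c :=
  ⟨s.k ≫ h.k, by rw [Functor.map_comp, Category.assoc, h.w, s.w]⟩

/-- The map of functions. -/
abbrev φ (h : Chart.Hom d c) : c.R →+* d.R := h.k.left.appTop.hom

theorem φ_comp (s : Chart.Hom e d) (h : Chart.Hom d c) : (s.comp h).φ = s.φ.comp h.φ := by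
  simp [φ, comp, CommRingCat.hom_comp]

theorem etale (h : Chart.Hom d c) : Etale h.k.left :=
  (locP_of_repWith (repWith_of_isIso @Etale (𝟙 Y))) d.c c.c h.k d.et c.et (by rw [Category.comp_id, h.w])

theorem flat (h : Chart.Hom d c) : h.φ.Flat := by
  have := h.etale
  exact (HasRingHomProperty.iff_of_isAffine (P := @Flat)).1 (inferInstance : Flat h.k.left)

end Chart.Hom

/-- A map of modules over a ring map exhibiting a base change. -/
def IsBC {A B : Type u} [CommRing A] [CommRing B] (φ : A →+* B) {M N : Type v} [AddCommGroup M] [Module A M]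
    [AddCommGroup N] [Module B N] (f : M →+ N) : Prop :=
  ∃ hf : ∀ (a : A) (m : M), f (a • m) = φ a • f m,
    letI := φ.toAlgebra
    letI : Module A N := Module.compHom N φ
    haveI : IsScalarTower A B N := ⟨fun a b n => mul_smul (φ a) b n⟩
    IsBaseChange B ({ toFun := f, map_add' := f.map_add, map_smul' := hf } : M →ₗ[A] N)

/-- A quasi-coherent module given by its sections on affine etale charts. -/
structure QMod (Y : Sp S) where
  M : Chart Y → Type v
  grp : ∀ c, AddCommGroup (M c)
  mod : ∀ c, Module c.R (M c)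
  map : ∀ {d c : Chart Y}, Chart.Hom d c → (M c →+ M d)
  map_id : ∀ (c : Chart Y) (x : M c), map (Chart.Hom.id c) x = x
  map_comp : ∀ {e d c : Chart Y} (s : Chart.Hom e d) (h : Chart.Hom d c) (x : M c),
    map (s.comp h) x = map s (map h x)
  bc : ∀ {d c : Chart Y} (h : Chart.Hom d c), IsBC h.φ (map h)

attribute [instance] QMod.grp QMod.mod

variable (F : QMod.{u, v} Y)

namespace QMod

variable {b c d e : Chart Y}

theorem map_smul (h : Chart.Hom d c) (a : c.R) (x : F.M c) : F.map h (a • x) = h.φ a • F.map h x :=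
  (F.bc h).1 a x

/-- The submodule generated by the pullback of a submodule. -/
def Span (h : Chart.Hom d c) (N : Submodule c.R (F.M c)) : Submodule d.R (F.M d) :=
  Submodule.span d.R (F.map h '' N)

theorem map_mem_span {h : Chart.Hom d c} {N : Submodule c.R (F.M c)} {x : F.M c} (hx : x ∈ N) :
    F.map h x ∈ F.Span h N :=
  Submodule.subset_span ⟨x, hx, rfl⟩

theorem span_le {h : Chart.Hom d c} {N : Submodule c.R (F.M c)} {P : Submodule d.R (F.M d)} :
    F.Span h N ≤ P ↔ ∀ x ∈ N, F.map h x ∈ P := by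
  rw [QMod.Span, Submodule.span_le, Set.image_subset_iff]
  rfl

theorem span_mono {h : Chart.Hom d c} {N N' : Submodule c.R (F.M c)} (hN : N ≤ N') : F.Span h N ≤ F.Span h N' :=
  Submodule.span_mono (Set.image_mono hN)

theorem span_id (N : Submodule c.R (F.M c)) : F.Span (Chart.Hom.id c) N = N := by
  have : F.map (Chart.Hom.id c) '' (N : Set (F.M c)) = N := by
    ext x; simp [F.map_id]
  rw [QMod.Span, this, Submodule.span_eq]

theorem span_span_set (h : Chart.Hom d c) (T : Set (F.M c)) :
    F.Span h (Submodule.span c.R T) = Submodule.span d.R (F.map h '' T) := by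
  refine le_antisymm ((span_le F).2 fun x hx => ?_) (Submodule.span_mono (Set.image_mono Submodule.subset_span))
  induction hx using Submodule.span_induction with
  | mem x hx => exact Submodule.subset_span ⟨x, hx, rfl⟩
  | zero => simp
  | add x y _ _ hx hy => simp only [map_add]; exact add_mem hx hy
  | smul a x _ hx => rw [map_smul]; exact Submodule.smul_mem _ _ hx

theorem span_comp (s : Chart.Hom e d) (h : Chart.Hom d c) (N : Submodule c.R (F.M c)) :
    F.Span (s.comp h) N = F.Span s (F.Span h N) := by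
  conv_rhs => rw [show F.Span h N = Submodule.span d.R (F.map h '' N) from rfl, span_span_set, Set.image_image]
  simp only [← F.map_comp]
  rfl

theorem map_mem_span_of_mem {h : Chart.Hom d c} {N : Submodule c.R (F.M c)} {x : F.M d} (s : Chart.Hom e d)
    (hx : x ∈ F.Span h N) : F.map s x ∈ F.Span (s.comp h) N := by
  rw [span_comp]; exact F.map_mem_span hx

theorem fg_span (h : Chart.Hom d c) {N : Submodule c.R (F.M c)} (hN : N.FG) : (F.Span h N).FG := by
  obtain ⟨T, rfl⟩ := hN
  classical
  exact ⟨T.image (F.map h), by rw [Finset.coe_image, span_span_set]⟩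

/-- Membership in a submodule is local on jointly surjective families of charts. -/
theorem mem_of_cover {ι : Type*} (g : ι → Chart Y) (h : ∀ l, Chart.Hom (g l) c)
    (hcov : ∀ w : c.W.left, ∃ l z, (h l).k.left z = w) (N : Submodule c.R (F.M c)) (x : F.M c)
    (hx : ∀ l, F.map (h l) x ∈ F.Span (h l) N) : x ∈ N := by
  letI : ∀ l, Algebra c.R (g l).R := fun l => (h l).φ.toAlgebra
  letI : ∀ l, Module c.R (F.M (g l)) := fun l => Module.compHom _ (h l).φ
  haveI : ∀ l, IsScalarTower c.R (g l).R (F.M (g l)) := fun l => ⟨fun a b n => mul_smul ((h l).φ a) b n⟩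
  haveI : ∀ l, Module.Flat c.R (g l).R := fun l => (h l).flat
  refine AlgSpQMod.mem_of_cover (fun l => (g l).R) (fun P hP => ?_) N x (fun l => F.M (g l))
    (fun l => { toFun := F.map (h l), map_add' := (F.map (h l)).map_add, map_smul' := (F.bc (h l)).1 })
    (fun l => (F.bc (h l)).2) hx
  obtain ⟨l, z, hz⟩ := hcov (c.W.left.isoSpec.inv ⟨P, hP⟩)
  refine ⟨l, ((g l).W.left.isoSpec.hom z).asIdeal, ((g l).W.left.isoSpec.hom z).2, ?_⟩
  have := congrArg (fun m => m z) (Scheme.isoSpec_hom_naturality (h l).k.left)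
  simp only [Scheme.Hom.comp_apply, hz] at this
  have e : c.W.left.isoSpec.hom (c.W.left.isoSpec.inv ⟨P, hP⟩) = ⟨P, hP⟩ := by
    rw [← Scheme.Hom.comp_apply, Iso.inv_hom_id]; rfl
  rw [e] at this
  exact congrArg PrimeSpectrum.asIdeal this

theorem le_of_cover {ι : Type*} (g : ι → Chart Y) (h : ∀ l, Chart.Hom (g l) c)
    (hcov : ∀ w : c.W.left, ∃ l z, (h l).k.left z = w) {N N' : Submodule c.R (F.M c)}
    (hle : ∀ l, F.Span (h l) N ≤ F.Span (h l) N') : N ≤ N' :=
  fun _ hx => F.mem_of_cover g h hcov N' _ fun l => hle l (F.map_mem_span hx)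

/-- The fibre product of two charts over a chart. -/
theorem exists_pullback (g : Chart.Hom d c) (a : Chart.Hom e c) :
    ∃ (D : Chart Y) (s : Chart.Hom D d) (t : Chart.Hom D e),
      s.comp g = t.comp a ∧ IsPullback s.k.left t.k.left g.k.left a.k.left := by
  have hg := g.etale
  let P := pullback g.k a.k
  have sq : IsPullback (pullback.fst g.k a.k).left (pullback.snd g.k a.k).left g.k.left a.k.left :=
    (IsPullback.of_hasPullback g.k a.k).map (Over.forget S)
  haveI : IsAffineHom a.k.left := isAffineHom_of_isAffine _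
  haveI : IsAffine P.left := IsAffine.of_isPullback sq
  have hs : Etale (pullback.fst g.k a.k).left := MorphismProperty.of_isPullback sq.flip a.etale
  let D : Chart Y := ⟨P, inferInstance, (yon S).map (pullback.fst g.k a.k) ≫ d.c,
    repWith_comp ((repWith_yon_map_iff _ _).2 hs) d.et⟩
  refine ⟨D, ⟨pullback.fst g.k a.k, rfl⟩, ⟨pullback.snd g.k a.k, ?_⟩, Chart.Hom.ext' pullback.condition, sq⟩
  rw [← a.w, ← Category.assoc, ← Functor.map_comp, ← pullback.condition, Functor.map_comp, Category.assoc, g.w]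

/-- The key flatness statement: an element whose pullbacks lie in given submodules comes from their
common preimage. -/
theorem mem_span_iInf {ι : Type*} [Finite ι] (e : ι → Chart Y) (a : ∀ p, Chart.Hom (e p) c)
    (N : ∀ p, Submodule (e p).R (F.M (e p))) (g : Chart.Hom d c) (y : F.M d)
    (hy : ∀ p (D : Chart Y) (s : Chart.Hom D d) (t : Chart.Hom D (e p)), s.comp g = t.comp (a p) →
      F.map s y ∈ F.Span t (N p)) :
    y ∈ Submodule.span d.R (F.map g '' {x | ∀ p, F.map (a p) x ∈ N p}) := by
  letI : Algebra c.R d.R := g.φ.toAlgebra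
  letI : Module c.R (F.M d) := Module.compHom _ g.φ
  haveI : IsScalarTower c.R d.R (F.M d) := ⟨fun r b n => mul_smul (g.φ r) b n⟩
  haveI : Module.Flat c.R d.R := g.flat
  letI : ∀ p, Algebra c.R (e p).R := fun p => (a p).φ.toAlgebra
  letI : ∀ p, Module c.R (F.M (e p)) := fun p => Module.compHom _ (a p).φ
  haveI : ∀ p, IsScalarTower c.R (e p).R (F.M (e p)) := fun p => ⟨fun r b n => mul_smul ((a p).φ r) b n⟩
  let fB : F.M c →ₗ[c.R] F.M d :=
    { toFun := F.map g, map_add' := (F.map g).map_add, map_smul' := (F.bc g).1 }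
  let fC : ∀ p, F.M c →ₗ[c.R] F.M (e p) := fun p =>
    { toFun := F.map (a p), map_add' := (F.map (a p)).map_add, map_smul' := (F.bc (a p)).1 }
  let L : ∀ p, F.M c →ₗ[c.R] F.M (e p) ⧸ (N p).restrictScalars c.R := fun p =>
    ((N p).restrictScalars c.R).mkQ ∘ₗ fC p
  have hK : ((⨅ p, LinearMap.ker (L p) : Submodule c.R (F.M c)) : Set (F.M c)) =
      {x | ∀ p, F.map (a p) x ∈ N p} := by
    ext x
    simp [L, fC, Submodule.Quotient.mk_eq_zero]
  rw [← hK]
  refine mem_span_of_kills fB (F.bc g).2 L y fun p => ?_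
  obtain ⟨D, s, t, hst, sq⟩ := exists_pullback g (a p)
  letI : Algebra c.R D.R := (s.comp g).φ.toAlgebra
  letI : Algebra d.R D.R := s.φ.toAlgebra
  letI : Algebra (e p).R D.R := t.φ.toAlgebra
  letI : Module c.R (F.M D) := Module.compHom _ (s.comp g).φ
  letI : Module d.R (F.M D) := Module.compHom _ s.φ
  letI : Module (e p).R (F.M D) := Module.compHom _ t.φ
  have e₁ : ∀ r, (s.comp g).φ r = s.φ (g.φ r) := fun r => by rw [Chart.Hom.φ_comp]; rfl
  have e₂ : ∀ r, (s.comp g).φ r = t.φ ((a p).φ r) := fun r => by rw [hst, Chart.Hom.φ_comp]; rfl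
  haveI : IsScalarTower c.R d.R D.R := .of_algebraMap_eq e₁
  haveI : IsScalarTower c.R (e p).R D.R := .of_algebraMap_eq e₂
  haveI : IsScalarTower d.R D.R (F.M D) := ⟨fun r b n => mul_smul (s.φ r) b n⟩
  haveI : IsScalarTower (e p).R D.R (F.M D) := ⟨fun r b n => mul_smul (t.φ r) b n⟩
  haveI : IsScalarTower c.R d.R (F.M D) := ⟨fun r b n => by
    change s.φ (g.φ r * b) • n = (s.comp g).φ r • s.φ b • n
    rw [map_mul, mul_smul, e₁]⟩
  haveI : IsScalarTower c.R (e p).R (F.M D) := ⟨fun r b n => by
    change t.φ ((a p).φ r * b) • n = (s.comp g).φ r • t.φ b • n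
    rw [map_mul, mul_smul, e₂]⟩
  haveI : Algebra.IsPushout c.R d.R (e p).R D.R := CommRingCat.isPushout_iff_isPushout.1 (by
    exact isPushout_appTop_of_isPullback sq)
  let r : F.M d →ₗ[d.R] F.M D :=
    { toFun := F.map s, map_add' := (F.map s).map_add, map_smul' := (F.bc s).1 }
  let gD : F.M (e p) →ₗ[(e p).R] F.M D :=
    { toFun := F.map t, map_add' := (F.map t).map_add, map_smul' := (F.bc t).1 }
  exact kills fB (F.bc g).2 (fC p) gD (F.bc t).2 r
    (fun m => by
      change F.map s (F.map g m) = F.map t (F.map (a p) m)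
      rw [← F.map_comp, ← F.map_comp, hst]) (N p) y (hy p D s t hst)

/-- Compatible finitely generated submodules on finitely many pieces are generated by a finitely generated
submodule, which can contain prescribed elements. -/
theorem exists_fg_extension {ι κ : Type*} [Finite ι] [Finite κ] (e : ι → Chart Y) (a : ∀ p, Chart.Hom (e p) c)
    (N : ∀ p, Submodule (e p).R (F.M (e p))) (hN : ∀ p, (N p).FG)
    (hcompat : ∀ p q (D : Chart Y) (s : Chart.Hom D (e p)) (t : Chart.Hom D (e q)), s.comp (a p) = t.comp (a q) →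
      F.Span s (N p) = F.Span t (N q))
    (G : κ → Chart Y) (g : ∀ l, Chart.Hom (G l) c) (y : ∀ l, F.M (G l))
    (hy : ∀ l p (D : Chart Y) (s : Chart.Hom D (G l)) (t : Chart.Hom D (e p)), s.comp (g l) = t.comp (a p) →
      F.map s (y l) ∈ F.Span t (N p)) :
    ∃ N₀ : Submodule c.R (F.M c), N₀.FG ∧ (∀ p, F.Span (a p) N₀ = N p) ∧ ∀ l, y l ∈ F.Span (g l) N₀ := by
  classical
  let Q : Set (F.M c) := {x | ∀ p, F.map (a p) x ∈ N p}
  have key : ∀ {d : Chart Y} (h : Chart.Hom d c) (z : F.M d),
      (∀ p (D : Chart Y) (s : Chart.Hom D d) (t : Chart.Hom D (e p)), s.comp h = t.comp (a p) →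
        F.map s z ∈ F.Span t (N p)) →
      ∃ T : Finset (F.M c), (T : Set (F.M c)) ⊆ Q ∧ z ∈ Submodule.span d.R (F.map h '' T) := fun h z hz => by
    obtain ⟨T, hT, hzT⟩ := Submodule.mem_span_finite_of_mem_span (F.mem_span_iInf e a N h z hz)
    choose x hx using fun i : T => hT i.2
    refine ⟨Finset.univ.image x, fun i hi => ?_, Submodule.span_mono (fun i hi => ?_) hzT⟩
    · obtain ⟨j, -, rfl⟩ := Finset.mem_image.1 hi
      exact (hx j).1
    · exact ⟨x ⟨i, hi⟩, Finset.mem_image_of_mem x (Finset.mem_univ _), (hx ⟨i, hi⟩).2⟩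
  choose gen hgen using hN
  have := Fintype.ofFinite ι
  have := Fintype.ofFinite κ
  choose T hT hT' using fun (q : ι) (z : gen q) => key (a q) z.1 fun p D s t hst => by
    have h := hcompat q p D s t hst
    rw [← h]
    exact F.map_mem_span ((hgen q).le (Submodule.subset_span z.2))
  choose T₂ hT₂ hT₂' using fun l => key (g l) (y l) (hy l)
  let T₀ : Finset (F.M c) := (Finset.univ.biUnion fun q => (Finset.univ.biUnion fun z => T q z)) ∪
    Finset.univ.biUnion T₂
  have hT₀ : (T₀ : Set (F.M c)) ⊆ Q := fun x hx => by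
    simp only [T₀, Finset.coe_union, Finset.coe_biUnion, Set.mem_union, Set.mem_iUnion] at hx
    rcases hx with ⟨q, -, z, -, h⟩ | ⟨l, -, h⟩
    exacts [hT q z h, hT₂ l h]
  refine ⟨Submodule.span c.R T₀, ⟨T₀, rfl⟩, fun p => le_antisymm ?_ ?_, fun l => ?_⟩
  · rw [span_span_set, Submodule.span_le, Set.image_subset_iff]
    exact fun x hx => hT₀ hx p
  · rw [← hgen p, Submodule.span_le, span_span_set]
    intro z hz
    refine Submodule.span_mono (Set.image_mono ?_) (hT' p ⟨z, hz⟩)
    intro x hx
    exact Finset.mem_union_left _ (Finset.mem_biUnion.2 ⟨p, Finset.mem_univ _,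
      Finset.mem_biUnion.2 ⟨⟨z, hz⟩, Finset.mem_univ _, hx⟩⟩)
  · rw [span_span_set]
    refine Submodule.span_mono (Set.image_mono ?_) (hT₂' l)
    intro x hx
    exact Finset.mem_union_right _ (Finset.mem_biUnion.2 ⟨l, Finset.mem_univ _, hx⟩)

end QMod

end Groth.Agent.AlgSpQMod
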