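import Groth.Agent.AlgSpQMod.QcOpen
import Groth.Prelude.Def_AlgSpEt
import Groth.Prelude.Def_AlgSpCov
import Mathlib.CategoryTheory.Sites.Continuous
import Mathlib.CategoryTheory.Sites.Over

/-!
# The small etale site of a space inside the big etale site
-/

set_option autoImplicit false
set_option backward.isDefEq.respectTransparency false
set_option backward.isDefEq.respectTransparency.types false
set_option maxHeartbeats 400000

universe u

open CategoryTheory CategoryTheory.Limits AlgebraicGeometry AlgSp Groth.Agent.AlgSpLib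

namespace Groth.Agent.AlgSpQMod

variable {S : Scheme.{u}}

/-- Every scheme mapping to the space etale locally factors through the sieve. -/
def EtGood {X : Space S} (T : Sieve X) : Prop :=
  ∀ (W : Over S) (g : (ofScheme S).obj W ⟶ X) (w : W.left),
    ∃ (V : Over S) (q : V ⟶ W), Etale q.left ∧ w ∈ Set.range q.left ∧ T ((ofScheme S).map q ≫ g)

theorem etGood_of_mem {X : Space S} {T : Sieve X} (hT : T ∈ spacesTop S IsEtaleMor X) : EtGood T := by
  induction (hT : (spacesPre S IsEtaleMor).Saturate X T) with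
  | of X R hR =>
    intro W g w
    obtain ⟨Y, h, hh, z, hz⟩ := hR.2 (Points.ofPt g.hom w)
    rw [Points.ofPt_eq_map_ofScheme] at hz
    have sq := IsPullback.of_hasPullback h.hom g.hom
    obtain ⟨p, -, hp⟩ := exists_point_of_isPullback sq hz
    have hP : IsAlgSpace (pullback h.hom g.hom) := isAlgSpace_of_isPullback sq Y.property (IsAlgSpace.yon_obj W) X.property
    obtain ⟨V, a, ha, has⟩ := hP.atlas
    obtain ⟨v, rfl⟩ := surjective_ofPt has p
    have he : IsEtaleMor (pullback.snd h.hom g.hom) := isEtaleMor_of_isPullback sq Y.property X.property (IsAlgSpace.yon_obj W) (hR.1 h hh)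
    obtain ⟨q, hq⟩ := (yon S).map_surjective (a ≫ pullback.snd h.hom g.hom)
    refine ⟨V, q, (repWith_yon_map_iff _ _).1 (hq ▸ he a ha), ⟨v, (Points.schemeHomeo W).injective ?_⟩,
      Y, ObjectProperty.homMk (a ≫ pullback.fst h.hom g.hom), h, hh, ?_⟩
    · rw [Points.map_ofPt, ← hq, Points.ofPt_eq_map_ofScheme] at hp
      exact (Points.map_yon_map_apply q v).symm.trans hp
    · refine InducedCategory.hom_ext ?_
      change (a ≫ pullback.fst _ _) ≫ h.hom = (yon S).map q ≫ g.hom
      rw [hq, Category.assoc, Category.assoc, pullback.condition]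
  | top X =>
    intro W g w
    exact ⟨W, 𝟙 W, inferInstanceAs (Etale (𝟙 W.left)), ⟨w, rfl⟩, trivial⟩
  | pullback X T _ Y f ih =>
    intro W g w
    obtain ⟨V, q, hq, hw, hT⟩ := ih W (g ≫ f) w
    exact ⟨V, q, hq, hw, by rw [Sieve.pullback_apply, Category.assoc]; exact hT⟩
  | transitive X T R _ _ ih ih' =>
    intro W g w
    obtain ⟨V, q, hq, ⟨v, rfl⟩, hT⟩ := ih W g w
    obtain ⟨V', q', hq', ⟨v', rfl⟩, hR⟩ := ih' hT V (𝟙 _) v
    refine ⟨V', q' ≫ q, ?_, ⟨v', rfl⟩, ?_⟩
    · haveI := hq
      haveI := hq'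
      exact inferInstanceAs (Etale (q'.left ≫ q.left))
    · rw [Functor.map_comp, Category.assoc]
      simpa using hR

variable {X Y : Space S} (f : Y ⟶ X)

/-- The inclusion of the small site into the big one. -/
noncomputable abbrev toBig : EtOver Y.obj ⥤ Over X :=
  EtOver.toEtSpOver Y ⋙ ObjectProperty.ι (fun E : Over Y => IsEtaleMor E.hom.hom) ⋙ Over.map f

theorem isCocontinuous_toBig : (toBig f).IsCocontinuous (etTop Y.obj) (spacesTopOver IsEtaleMor X) := by
  constructor
  intro E T hT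
  rw [GrothendieckTopology.mem_over_iff] at hT
  have key : ∀ w : E.obj.left.left, ∃ (V : Over S) (q : V ⟶ E.obj.left), Etale q.left ∧ w ∈ Set.range q.left ∧
      Sieve.overEquiv ((toBig f).obj E) T ((ofScheme S).map q) := fun w => by
    obtain ⟨V, q, hq, hw, h⟩ := etGood_of_mem hT E.obj.left (𝟙 _) w
    exact ⟨V, q, hq, hw, by simpa using h⟩
  choose V q hq hw hTq using key
  let Z : E.obj.left.left → EtOver Y.obj := fun w => EtOver.mk ((yon S).map (q w) ≫ E.obj.hom)
    (repWith_comp ((repWith_yon_map_iff _ _).2 (hq w)) E.property)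
  let g : ∀ w, Z w ⟶ E := fun w => EtOver.homMk (q w) rfl
  refine GrothendieckTopology.superset_covering _ ?_ (ofArrows_mem_etTop Z g fun w => ⟨w, hw w⟩)
  rw [Sieve.ofArrows, Sieve.generate_le_iff]
  rintro _ _ ⟨w⟩
  have h := hTq w
  rw [Sieve.overEquiv_iff] at h
  let P : Over X := Over.mk ((ofScheme S).map (q w) ≫ ((toBig f).obj E).hom)
  let m : P ⟶ (toBig f).obj E := Over.homMk ((ofScheme S).map (q w)) rfl
  let e : (toBig f).obj (Z w) ⟶ P :=
    Over.homMk (𝟙 _) (InducedCategory.hom_ext (by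
      change 𝟙 _ ≫ (yon S).map (q w) ≫ E.obj.hom ≫ f.hom = ((yon S).map (q w) ≫ E.obj.hom) ≫ f.hom
      simp))
  rw [Sieve.functorPullback_apply, Presieve.functorPullback_mem,
    show (toBig f).map (g w) = e ≫ m from
      Over.OverMorphism.ext (by change _ = 𝟙 _ ≫ _; rw [Category.id_comp]; rfl)]
  exact T.downward_closed h e

theorem preservesPullback_toBig {E₁ E₂ E₀ : EtOver Y.obj} (g₁ : E₁ ⟶ E₀) (g₂ : E₂ ⟶ E₀) :
    PreservesLimit (cospan g₁ g₂) (toBig f) := by
  refine preservesLimit_of_preserves_limit_cone (EtOver.pullbackIsLimit g₁ g₂)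
    ((isLimitMapConePullbackConeEquiv _ _).symm ?_)
  have sq : IsPullback ((yon S).map (pullback.fst g₁.hom.left g₂.hom.left))
      ((yon S).map (pullback.snd g₁.hom.left g₂.hom.left)) ((yon S).map g₁.hom.left) ((yon S).map g₂.hom.left) :=
    (IsPullback.of_hasPullback _ _).map (yon S)
  have hcond : ∀ s : PullbackCone ((toBig f).map g₁) ((toBig f).map g₂),
      s.fst.left.hom ≫ (yon S).map g₁.hom.left = s.snd.left.hom ≫ (yon S).map g₂.hom.left :=
    fun s => congrArg (fun k => k.left.hom) s.condition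
  refine PullbackCone.IsLimit.mk _
    (fun s => Over.homMk (ObjectProperty.homMk (sq.lift s.fst.left.hom s.snd.left.hom (hcond s))) ?_)
    (fun s => ?_) (fun s => ?_) (fun s m h₁ h₂ => ?_)
  · refine InducedCategory.hom_ext ?_
    change sq.lift _ _ _ ≫ ((yon S).map (pullback.fst g₁.hom.left g₂.hom.left) ≫ E₁.obj.hom) ≫ f.hom = s.pt.hom.hom
    rw [Category.assoc, IsPullback.lift_fst_assoc]
    exact congrArg (·.hom) (Over.w s.fst)
  · exact Over.OverMorphism.ext (InducedCategory.hom_ext (sq.lift_fst _ _ _))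
  · exact Over.OverMorphism.ext (InducedCategory.hom_ext (sq.lift_snd _ _ _))
  · refine Over.OverMorphism.ext (InducedCategory.hom_ext (sq.hom_ext ?_ ?_))
    · exact (congrArg (fun k => k.left.hom) h₁).trans (sq.lift_fst _ _ _).symm
    · exact (congrArg (fun k => k.left.hom) h₂).trans (sq.lift_snd _ _ _).symm

theorem isContinuous_toBig : (toBig f).IsContinuous (etTop Y.obj) (spacesTopOver IsEtaleMor X) := by
  haveI : ∀ {E₁ E₂ E₀ : EtOver Y.obj} (g₁ : E₁ ⟶ E₀) (g₂ : E₂ ⟶ E₀),
      PreservesLimit (cospan g₁ g₂) (toBig f) := preservesPullback_toBig f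
  haveI : PreservesLimitsOfShape WalkingCospan (toBig f) :=
    ⟨fun {K} => preservesLimit_of_iso_diagram _ (diagramIsoCospan K).symm⟩
  constructor
  rintro ⟨G, H⟩
  unfold etTop
  rw [isSheaf_iff_isSheaf_of_type] at H
  rw [← Precoverage.toGrothendieck_toCoverage, Presieve.isSheaf_coverage]
  intro E R hR
  have : (toBig f).PreservesPairwisePullbacks R := (etPre Y.obj).preservesPairwisePullbacks_of_mem hR
  have : R.HasPairwisePullbacks := (etPre Y.obj).hasPairwisePullbacks_of_mem hR
  rw [Presieve.IsSheafFor.comp_iff_of_preservesPairwisePullbacks, Presieve.isSheafFor_iff_generate]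
  refine H _ ?_
  rw [GrothendieckTopology.mem_over_iff]
  obtain ⟨ι, Z, g, rfl⟩ := R.exists_eq_ofArrows
  rw [Presieve.map_ofArrows, ← Sieve.ofArrows, Sieve.overEquiv_ofArrows]
  refine Precoverage.generate_mem_toGrothendieck ⟨?_, fun x => ?_⟩
  · rintro _ _ ⟨i⟩
    exact (isEtaleMor_yon_map_iff _).2 (EtOver.etale_left (g i))
  · obtain ⟨w, rfl⟩ := (Points.schemeHomeo E.obj.left).surjective x
    obtain ⟨i, v, hv⟩ := (ofArrows_mem_etPre_iff Z g).1 hR w
    exact ⟨_, _, ⟨i⟩, Points.ofScheme _ v, (Points.map_yon_map_apply (g i).hom.left v).trans (congrArg _ hv)⟩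

end Groth.Agent.AlgSpQMod
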