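import Groth.Agent.AlgSpQMod.Family
import Groth.Agent.AlgSpDec.Stratify

/-!
# A quasi-compact quasi-separated space is built up from separating charts
-/

set_option autoImplicit false
set_option backward.isDefEq.respectTransparency false
set_option backward.isDefEq.respectTransparency.types false

universe u v

open CategoryTheory CategoryTheory.Limits AlgebraicGeometry AlgSp Groth.Agent.AlgSpLib TopologicalSpace
  Groth.Agent.AlgSpDec Groth.Agent.AlgSpDec.DistTuples Groth.Agent.AlgSpDec.Stratify Groth.Agent.AlgSpPts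

namespace Groth.Agent.AlgSpQMod

variable {S : Scheme.{u}}

theorem built_univ [QuasiSeparatedSpace ↥S] {Y : Sp S} (hY : IsAlgSpace Y) (hqc : IsQuasiCompactSp Y)
    (hqs : IsQuasiSeparatedSp Y) : Built Y Set.univ := by
  obtain ⟨U, a, hU, ha, has⟩ := AlgSpDec.exists_affine_atlas hqc
  haveI := hU
  have haqc : RepWith @QuasiCompact a := repWith_quasiCompact ha.rep (isQuasiCompactMor_of_qc_qs
    (IsAlgSpace.yon_obj U) hY ((AlgSpPts.isQuasiCompactSp_yon_iff U).2 inferInstance) hqs a)
  haveI : QuasiCompact (ha.rep.snd a).left := haqc.property a _ _ (ha.rep.isPullback a)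
  haveI : CompactSpace (ha.rep.pullback a).left :=
    QuasiCompact.compactSpace_of_compactSpace (ha.rep.snd a).left
  choose W π hw hlift hext het hsep hqcW hd using
    fun n => exists_distinct ha (isSeparated_snd_of_isAffine ha) n
  obtain ⟨N, hN⟩ := img_eq_empty hw hd ha
  suffices ∀ k n, N ≤ n + k → Built Y (img π a n) by
    rw [← img_zero (π := π) hlift has]; exact this N 0 (by omega)
  intro k
  induction k with
  | zero =>
    intro n hn
    have : ∀ j, img π a (N + j) = ∅ := fun j => by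
      induction j with
      | zero => exact hN
      | succ j ih => exact Set.subset_empty_iff.1 (ih ▸ img_succ_subset hw hlift hd (N + j))
    obtain ⟨j, rfl⟩ := Nat.exists_eq_add_of_le (show N ≤ n by omega)
    rw [this j]
    exact Built.empty
  | succ k ih =>
    intro n hn
    have hO : Built Y (img π a (n + 1)) := ih (n + 1) (by omega)
    obtain ⟨V, v, q, hVs, hVc, hve, hqe, hqs', hqv, hperm⟩ := exists_unordered hY ha (hw n) (hlift n)
      (hext n) (het n) (hsep n) (hqcW n) (hd n)
    haveI := hVc haqc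
    have hrv : Set.range (Points.ofPt v) = img π a n := by
      ext x
      constructor
      · rintro ⟨y, rfl⟩
        obtain ⟨w, rfl⟩ := hqs'.surj y
        exact ⟨w, by rw [← hqv, ofPt_comp]⟩
      · rintro ⟨w, rfl⟩
        exact ⟨q.left w, by rw [← hqv, ofPt_comp]⟩
    obtain ⟨s, hs, hsU⟩ := (isCompact_iff_finite_and_eq_biUnion_affineOpens
      (U := (⊤ : V.left.Opens))).1 (by simpa using isCompact_univ)
    let C : V.left.affineOpens → Chart Y := fun B =>
      { W := Over.mk (B.1.ι ≫ V.hom)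
        aff := B.2
        c := (yon S).map (CategoryTheory.Over.homMk B.1.ι rfl : Over.mk (B.1.ι ≫ V.hom) ⟶ V) ≫ v
        et := repWith_comp ((repWith_yon_map_iff _ _).2 (inferInstanceAs (Etale B.1.ι))) hve }
    have hsep : ∀ (B : V.left.affineOpens) (D : Chart Y) (k l : Chart.Hom D (C B)) (w : D.W.left),
        Points.ofPt D.c w ∈ img π a (n + 1) ∨ AgreeAt k l w := by
      intro B D k l w
      by_cases hmem : Points.ofPt D.c w ∈ img π a (n + 1)
      · exact Or.inl hmem
      refine Or.inr ?_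
      let o : (C B).W ⟶ V := CategoryTheory.Over.homMk B.1.ι rfl
      obtain ⟨K, hK⟩ : ∃ K, K = k.k ≫ o := ⟨_, rfl⟩
      obtain ⟨L, hL⟩ : ∃ L, L = l.k ≫ o := ⟨_, rfl⟩
      have hKc : (yon S).map K ≫ v = D.c := by rw [hK, Functor.map_comp, Category.assoc]; exact k.w
      have hLc : (yon S).map L ≫ v = D.c := by rw [hL, Functor.map_comp, Category.assoc]; exact l.w
      have sq := hve.rep.isPullback' v
      let r₁ : hve.rep.pullback v ⟶ V := hve.rep.fst' v
      let r₂ : hve.rep.pullback v ⟶ V := hve.rep.snd v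
      haveI : Etale r₂.left := hve.property_snd v
      obtain ⟨δ, hδ⟩ := (yon S).map_surjective (sq.lift (𝟙 _) (𝟙 _) rfl)
      have hδ₁ : δ ≫ r₁ = 𝟙 V := (yon S).map_injective (by
        rw [Functor.map_comp, hδ, sq.lift_fst, CategoryTheory.Functor.map_id])
      have hδ₂ : δ ≫ r₂ = 𝟙 V := (yon S).map_injective (by
        rw [Functor.map_comp, hδ, sq.lift_snd, CategoryTheory.Functor.map_id])
      haveI : IsOpenImmersion δ.left :=
        EtFound.isOpenImmersion_section r₂.left δ.left (congrArg (fun f => f.left) hδ₂)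
      obtain ⟨μ, hμ⟩ := (yon S).map_surjective (sq.lift ((yon S).map K) ((yon S).map L) (hKc.trans hLc.symm))
      have hμ₁ : μ ≫ r₁ = K := (yon S).map_injective (by rw [Functor.map_comp, hμ, sq.lift_fst])
      have hμ₂ : μ ≫ r₂ = L := (yon S).map_injective (by rw [Functor.map_comp, hμ, sq.lift_snd])
      obtain ⟨Ω, _, _, str', y, hy⟩ := exists_closure_pt (D.W.left.residueField w) (ptHom w)
      have hyw : (y ≫ ptHom w).left (IsLocalRing.closedPoint Ω) = w :=
        hy.trans (Scheme.fromSpecResidueField_apply w _)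
      have hlift' : ∀ v' : Over.mk str' ⟶ V, ∃ x : Over.mk str' ⟶ W n, x ≫ q = v' := fun v' => by
        haveI := hqe
        obtain ⟨w₀, hw₀⟩ := hqs'.surj (v'.left (IsLocalRing.closedPoint Ω))
        obtain ⟨m, hm, -⟩ := Scheme.exists_fac_of_etale_of_isSepClosed q.left v'.left w₀
          (hw₀.trans (congrArg v'.left (Subsingleton.elim (α := PrimeSpectrum Ω) _ _)))
        exact ⟨CategoryTheory.Over.homMk m (by
          rw [← CategoryTheory.Over.w q, ← Category.assoc, hm]; exact CategoryTheory.Over.w v'),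
          Over.OverMorphism.ext hm⟩
      obtain ⟨w₁, hw₁⟩ := hlift' (y ≫ ptHom w ≫ K)
      obtain ⟨w₂, hw₂⟩ := hlift' (y ≫ ptHom w ≫ L)
      have h₁ : (yon S).map (w₁ ≫ π n 0) ≫ a = (yon S).map (y ≫ ptHom w) ≫ D.c := by
        rw [Functor.map_comp, Category.assoc, ← hqv, ← Functor.map_comp_assoc, hw₁, ← Category.assoc y,
          Functor.map_comp, Category.assoc, hKc]
      have h₂ : (yon S).map (w₂ ≫ π n 0) ≫ a = (yon S).map (y ≫ ptHom w) ≫ D.c := by
        rw [Functor.map_comp, Category.assoc, ← hqv, ← Functor.map_comp_assoc, hw₂, ← Category.assoc y,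
          Functor.map_comp, Category.assoc, hLc]
      obtain ⟨σ, hσ⟩ := exists_perm hw hlift hd w₁ w₂ (h₁.trans h₂.symm) (by
        rw [h₁, ofPt_comp, hyw]; exact hmem)
      have hKL : y ≫ ptHom w ≫ K = y ≫ ptHom w ≫ L := by
        rw [← hw₁, ← hw₂, hperm w₁ w₂ σ hσ]
      have hfac : y ≫ ptHom w ≫ μ = (y ≫ ptHom w ≫ K) ≫ δ := by
        refine (yon S).map_injective (sq.hom_ext ?_ ?_)
        · rw [← Functor.map_comp, ← Functor.map_comp]
          simp only [Category.assoc]
          rw [hμ₁, hδ₁, Category.comp_id]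
        · rw [← Functor.map_comp, ← Functor.map_comp]
          simp only [Category.assoc]
          rw [hμ₂, hδ₂, Category.comp_id, hKL]
      have hwO : w ∈ μ.left ⁻¹ᵁ δ.left.opensRange := by
        refine ⟨(y ≫ ptHom w ≫ K).left (IsLocalRing.closedPoint Ω), ?_⟩
        rw [← Scheme.Hom.comp_apply, ← Over.comp_left, ← hfac, ← Category.assoc, Over.comp_left,
          Scheme.Hom.comp_apply, hyw]
      obtain ⟨A, hA, hwA, hAle⟩ := exists_isAffineOpen_mem_and_subset (U := μ.left ⁻¹ᵁ δ.left.opensRange) hwO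
      let jA : Over.mk (A.ι ≫ D.W.hom) ⟶ D.W := CategoryTheory.Over.homMk A.ι rfl
      let D' : Chart Y := ⟨Over.mk (A.ι ≫ D.W.hom), hA, (yon S).map jA ≫ D.c,
        repWith_comp ((repWith_yon_map_iff _ _).2 (inferInstanceAs (Etale A.ι))) D.et⟩
      obtain ⟨m, hm⟩ : ∃ m : D'.W ⟶ V, m ≫ δ = jA ≫ μ :=
        ⟨CategoryTheory.Over.homMk (IsOpenImmersion.lift δ.left (jA ≫ μ).left fun x ⟨z, hz⟩ => hz ▸ hAle z.2) (by
          rw [← CategoryTheory.Over.w δ, IsOpenImmersion.lift_fac_assoc]
          exact CategoryTheory.Over.w (jA ≫ μ)), Over.OverMorphism.ext (IsOpenImmersion.lift_fac _ _ _)⟩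
      have hKL' : jA ≫ K = jA ≫ L := by
        rw [← hμ₁, ← hμ₂, ← reassoc_of% hm, ← reassoc_of% hm, hδ₁, hδ₂]
      haveI : Mono o := (Over.forget S).mono_of_mono_map (inferInstanceAs (Mono B.1.ι))
      refine ⟨D', ⟨jA, rfl⟩, ⟨⟨w, hwA⟩, rfl⟩, Chart.Hom.ext' ((cancel_mono o).1 ?_)⟩
      change (jA ≫ k.k) ≫ o = (jA ≫ l.k) ≫ o
      rw [Category.assoc, Category.assoc, ← hK, ← hL, hKL']
    haveI := hs.fintype
    have hall : ∀ (T : Finset V.left.affineOpens),
        Built Y (img π a (n + 1) ∪ ⋃ B ∈ T, Set.range (Points.ofPt (C B).c)) := by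
      classical
      intro T
      induction T using Finset.induction_on with
      | empty => simpa using hO
      | insert B T _ hT =>
        have := hT.add (C B) fun D k l w => (hsep B D k l w).imp_left Or.inl
        convert this using 1
        rw [Finset.set_biUnion_insert, Set.union_comm (Set.range _), Set.union_assoc]
    convert hall hs.toFinset using 1
    have hC : ∀ B, Set.range (Points.ofPt (C B).c) = Points.ofPt v '' (B.1 : Set V.left) := fun B => by
      have e : Points.ofPt (C B).c = fun z : B.1.toScheme => Points.ofPt v (B.1.ι z) :=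
        funext fun z => ofPt_comp (CategoryTheory.Over.homMk B.1.ι rfl : Over.mk (B.1.ι ≫ V.hom) ⟶ V) v z
      rw [e, Set.range_comp' (Points.ofPt v) (fun z : B.1.toScheme => B.1.ι z)]
      exact congrArg _ B.1.range_ι
    ext x
    constructor
    · intro hx
      obtain ⟨z, rfl⟩ := hrv.symm.subset hx
      have hz : z ∈ (⨆ i ∈ s, (i : V.left.Opens)) := hsU ▸ trivial
      simp only [Opens.mem_iSup] at hz
      obtain ⟨B, hB, hzB⟩ := hz
      exact Or.inr (Set.mem_iUnion₂.2 ⟨B, hs.mem_toFinset.2 hB, (hC B).symm.subset ⟨z, hzB, rfl⟩⟩)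
    · rintro (hx | hx)
      · exact img_succ_subset hw hlift hd n hx
      · obtain ⟨B, -, hxB⟩ := Set.mem_iUnion₂.1 hx
        obtain ⟨z, -, rfl⟩ := (hC B).subset hxB
        exact hrv.subset ⟨z, rfl⟩

variable {Y : Sp S} {F : QMod.{u, v} Y}

theorem exists_fam [QuasiSeparatedSpace ↥S] (hY : IsAlgSpace Y) (hqs : IsQuasiSeparatedSp Y) {κ : Type} [Finite κ]
    (G : κ → Chart Y) (y : ∀ l, F.M (G l)) {O : Set (Points Y)} (hO : Built Y O) :
    ∃ Φ : Fam F, Φ.Has G y ∧ Φ.cov = O := by
  induction hO with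
  | empty =>
    exact ⟨⟨0, fun i => i.elim0, fun i => i.elim0, fun i => i.elim0, fun i => i.elim0⟩,
      fun _ i => i.elim0, Set.iUnion_of_empty _⟩
  | add h v hv ih =>
    obtain ⟨Φ, hΦ, hcov⟩ := ih
    subst hcov
    obtain ⟨Φ', h₁, h₂, -⟩ := Φ.exists_extend hY hqs G y hΦ v hv
    exact ⟨Φ', h₁, h₂⟩

/-- On a quasi-compact quasi-separated space, finitely many sections over a chart lie in a finitely
generated submodule whose pullbacks to any refinement do not depend on the refining morphism. -/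
theorem exists_fg_stable [QuasiSeparatedSpace ↥S] (hY : IsAlgSpace Y) (hqc : IsQuasiCompactSp Y)
    (hqs : IsQuasiSeparatedSp Y) (u : Chart Y) (T : Finset (F.M u)) :
    ∃ N : Submodule u.R (F.M u), N.FG ∧ (T : Set (F.M u)) ⊆ N ∧
      ∀ (D : Chart Y) (s t : Chart.Hom D u), F.Span s N = F.Span t N := by
  classical
  let y : Fin T.card → F.M u := fun l => (T.equivFin.symm l).1
  obtain ⟨Φ, hΦ, hcov⟩ := exists_fam hY hqs (F := F) (fun _ : Fin T.card => u) y (built_univ hY hqc hqs)
  obtain ⟨Φ', hΦ', -, i, hi⟩ := Φ.exists_extend hY hqs _ y hΦ u fun D k l w => Or.inl (hcov ▸ trivial)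
  subst hi
  refine ⟨Φ'.N i, Φ'.fg i, fun x hx => ?_, fun D s t => Φ'.stable i i D s t⟩
  have := hΦ' (T.equivFin ⟨x, hx⟩) i _ (Chart.Hom.id _) (Chart.Hom.id _)
  rwa [F.map_id, F.span_id, show y (T.equivFin ⟨x, hx⟩) = x by simp [y]] at this

end Groth.Agent.AlgSpQMod
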