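import Groth.Agent.AlgSpQMod.Ideal
import Groth.Agent.AlgSpDec.LimClosed
import Groth.Agent.AlgSpLib.LocalBaseTop
import Groth.Agent.AlgSpPts.Descent
import Groth.Agent.AlgSpNorm.Basic
import Groth.Agent.AlgSpDec.LimDescent

/-!
# A closed subspace is the limit of finitely presented closed subspaces
-/

set_option autoImplicit false
set_option backward.isDefEq.respectTransparency false
set_option backward.isDefEq.respectTransparency.types false
set_option maxHeartbeats 400000

universe u

open CategoryTheory CategoryTheory.Limits AlgebraicGeometry AlgSp Opposite Groth.Agent.AlgSpLib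

namespace Groth.Agent.AlgSpQMod

variable {S : Scheme.{u}} {Y : Sp S}

/-- Factoring through a monomorphism is tested on a chart. -/
theorem exists_factor {Z K : Sp S} {j : Z ⟶ Y} [Mono j] {u : Chart Y} (hu : RepWith @Surjective u.c) {V : Over S}
    {ι : V ⟶ u.W} {q : (yon S).obj V ⟶ Z} (sq : IsPullback q ((yon S).map ι) j u.c) (g : K ⟶ Y)
    (H : ∀ (T T' : Over S) (t : (yon S).obj T ⟶ K) (k : T' ⟶ T) (v : T' ⟶ u.W),
      (yon S).map k ≫ t ≫ g = (yon S).map v ≫ u.c → ∃ l, l ≫ ι = v) : ∃ h : K ⟶ Z, h ≫ j = g := by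
  haveI : Mono (pullback.snd j g) := inferInstance
  have : Sheaf.IsLocallySurjective (pullback.snd j g) := isLocallySurjective_of_lifts _ fun T t => by
    let k := u.et.rep.snd (t ≫ g)
    let v := u.et.rep.fst' (t ≫ g)
    have hv := (u.et.rep.isPullback' (t ≫ g)).w
    obtain ⟨l, hl⟩ := H T _ t k v hv.symm
    haveI : Etale k.left := u.et.property_snd (t ≫ g)
    haveI : Surjective k.left := hu.2 _ _ _ (u.et.rep.isPullback (t ≫ g))
    refine ⟨_, k, pullback.lift ((yon S).map l ≫ q) ((yon S).map k ≫ t) ?_, fppf_of_etale _, pullback.lift_snd _ _ _⟩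
    rw [Category.assoc, sq.w, ← Functor.map_comp_assoc, hl, hv, Category.assoc]
  have := isIso_of_mono_of_locallySurjective (pullback.snd j g)
  exact ⟨inv (pullback.snd j g) ≫ pullback.fst j g, by
    rw [Category.assoc, pullback.condition, IsIso.inv_hom_id_assoc]⟩

theorem isFinitePresentationMor_yon {U V : Over S} (g : U ⟶ V) [LocallyOfFinitePresentation g.left]
    [IsAffineHom g.left] : IsFinitePresentationMor ((yon S).map g) :=
  ⟨locP_of_repWith ((repWith_yon_map_iff @LocallyOfFinitePresentation g).2 inferInstance),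
    AlgSpPts.isQuasiCompactMor_of_repWith ((repWith_yon_map_iff @QuasiCompact _).2 inferInstance),
    (isQuasiSeparatedMor_yon_map_iff g).2 inferInstance⟩

theorem repWith_closed_of_comp {Z' Z : Sp S} {t : Z' ⟶ Z} {j : Z ⟶ Y}
    (hj : RepWith @IsClosedImmersion j) [Mono j] (h : RepWith @IsClosedImmersion (t ≫ j)) :
    RepWith @IsClosedImmersion t :=
  of_comp_of_diagonal (RepWith (S := S) @IsClosedImmersion) t j h
    (repWith_of_isIso _ (pullback.diagonal j))

theorem lfp_idealι (u : Chart Y) {J : Ideal u.R} (hJ : J.FG) :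
    LocallyOfFinitePresentation (idealι u J).left := by
  have : LocallyOfFinitePresentation (Spec.map (CommRingCat.ofHom (Ideal.Quotient.mk J))) :=
    (HasRingHomProperty.Spec_iff (P := @LocallyOfFinitePresentation)).2
      (RingHom.FinitePresentation.of_surjective _ Ideal.Quotient.mk_surjective (by
        rw [CommRingCat.hom_ofHom, Ideal.mk_ker]; exact hJ))
  change LocallyOfFinitePresentation (Spec.map _ ≫ u.W.left.isoSpec.inv)
  infer_instance

/-- A closed subspace is the limit of the finitely presented closed subspaces containing it. -/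
theorem exists_closed_limit [QuasiSeparatedSpace ↥S] {X : Sp S} (hY : IsAlgSpace Y) (hqc : IsQuasiCompactSp Y)
    (hqs : IsQuasiSeparatedSp Y) {f : X ⟶ Y} (hfc : RepWith @IsClosedImmersion f) :
    ∃ (I : Type u) (_ : Preorder I) (_ : IsDirected I (fun a b => a ≤ b)) (_ : Nonempty I) (D : Iᵒᵖ ⥤ Sp S)
      (t : D ⟶ (Functor.const Iᵒᵖ).obj Y) (c : Cone D) (_ : IsLimit c) (e : c.pt ≅ X),
      (∀ i, IsAlgSpace (D.obj i)) ∧ (∀ (i j : Iᵒᵖ) (φ : i ⟶ j), RepWith @IsClosedImmersion (D.map φ)) ∧
      (∀ i, RepWith @IsClosedImmersion (t.app i) ∧ IsFinitePresentationMor (t.app i)) ∧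
      (∀ i, e.inv ≫ c.π.app i ≫ t.app i = f) := by
  classical
  have hf : RepWith (@QuasiCompact ⊓ @QuasiSeparated) f :=
    repWith_mono (fun _ _ e (_ : IsClosedImmersion e) => ⟨inferInstance, inferInstance⟩) _ hfc
  obtain ⟨U, a, hU, hae, has⟩ := AlgSpDec.exists_affine_atlas hqc
  obtain ⟨u, hu⟩ : ∃ u : Chart Y, RepWith @Surjective u.c := ⟨⟨U, hU, a, hae⟩, has⟩
  let π := preπ f hf u
  haveI hπc : IsClosedImmersion π.left := hfc.2 u.c _ _ (hf.rep.isPullback u.c)
  let K := RingHom.ker π.left.appTop.hom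
  let I : Type u := {J : Ideal u.R // J.FG ∧ J ≤ K ∧ ∀ (D : Chart Y) (s t : Chart.Hom D u), J.map s.φ = J.map t.φ}
  have hex : ∀ T : Finset u.R, (∀ x ∈ T, x ∈ K) → ∃ J : I, (T : Set u.R) ⊆ J.1 := fun T hT => by
    obtain ⟨J, h1, h2, h3, h4⟩ := exists_fg_ideal f hf hY hqc hqs u T hT
    exact ⟨⟨J, h1, h2, h4⟩, h3⟩
  have hdir : IsDirected I (fun a b => a ≤ b) := ⟨fun a b => by
    obtain ⟨A, hA⟩ := a.2.1
    obtain ⟨B, hB⟩ := b.2.1
    obtain ⟨J, hJ⟩ := hex (A ∪ B) fun x hx => by
      rcases Finset.mem_union.1 hx with h | h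
      · exact a.2.2.1 (hA ▸ Ideal.subset_span h)
      · exact b.2.2.1 (hB ▸ Ideal.subset_span h)
    refine ⟨J, show a.1 ≤ J.1 from ?_, show b.1 ≤ J.1 from ?_⟩
    · rw [← hA, Ideal.span_le]; exact fun x hx => hJ (Finset.mem_union_left _ hx)
    · rw [← hB, Ideal.span_le]; exact fun x hx => hJ (Finset.mem_union_right _ hx)⟩
  have hne : Nonempty I := (hex ∅ (by simp)).nonempty
  choose Z j q hj sq hqe hqs' using fun J : I => exists_closed_sub u hY hu J.1 J.2.2.2
  haveI hmono : ∀ J, Mono (j J) := fun J => mono_of_yon_injective fun T x y h => by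
    obtain ⟨x', hx⟩ : ∃ x', x' = (hj J).rep.lift x (𝟙 T) (g := x ≫ j J) (by simp) := ⟨_, rfl⟩
    obtain ⟨y', hy⟩ : ∃ y', y' = (hj J).rep.lift y (𝟙 T) (g := x ≫ j J) (by simp [h]) := ⟨_, rfl⟩
    have hm : Mono ((hj J).rep.snd (x ≫ j J)) :=
      (Over.forget S).mono_of_mono_map (by
        haveI : IsClosedImmersion ((hj J).rep.snd (x ≫ j J)).left := (hj J).property_snd _
        exact inferInstanceAs (Mono ((hj J).rep.snd (x ≫ j J)).left))
    have : x' = y' := by
      rw [← cancel_mono ((hj J).rep.snd (x ≫ j J)), hx, hy, Functor.relativelyRepresentable.lift_snd,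
        Functor.relativelyRepresentable.lift_snd]
    simpa [hx, hy] using congrArg (fun m => (yon S).map m ≫ (hj J).rep.fst (x ≫ j J)) this
  -- factorizations through the stages are detected by the ideals
  have hfac : ∀ (J : I) (W : Sp S) (g : W ⟶ Y), (∀ (T T' : Over S) (t : (yon S).obj T ⟶ W) (k : T' ⟶ T)
      (v : T' ⟶ u.W), (yon S).map k ≫ t ≫ g = (yon S).map v ≫ u.c → ∀ x ∈ J.1, v.left.appTop.hom x = 0) →
      ∃ h, h ≫ j J = g := fun J W g H =>
    exists_factor hu (sq J) g fun T T' t k v hv => (factor_iff u v J.1).2 (H T T' t k v hv)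
  have hkill : ∀ (J : I) {W : Sp S} (h : W ⟶ (Z J).obj) (T' : Over S) (t : (yon S).obj T' ⟶ W) (v : T' ⟶ u.W),
      t ≫ h ≫ j J = (yon S).map v ≫ u.c → ∀ x ∈ J.1, v.left.appTop.hom x = 0 := by
    intro J W h T' t v hv
    obtain ⟨l, hl⟩ := (yon S).map_surjective ((sq J).lift (t ≫ h) ((yon S).map v) (by rw [Category.assoc, hv]))
    refine (factor_iff u v J.1).1 ⟨l, (yon S).map_injective ?_⟩
    rw [Functor.map_comp, hl, IsPullback.lift_snd]
  have htr : ∀ {a b : I}, a ≤ b → ∃ h : (Z b).obj ⟶ (Z a).obj, h ≫ j a = j b := fun {a b} hab =>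
    hfac a _ _ fun T T' t k v hv x hx =>
      hkill b (𝟙 _) T' ((yon S).map k ≫ t) v (by rw [Category.id_comp, Category.assoc, hv]) x (hab hx)
  choose tr htr' using @htr
  have hcone : ∀ J, ∃ h : X ⟶ (Z J).obj, h ≫ j J = f := fun J => hfac J _ _ fun T T' t k v hv x hx => by
    obtain ⟨l, -, hl⟩ : ∃ l : T' ⟶ pre f hf u, (yon S).map l ≫ hf.rep.fst u.c = (yon S).map k ≫ t ∧ l ≫ π = v :=
      ⟨hf.rep.lift ((yon S).map k ≫ t) v (by rw [Category.assoc, hv]), hf.rep.lift_fst _ _ _,
        hf.rep.lift_snd _ _ _⟩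
    rw [← hl]
    change l.left.appTop.hom (π.left.appTop.hom x) = 0
    rw [show π.left.appTop.hom x = 0 from J.2.2.1 hx, map_zero]
  choose cπ hcπ using hcone
  let D : Iᵒᵖ ⥤ Sp S :=
    { obj := fun i => (Z i.unop).obj
      map := fun {a b} φ => tr (leOfHom φ.unop)
      map_id := fun a => by rw [← cancel_mono (j a.unop), htr', Category.id_comp]
      map_comp := fun {a b c} φ ψ => by rw [← cancel_mono (j c.unop), htr', Category.assoc, htr', htr'] }
  let t : D ⟶ (Functor.const Iᵒᵖ).obj Y :=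
    { app := fun i => j i.unop
      naturality := fun a b φ => by
        change tr _ ≫ j b.unop = j a.unop ≫ 𝟙 _
        rw [htr', Category.comp_id] }
  let c : Cone D :=
    { pt := X
      π := { app := fun i => cπ i.unop
             naturality := fun a b φ => by
              change 𝟙 _ ≫ cπ b.unop = cπ a.unop ≫ tr _
              rw [← cancel_mono (j b.unop), Category.assoc, Category.assoc, htr', hcπ, hcπ, Category.id_comp] } }
  haveI hfm : Mono f := mono_of_yon_injective fun T x y h => by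
    obtain ⟨x', hx⟩ : ∃ x', x' = hf.rep.lift x (𝟙 T) (g := x ≫ f) (by simp) := ⟨_, rfl⟩
    obtain ⟨y', hy⟩ : ∃ y', y' = hf.rep.lift y (𝟙 T) (g := x ≫ f) (by simp [h]) := ⟨_, rfl⟩
    have hm : Mono (hf.rep.snd (x ≫ f)) :=
      (Over.forget S).mono_of_mono_map (by
        haveI : IsClosedImmersion (hf.rep.snd (x ≫ f)).left := hfc.2 _ _ _ (hf.rep.isPullback (x ≫ f))
        exact inferInstanceAs (Mono (hf.rep.snd (x ≫ f)).left))
    have : x' = y' := by
      rw [← cancel_mono (hf.rep.snd (x ≫ f)), hx, hy, Functor.relativelyRepresentable.lift_snd,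
        Functor.relativelyRepresentable.lift_snd]
    simpa [hx, hy] using congrArg (fun m => (yon S).map m ≫ hf.rep.fst (x ≫ f)) this
  haveI : IsAffine (pre f hf u).left := isAffine_of_isAffineHom π.left
  have hlift : ∀ s : Cone D, ∃ l : s.pt ⟶ X, l ≫ f = s.π.app (op hne.some) ≫ j hne.some := by
    intro s
    refine exists_factor hu (hf.rep.isPullback u.c) _ fun T T' t' k v hv => ?_
    have hv' : ∀ x ∈ K, v.left.appTop.hom x = 0 := fun x hx => by
      obtain ⟨J, hJ⟩ := hex {x} (by simpa using hx)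
      obtain ⟨b, hb₁, hb₂⟩ := hdir.directed J hne.some
      have e : s.π.app (op hne.some) ≫ j hne.some = s.π.app (op b) ≫ j b := by
        rw [← s.w (homOfLE hb₂).op]
        change (s.π.app (op b) ≫ tr _) ≫ _ = _
        rw [Category.assoc, htr']
      refine hkill b (s.π.app (op b)) T' ((yon S).map k ≫ t') v ?_ x (hb₁ (hJ (by simp)))
      rw [← hv, e, Category.assoc]
    have hsur := (IsClosedImmersion.isAffine_surjective_of_isAffine π.left).2
    let φ : Γ((pre f hf u).left, ⊤) →+* Γ(T'.left, ⊤) :=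
      π.left.appTop.hom.liftOfSurjective hsur ⟨v.left.appTop.hom, hv'⟩
    obtain ⟨l, hl⟩ : ∃ l : T'.left ⟶ (pre f hf u).left, l.appTop = CommRingCat.ofHom φ :=
      ⟨T'.left.toSpecΓ ≫ Spec.map (CommRingCat.ofHom φ) ≫ (pre f hf u).left.isoSpec.inv, by
        simp [Scheme.isoSpec, Scheme.Hom.comp_appTop]
        exact congrArg (· ≫ CommRingCat.ofHom φ) (Scheme.toSpecΓ_appTop _).symm⟩
    have e : l ≫ π.left = v.left := by
      refine ext_of_isAffine ?_
      ext x
      change l.appTop.hom (π.left.appTop.hom x) = v.left.appTop.hom x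
      rw [hl]
      exact RingHom.liftOfRightInverse_comp_apply _ _ (Function.rightInverse_surjInv hsur) _ x
    exact ⟨CategoryTheory.Over.homMk l (by rw [← Over.w π, reassoc_of% e]; exact Over.w v), Over.OverMorphism.ext e⟩
  choose L hL using hlift
  have hlim : IsLimit c :=
    { lift := L
      fac := fun s i => by
        rw [← cancel_mono (j i.unop), Category.assoc]
        change L s ≫ cπ i.unop ≫ j i.unop = _
        rw [hcπ, hL]
        obtain ⟨b, hb₁, hb₂⟩ := hdir.directed i.unop hne.some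
        rw [← s.w (homOfLE hb₂).op, show s.π.app i = _ from (s.w (homOfLE hb₁).op).symm]
        change (_ ≫ tr _) ≫ _ = (_ ≫ tr _) ≫ _
        rw [Category.assoc, Category.assoc, htr', htr']
      uniq := fun s m hm => by
        rw [← cancel_mono f, hL, ← hm (op hne.some)]
        change m ≫ f = (m ≫ cπ hne.some) ≫ j hne.some
        rw [Category.assoc, hcπ] }
  refine ⟨I, inferInstance, hdir, hne, D, t, c, hlim, Iso.refl _, fun i => (Z i.unop).property, fun a b φ => ?_,
    fun i => ⟨hj i.unop, ?_⟩, fun i => ?_⟩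
  · refine repWith_closed_of_comp (hj b.unop) ?_
    change RepWith @IsClosedImmersion (tr _ ≫ j b.unop)
    rw [htr']
    exact hj a.unop
  · haveI := lfp_idealι u i.unop.2.1
    exact AlgSpPts.descend_chart isLocalOnBase_fpqc_isFinitePresentationMor (Z i.unop).property hY u.et hu
      (sq i.unop) (isFinitePresentationMor_yon _)
  · change 𝟙 X ≫ cπ i.unop ≫ j i.unop = f
    rw [hcπ, Category.id_comp]

end Groth.Agent.AlgSpQMod
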