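import Mathlib.AlgebraicGeometry.Sites.Fpqc
import Mathlib.AlgebraicGeometry.Limits
import Mathlib.AlgebraicGeometry.GammaSpecAdjunction

/-!
# Gluing and descending functions
-/

set_option autoImplicit false
set_option backward.isDefEq.respectTransparency false
set_option backward.isDefEq.respectTransparency.types false
set_option maxHeartbeats 400000

universe u

open CategoryTheory CategoryTheory.Limits AlgebraicGeometry Polynomial

namespace Groth.Agent.AlgSpQMod

variable {X X' A B : Scheme.{u}}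

/-- The affine line. -/
noncomputable abbrev funLine : CommRingCat.{u} := CommRingCat.of (Polynomial (ULift.{u} ℤ))

/-- The morphism to the affine line of a function. -/
noncomputable def funMor (x : Γ(X, ⊤)) : X ⟶ Spec funLine.{u} :=
  X.toSpecΓ ≫ Spec.map (CommRingCat.ofHom (eval₂RingHom ((Int.castRingHom _).comp ULift.ringEquiv.toRingHom) x))

theorem funMor_appTop (x : Γ(X, ⊤)) :
    (funMor x).appTop.hom ((Scheme.ΓSpecIso funLine.{u}).inv.hom Polynomial.X) = x := by
  rw [funMor, Scheme.Hom.comp_appTop, CommRingCat.comp_apply]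
  rw [← CommRingCat.comp_apply (Scheme.ΓSpecIso funLine.{u}).inv, ← Scheme.ΓSpecIso_inv_naturality,
    CommRingCat.comp_apply, ← CommRingCat.comp_apply, Scheme.toSpecΓ_appTop]
  simp

/-- The function of a morphism to the affine line. -/
noncomputable def funOf (g : X ⟶ Spec funLine.{u}) : Γ(X, ⊤) :=
  g.appTop.hom ((Scheme.ΓSpecIso funLine.{u}).inv.hom Polynomial.X)

theorem funOf_funMor (x : Γ(X, ⊤)) : funOf (funMor x) = x := funMor_appTop x

theorem funOf_comp (q : X' ⟶ X) (g : X ⟶ Spec funLine.{u}) : funOf (q ≫ g) = q.appTop.hom (funOf g) := by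
  simp [funOf]

theorem ext_funOf {g g' : X ⟶ Spec funLine.{u}} (h : funOf g = funOf g') : g = g' := by
  refine ext_of_isAffine ?_
  have key : (Scheme.ΓSpecIso funLine.{u}).inv ≫ g.appTop = (Scheme.ΓSpecIso funLine.{u}).inv ≫ g'.appTop := by
    refine CommRingCat.hom_ext (Polynomial.ringHom_ext (fun a => ?_) h)
    obtain ⟨n⟩ := a
    have e : C (ULift.up.{u} n) = ((n : ℤ) : Polynomial (ULift.{u} ℤ)) := by
      exact (congrArg (C : ULift.{u} ℤ →+* _) (show ULift.up.{u} n = ((n : ℤ) : ULift.{u} ℤ) from rfl)).trans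
        (map_intCast (C : ULift.{u} ℤ →+* Polynomial (ULift.{u} ℤ)) n)
    rw [e, map_intCast, map_intCast]
  exact (Iso.cancel_iso_inv_left _ _ _).1 key

theorem funMor_comp (q : X' ⟶ X) (x : Γ(X, ⊤)) : q ≫ funMor x = funMor (q.appTop.hom x) :=
  ext_funOf (by rw [funOf_comp, funOf_funMor, funOf_funMor])

/-- Functions descend along faithfully flat quasi-compact morphisms. -/
theorem exists_fun_desc (q : X' ⟶ X) [QuasiCompact q] [Surjective q] [Flat q] (x : Γ(X', ⊤))
    (h : (pullback.fst q q).appTop.hom x = (pullback.snd q q).appTop.hom x) : ∃ y, q.appTop.hom y = x := by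
  have hw : ∀ {W : Scheme.{u}} (a b : W ⟶ X'), a ≫ q = b ≫ q → a ≫ funMor x = b ≫ funMor x := fun a b hab => by
    rw [← pullback.lift_fst a b hab, Category.assoc, funMor_comp, h, ← funMor_comp, ← Category.assoc,
      pullback.lift_snd]
  exact ⟨funOf (EffectiveEpi.desc q (funMor x) hw), by rw [← funOf_comp, EffectiveEpi.fac, funOf_funMor]⟩

theorem fun_ext_of_cover (q : X' ⟶ X) [QuasiCompact q] [Surjective q] [Flat q] {x y : Γ(X, ⊤)}
    (h : q.appTop.hom x = q.appTop.hom y) : x = y := by
  have : funMor x = funMor y := (cancel_epi q).1 (by rw [funMor_comp, funMor_comp, h])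
  rw [← funOf_funMor x, this, funOf_funMor]

/-- Functions on two complementary open pieces glue. -/
theorem exists_fun_of_isCompl (ja : A ⟶ X) (jb : B ⟶ X) [IsOpenImmersion ja] [IsOpenImmersion jb]
    (hc : IsCompl ja.opensRange jb.opensRange) (a : Γ(A, ⊤)) (b : Γ(B, ⊤)) :
    ∃ x, ja.appTop.hom x = a ∧ jb.appTop.hom x = b := by
  obtain ⟨H⟩ := nonempty_isColimit_binaryCofanMk_of_isCompl ja jb hc
  refine ⟨funOf (H.desc (BinaryCofan.mk (funMor a) (funMor b))), ?_, ?_⟩
  · rw [← funOf_comp, show ja ≫ H.desc (BinaryCofan.mk (funMor a) (funMor b)) = funMor a from H.fac _ ⟨.left⟩,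
      funOf_funMor]
  · rw [← funOf_comp, show jb ≫ H.desc (BinaryCofan.mk (funMor a) (funMor b)) = funMor b from H.fac _ ⟨.right⟩,
      funOf_funMor]

theorem fun_ext_of_isCompl (ja : A ⟶ X) (jb : B ⟶ X) [IsOpenImmersion ja] [IsOpenImmersion jb]
    (hc : IsCompl ja.opensRange jb.opensRange) {x y : Γ(X, ⊤)} (ha : ja.appTop.hom x = ja.appTop.hom y)
    (hb : jb.appTop.hom x = jb.appTop.hom y) : x = y := by
  obtain ⟨H⟩ := nonempty_isColimit_binaryCofanMk_of_isCompl ja jb hc
  have : funMor x = funMor y := BinaryCofan.IsColimit.hom_ext H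
    (by change ja ≫ _ = ja ≫ _; rw [funMor_comp, funMor_comp, ha])
    (by change jb ≫ _ = jb ≫ _; rw [funMor_comp, funMor_comp, hb])
  rw [← funOf_funMor x, this, funOf_funMor]

end Groth.Agent.AlgSpQMod
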