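import Groth.Agent.AlgSpQMod.Local
import Groth.Agent.AlgSpQMod.Funs

/-!
# Finitely presented thickenings of closed subschemes of affine schemes
-/

set_option autoImplicit false
set_option backward.isDefEq.respectTransparency false
set_option backward.isDefEq.respectTransparency.types false
set_option maxHeartbeats 400000

universe u

open CategoryTheory CategoryTheory.Limits AlgebraicGeometry AlgSp Groth.Agent.AlgSpLib TopologicalSpace

namespace Groth.Agent.AlgSpQMod

theorem isIso_of_bijective_appTop {X Y : Scheme.{u}} [IsAffine X] [IsAffine Y] (f : X ⟶ Y)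
    (h : Function.Bijective f.appTop.hom) : IsIso f := by
  haveI : IsIso f.appTop := (ConcreteCategory.isIso_iff_bijective _).2 h
  have e : f = X.isoSpec.hom ≫ Spec.map f.appTop ≫ Y.isoSpec.inv := by
    rw [Scheme.isoSpec_hom_naturality_assoc, Iso.hom_inv_id, Category.comp_id]
  rw [e]
  infer_instance

variable {S : Scheme.{u}} (A : Over S) [IsAffine A.left]

/-- An affine scheme as a chart of itself. -/
noncomputable def topChart : Chart ((yon S).obj A) :=
  ⟨A, ‹_›, (yon S).map (𝟙 A), (repWith_yon_map_iff _ _).2 (inferInstanceAs (Etale (𝟙 A.left)))⟩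

variable {A}

/-- The structure morphism of a chart. -/
noncomputable def toTop (D : Chart ((yon S).obj A)) : Chart.Hom D (topChart A) :=
  ⟨((yon S).preimage D.c : D.W ⟶ A), by
    change (yon S).map ((yon S).preimage D.c) ≫ (yon S).map (𝟙 A) = D.c
    simp⟩

theorem eq_toTop {D : Chart ((yon S).obj A)} (h : Chart.Hom D (topChart A)) : h = toTop D := by
  refine Chart.Hom.ext' ((yon S).map_injective ?_)
  have h1 := h.w
  have h2 := (toTop D).w
  change _ ≫ (yon S).map (𝟙 A) = _ at h1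
  change _ ≫ (yon S).map (𝟙 A) = _ at h2
  rw [CategoryTheory.Functor.map_id, Category.comp_id] at h1 h2
  exact h1.trans h2.symm

theorem map_toTop (D : Chart ((yon S).obj A)) : (yon S).map (toTop D).k = D.c := by
  have h2 := (toTop D).w
  change _ ≫ (yon S).map (𝟙 A) = _ at h2
  simpa using h2

/-- The chart given by an etale map of an affine scheme. -/
noncomputable def mkChart {B : Over S} [IsAffine B.left] (e : B ⟶ A) [Etale e.left] :
    Chart ((yon S).obj A) :=
  ⟨B, ‹_›, (yon S).map e, (repWith_yon_map_iff _ _).2 inferInstance⟩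

theorem toTop_mkChart {B : Over S} [IsAffine B.left] (e : B ⟶ A) [Etale e.left] : (toTop (mkChart e)).k = e :=
  (yon S).map_injective (map_toTop (mkChart e))

variable {P : Over S} (i : P ⟶ A) [IsClosedImmersion i.left]

theorem repWith_closed : RepWith (@QuasiCompact ⊓ @QuasiSeparated) ((yon S).map i) :=
  repWith_mono (fun _ _ e (_ : IsClosedImmersion e) => ⟨inferInstance, inferInstance⟩) _
    ((repWith_yon_map_iff @IsClosedImmersion i).2 inferInstance)

/-- The pullback to a chart. -/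
noncomputable abbrev preC (D : Chart ((yon S).obj A)) : Over S := pre _ (repWith_closed i) D

/-- Its projection. -/
noncomputable abbrev preCπ (D : Chart ((yon S).obj A)) : preC i D ⟶ D.W := preπ _ (repWith_closed i) D

/-- The kernel on a chart. -/
noncomputable abbrev kerC (D : Chart ((yon S).obj A)) : Ideal D.R := RingHom.ker (preCπ i D).left.appTop.hom

theorem isPullback_preC (D : Chart ((yon S).obj A)) :
    IsPullback ((repWith_closed i).rep.fst' D.c) (preCπ i D) i (toTop D).k := by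
  refine IsPullback.of_map (yon S) ((yon S).map_injective ?_) ?_
  · rw [Functor.map_comp, Functor.map_comp, map_toTop]
    exact ((repWith_closed i).rep.isPullback' D.c).w
  · rw [map_toTop]
    exact (repWith_closed i).rep.isPullback' D.c

instance (D : Chart ((yon S).obj A)) : IsClosedImmersion (preCπ i D).left :=
  MorphismProperty.of_isPullback (P := @IsClosedImmersion) ((isPullback_preC i D).map (Over.forget S)) ‹_›

theorem appTop_eq_zero_of_mem_ker {j : (topChart A).R} (hj : j ∈ kerC i (topChart A)) :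
    i.left.appTop.hom j = 0 := by
  have e : (toTop (topChart A)).k = 𝟙 A := (yon S).map_injective (map_toTop (topChart A))
  obtain ⟨l, -, hl⟩ := (isPullback_preC i (topChart A)).exists_lift (𝟙 P) i (by rw [e]; exact (Category.id_comp _).trans (Category.comp_id _).symm)
  rw [← hl]
  change l.left.appTop.hom ((preCπ i (topChart A)).left.appTop.hom j) = 0
  rw [RingHom.mem_ker.1 hj, map_zero]

theorem map_mem_ker {D E : Chart ((yon S).obj A)} (j : Chart.Hom E D) {x : D.R} (hx : x ∈ kerC i D) :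
    j.φ x ∈ kerC i E :=
  (resMap _ (repWith_closed i)).map_mem j hx

/-- The kernel on the chart is generated by the ideal. -/
def Good (K : Ideal (topChart A).R) (D : Chart ((yon S).obj A)) : Prop :=
  ∀ x ∈ kerC i D, x ∈ (unitMod ((yon S).obj A)).Span (toTop D) K

theorem good_of_local {K : Ideal (topChart A).R} {D : Chart ((yon S).obj A)}
    (h : ∀ w : D.W.left, ∃ (D' : Chart ((yon S).obj A)) (j : Chart.Hom D' D), w ∈ Set.range j.k.left ∧ Good i K D') :
    Good i K D := fun x hx => by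
  refine (unitMod _).mem_of_local fun w => ?_
  obtain ⟨D', j, hw, hg⟩ := h w
  refine ⟨D', j, hw, ?_⟩
  rw [← QMod.span_comp, eq_toTop (j.comp (toTop D))]
  exact hg _ (map_mem_ker i j hx)

theorem good_comp {K : Ideal (topChart A).R} {D E : Chart ((yon S).obj A)} (j : Chart.Hom E D) (h : Good i K D) :
    Good i K E := by
  intro x hx
  let T := (resMap _ (repWith_closed i)).ker
  have hmem := (T.span_top j).ge (Submodule.mem_top (x := (⟨x, hx⟩ : T.M E)))
  have := Submodule.mem_map_of_mem (f := (LinearMap.ker ((resMap _ (repWith_closed i)).app E)).subtype) hmem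
  rw [(resMap _ (repWith_closed i)).map_span] at this
  rw [← eq_toTop (j.comp (toTop D)), QMod.span_comp]
  refine (unitMod _).span_mono (fun y hy => ?_) this
  obtain ⟨z, -, rfl⟩ := hy
  exact h _ z.2

theorem span_le_ker_of_ι {K : Ideal (topChart A).R} {D : Chart ((yon S).obj A)} {x : D.R}
    (hx : x ∈ (unitMod ((yon S).obj A)).Span (toTop D) K) :
    x ∈ kerC (idealι (topChart A) K) D := by
  refine Submodule.span_le.2 ?_ hx
  rintro _ ⟨k, hk, rfl⟩
  refine RingHom.mem_ker.2 ?_
  refine (congrArg (fun m : preC (idealι (topChart A) K) D ⟶ A => m.left.appTop.hom k)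
    (isPullback_preC (idealι (topChart A) K) D).w).symm.trans ?_
  change ((repWith_closed (idealι (topChart A) K)).rep.fst' D.c).left.appTop.hom
    ((idealι (topChart A) K).left.appTop.hom k) = 0
  rw [appTop_idealι_eq_zero _ hk, map_zero]

variable {K : Ideal (topChart A).R} {κ : P ⟶ idealSpec (topChart A) K} (hκ : κ ≫ idealι (topChart A) K = i)

include hκ in
/-- The thickening is trivial on a good etale neighbourhood. -/
theorem isIso_bc {T ZT PT : Over S} (e : T ⟶ A) [Etale e.left] {xZ : ZT ⟶ idealSpec (topChart A) K} {ρZ : ZT ⟶ T}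
    (sZ : IsPullback xZ ρZ (idealι (topChart A) K) e) {xP : PT ⟶ P} {ρP : PT ⟶ T} (sP : IsPullback xP ρP i e)
    {kT : PT ⟶ ZT} (hx : kT ≫ xZ = xP ≫ κ) (hρ : kT ≫ ρZ = ρP)
    (hloc : ∀ (D : Chart ((yon S).obj A)) (g : D.W ⟶ T), g ≫ e = (toTop D).k → ∀ w : D.W.left,
      ∃ (D' : Chart ((yon S).obj A)) (j : Chart.Hom D' D), w ∈ Set.range j.k.left ∧ Good i K D') :
    IsIso kT.left := by
  have sqκ : IsPullback xP kT κ xZ := IsPullback.of_bot (by rw [hρ, hκ]; exact sP) hx.symm sZ
  let ι' := idealι (topChart A) K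
  have hcov : TopologicalSpace.IsOpenCover fun B : T.left.affineOpens => ρZ.left ⁻¹ᵁ B.1 :=
    (ρZ.left.preimage_iSup _).symm.trans (by rw [iSup_affineOpens_eq_top]; rfl)
  refine (IsZariskiLocalAtTarget.iff_of_openCover (P := MorphismProperty.isomorphisms Scheme.{u})
    (ZT.left.openCoverOfIsOpenCover _ hcov)).2 fun B => ?_
  have : IsAffine (opn T B.1).left := B.2
  have : Etale (opnι T B.1 ≫ e).left := inferInstanceAs (Etale (B.1.ι ≫ e.left))
  let D := mkChart (opnι T B.1 ≫ e)
  have hD : Good i K D := good_of_local i (hloc D (opnι T B.1) (toTop_mkChart _).symm)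
  have hw : κ ≫ idealι (topChart A) K = i := hκ
  let kD : preC i D ⟶ preC ι' D := preFun (repWith_closed ι') (repWith_closed i) ((yon S).map κ)
    (by rw [← Functor.map_comp, hκ]) D
  have hkD : kD ≫ preCπ ι' D = preCπ i D := preFun_snd _ _ _ _ D
  haveI : IsAffine (preC i D).left := isAffine_of_isAffineHom (preCπ i D).left
  haveI : IsAffine (preC ι' D).left := isAffine_of_isAffineHom (preCπ ι' D).left
  have happ : ∀ z, kD.left.appTop.hom ((preCπ ι' D).left.appTop.hom z) = (preCπ i D).left.appTop.hom z := fun z =>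
    congrArg (fun m : preC i D ⟶ D.W => m.left.appTop.hom z) hkD
  have hbij : Function.Bijective kD.left.appTop.hom := by
    refine ⟨(injective_iff_map_eq_zero _).2 fun y hy => ?_, fun y => ?_⟩
    · obtain ⟨z, rfl⟩ := (IsClosedImmersion.isAffine_surjective_of_isAffine (preCπ ι' D).left).2 y
      rw [happ] at hy
      exact RingHom.mem_ker.1 (span_le_ker_of_ι (hD z hy))
    · obtain ⟨z, rfl⟩ := (IsClosedImmersion.isAffine_surjective_of_isAffine (preCπ i D).left).2 y
      exact ⟨_, happ z⟩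
  haveI : IsIso kD.left := isIso_of_bijective_appTop kD.left hbij
  let O := ρZ.left ⁻¹ᵁ B.1
  let r : opn ZT O ⟶ opn T B.1 := CategoryTheory.Over.homMk (ρZ.left ∣_ B.1) (by
    change _ ≫ B.1.ι ≫ T.hom = _ ≫ ZT.hom
    rw [morphismRestrict_ι_assoc, Over.w ρZ])
  have hr : r ≫ opnι T B.1 = opnι ZT O ≫ ρZ := Over.OverMorphism.ext (morphismRestrict_ι _ _)
  obtain ⟨φ, hφ, -⟩ := (isPullback_preC ι' D).exists_lift (opnι ZT O ≫ xZ) r (by
    rw [toTop_mkChart, reassoc_of% hr, Category.assoc, sZ.w])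
  have sqD : IsPullback ((repWith_closed i).rep.fst' D.c) kD κ ((repWith_closed ι').rep.fst' D.c) := by
    refine IsPullback.of_bot ?_ ?_ (isPullback_preC ι' D)
    · rw [hkD, hw]; exact isPullback_preC i D
    · refine (yon S).map_injective ?_
      rw [Functor.map_comp, Functor.map_comp]
      simp only [Functor.relativelyRepresentable.map_fst']
      exact (preFun_fst _ _ _ _ D).symm
  have sqO : IsPullback (pullback.fst kT (opnι ZT O) ≫ xP) (pullback.snd kT (opnι ZT O)) κ (opnι ZT O ≫ xZ) :=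
    (IsPullback.of_hasPullback _ _).paste_horiz sqκ
  obtain ⟨m, hm1, hm2⟩ := sqD.exists_lift (pullback.fst kT (opnι ZT O) ≫ xP) (pullback.snd kT (opnι ZT O) ≫ φ)
    (by rw [Category.assoc, Category.assoc, hφ]; simpa using sqO.w)
  have sqm : IsPullback m (pullback.snd kT (opnι ZT O)) kD φ :=
    IsPullback.of_right (by rw [hm1, hφ]; exact sqO) hm2 sqD
  have h1 : IsIso (pullback.snd kT (opnι ZT O)).left :=
    MorphismProperty.of_isPullback (P := MorphismProperty.isomorphisms Scheme.{u}) (sqm.map (Over.forget S))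
      (show IsIso kD.left from ‹_›)
  have sq0 : IsPullback (pullback.fst kT (opnι ZT O)).left (pullback.snd kT (opnι ZT O)).left kT.left O.ι :=
    (IsPullback.of_hasPullback kT (opnι ZT O)).map (Over.forget S)
  show IsIso (pullback.snd kT.left O.ι)
  rw [← sq0.isoPullback_inv_snd]
  infer_instance

/-- A function on the closed subscheme over a qcqs etale neighbourhood extends to a small enough thickening. -/
theorem exists_lift_fun {T PT : Over S} [CompactSpace T.left] [QuasiSeparatedSpace T.left] (e : T ⟶ A)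
    [Etale e.left] {xP : PT ⟶ P} {ρP : PT ⟶ T} (sP : IsPullback xP ρP i e) (x : Γ(PT.left, ⊤)) :
    ∃ J : Finset (topChart A).R, (∀ j ∈ J, j ∈ kerC i (topChart A)) ∧
      ∀ (K : Ideal (topChart A).R), (J : Set (topChart A).R) ⊆ K →
      ∀ {ZT : Over S} (xZ : ZT ⟶ idealSpec (topChart A) K) (ρZ : ZT ⟶ T),
        IsPullback xZ ρZ (idealι (topChart A) K) e → ∀ kT : PT ⟶ ZT, kT ≫ ρZ = ρP →
          x ∈ Set.range kT.left.appTop.hom := by
  classical
  obtain ⟨s, hs, hsU⟩ := (isCompact_iff_finite_and_eq_biUnion_affineOpens (U := (⊤ : T.left.Opens))).1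
    (by simpa using isCompact_univ)
  haveI := hs.fintype
  have haff : ∀ B : T.left.affineOpens, IsAffine (opn T B.1).left := fun B => B.2
  have het : ∀ B : T.left.affineOpens, Etale (opnι T B.1 ≫ e).left := fun B =>
    inferInstanceAs (Etale (B.1.ι ≫ e.left))
  let D : T.left.affineOpens → Chart ((yon S).obj A) := fun B =>
    haveI := haff B; haveI := het B; mkChart (opnι T B.1 ≫ e)
  have hD : ∀ B, (toTop (D B)).k = opnι T B.1 ≫ e := fun B => by
    haveI := haff B; haveI := het B; exact toTop_mkChart _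
  have hφP : ∀ B, ∃ φ : preC i (D B) ⟶ PT, φ ≫ xP = (repWith_closed i).rep.fst' (D B).c ∧
      φ ≫ ρP = preCπ i (D B) ≫ opnι T B.1 := fun B =>
    sP.exists_lift _ _ (by
      rw [(isPullback_preC i (D B)).w, hD, Category.assoc]
      )
  choose φP hφP1 hφP2 using hφP
  choose y hy using fun B : T.left.affineOpens =>
    (IsClosedImmersion.isAffine_surjective_of_isAffine (preCπ i (D B)).left).2 ((φP B).left.appTop.hom x)
  -- overlaps
  have hov : ∀ p : s × s, ∃ E : Set T.left.affineOpens, E.Finite ∧ p.1.1.1 ⊓ p.2.1.1 = ⨆ B ∈ E, (B : T.left.Opens) := by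
    intro p
    refine (isCompact_iff_finite_and_eq_biUnion_affineOpens).1 ?_
    exact p.1.1.2.isCompact.inter_of_isOpen p.2.1.2.isCompact p.1.1.1.2 p.2.1.1.2
  choose E hEfin hE using hov
  have hle : ∀ (p : s × s) (B : E p), B.1.1 ≤ p.1.1.1 ∧ B.1.1 ≤ p.2.1.1 := fun p B => by
    have : (B.1 : T.left.Opens) ≤ p.1.1.1 ⊓ p.2.1.1 := by
      rw [hE p]; exact le_iSup₂_of_le B.1 B.2 le_rfl
    exact ⟨this.trans inf_le_left, this.trans inf_le_right⟩
  have hom : ∀ {B B' : T.left.affineOpens}, B.1 ≤ B'.1 → ∃ h : Chart.Hom (D B) (D B'),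
      h.k ≫ opnι T B'.1 = opnι T B.1 := fun {B B'} h => by
    let k : opn T B.1 ⟶ opn T B'.1 := CategoryTheory.Over.homMk (T.left.homOfLE h) (by
      change _ ≫ B'.1.ι ≫ T.hom = B.1.ι ≫ T.hom
      rw [Scheme.homOfLE_ι_assoc])
    refine ⟨⟨k, ?_⟩, Over.OverMorphism.ext (T.left.homOfLE_ι h)⟩
    change (yon S).map k ≫ (yon S).map (opnι T B'.1 ≫ e) = (yon S).map (opnι T B.1 ≫ e)
    rw [← Functor.map_comp, ← Category.assoc]
    congr 2
    exact Over.OverMorphism.ext (T.left.homOfLE_ι h)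
  choose h hh using @hom
  let d : ∀ (p : s × s) (B : E p), (D B.1).R := fun p B =>
    (h (hle p B).1).φ (y p.1.1) - (h (hle p B).2).φ (y p.2.1)
  have hd : ∀ p B, d p B ∈ kerC i (D B.1) := fun p B => by
    refine RingHom.mem_ker.2 ?_
    have key : ∀ (B' : T.left.affineOpens) (hB : B.1.1 ≤ B'.1),
        (preCπ i (D B.1)).left.appTop.hom ((h hB).φ (y B')) = (φP B.1).left.appTop.hom x := fun B' hB => by
      refine ((resMap _ (repWith_closed i)).nat (h hB) (y B')).symm.trans ?_
      change (preMap _ (repWith_closed i) (h hB)).left.appTop.hom ((preCπ i (D B')).left.appTop.hom (y B')) = _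
      rw [hy]
      have e' : preMap _ (repWith_closed i) (h hB) ≫ φP B' = φP B.1 := sP.hom_ext
        (by
          rw [Category.assoc, hφP1, hφP1]
          refine (yon S).map_injective ?_
          rw [Functor.map_comp]
          simp only [Functor.relativelyRepresentable.map_fst']
          exact preMap_fst _ (repWith_closed i) (h hB))
        (by rw [Category.assoc, hφP2, hφP2, ← Category.assoc, preMap_snd, Category.assoc, hh])
      exact congrArg (fun m : preC i (D B.1) ⟶ PT => m.left.appTop.hom x) e'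
    rw [map_sub, key _ (hle p B).1, key _ (hle p B).2, sub_self]
  choose J hJ using fun (p : s × s) (B : E p) =>
    (resMap _ (repWith_closed i)).ker.exists_finset_span (toTop (D B.1)) ⟨d p B, hd p B⟩
  haveI : ∀ p, Fintype (E p) := fun p => (hEfin p).fintype
  let J₀ : Finset (topChart A).R := Finset.univ.biUnion fun p : s × s => Finset.univ.biUnion fun B : E p =>
    (J p B).image (fun z : LinearMap.ker ((resMap _ (repWith_closed i)).app (topChart A)) =>
      (z.1 : (topChart A).R))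
  refine ⟨J₀, fun j hj => ?_, fun K hK {ZT} xZ ρZ sZ kT hkT => ?_⟩
  · simp only [J₀, Finset.mem_biUnion, Finset.mem_image] at hj
    obtain ⟨p, -, B, -, z, -, rfl⟩ := hj
    exact z.2
  have hdK : ∀ p B, d p B ∈ (unitMod ((yon S).obj A)).Span (toTop (D B.1)) K := fun p B => by
    have := Submodule.mem_map_of_mem
      (f := (LinearMap.ker ((resMap _ (repWith_closed i)).app (D B.1))).subtype) (hJ p B)
    rw [(resMap _ (repWith_closed i)).map_span] at this
    refine (unitMod _).span_mono ?_ this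
    rw [Submodule.map_span, Submodule.span_le]
    rintro _ ⟨z, hz, rfl⟩
    exact hK (Finset.mem_biUnion.2 ⟨p, Finset.mem_univ _, Finset.mem_biUnion.2 ⟨B, Finset.mem_univ _,
      Finset.mem_image.2 ⟨z, hz, rfl⟩⟩⟩)
  let O : s → ZT.left.Opens := fun B => ρZ.left ⁻¹ᵁ B.1.1
  have hO : TopologicalSpace.IsOpenCover O := by
    refine (ρZ.left.preimage_iSup _).symm.trans ?_
    rw [iSup_subtype, ← hsU]; rfl
  let 𝒰 := ZT.left.openCoverOfIsOpenCover _ hO
  let g : ∀ B : s, (O B).toScheme ⟶ Spec funLine.{u} := fun B => (ρZ.left ∣_ B.1.1) ≫ funMor (y B.1)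
  have hag : ∀ B B', pullback.fst (𝒰.f B) (𝒰.f B') ≫ g B = pullback.snd (𝒰.f B) (𝒰.f B') ≫ g B' := by
    intro B B'
    refine Scheme.hom_ext_of_forall _ _ fun z => ?_
    let κz := pullback.fst (𝒰.f B) (𝒰.f B') ≫ 𝒰.f B
    have hz : ρZ.left (κz z) ∈ B.1.1 ⊓ B'.1.1 := by
      refine ⟨(pullback.fst (𝒰.f B) (𝒰.f B') z).2, ?_⟩
      have h2 : κz = pullback.snd (𝒰.f B) (𝒰.f B') ≫ 𝒰.f B' := pullback.condition
      rw [h2]
      exact (pullback.snd (𝒰.f B) (𝒰.f B') z).2
    rw [hE (B, B')] at hz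
    simp only [Opens.mem_iSup] at hz
    obtain ⟨C, hC, hzC⟩ := hz
    refine ⟨(κz ≫ ρZ.left) ⁻¹ᵁ C.1, hzC, ?_⟩
    let Q := ((κz ≫ ρZ.left) ⁻¹ᵁ C.1)
    let W : Over S := Over.mk ((Q.ι ≫ κz) ≫ ZT.hom)
    let w : W ⟶ ZT := CategoryTheory.Over.homMk (Q.ι ≫ κz) rfl
    let r : W ⟶ opn T C.1 := CategoryTheory.Over.homMk ((κz ≫ ρZ.left) ∣_ C.1) (by
      change _ ≫ C.1.ι ≫ T.hom = (Q.ι ≫ κz) ≫ ZT.hom
      rw [morphismRestrict_ι_assoc]
      simp [Q, Over.w ρZ])
    have hr : r ≫ opnι T C.1 = w ≫ ρZ := Over.OverMorphism.ext (by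
      change ((κz ≫ ρZ.left) ∣_ C.1) ≫ C.1.ι = (Q.ι ≫ κz) ≫ ρZ.left
      exact (morphismRestrict_ι _ _).trans (Category.assoc _ _ _).symm)
    have hkill : ∀ d' ∈ (unitMod ((yon S).obj A)).Span (toTop (D C)) K, r.left.appTop.hom d' = 0 := by
      intro d' hd'
      refine (Submodule.span_le (p := RingHom.ker r.left.appTop.hom)).2 ?_ hd'
      rintro _ ⟨k, hk, rfl⟩
      refine RingHom.mem_ker.2 ?_
      change r.left.appTop.hom ((toTop (D C)).k.left.appTop.hom k) = 0
      have e2 : r ≫ (toTop (D C)).k = (w ≫ xZ) ≫ idealι (topChart A) K := by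
        rw [Category.assoc, sZ.w, hD, reassoc_of% hr]
      refine (congrArg (fun m : W ⟶ A => m.left.appTop.hom k) e2).trans ?_
      change (w ≫ xZ).left.appTop.hom ((idealι (topChart A) K).left.appTop.hom k) = 0
      rw [appTop_idealι_eq_zero _ hk, map_zero]
    have key : ∀ (B₁ : T.left.affineOpens) (hB : C.1 ≤ B₁.1)
        (q : Q.toScheme ⟶ (ρZ.left ⁻¹ᵁ B₁.1).toScheme), q ≫ (ρZ.left ⁻¹ᵁ B₁.1).ι = Q.ι ≫ κz →
        q ≫ (ρZ.left ∣_ B₁.1) ≫ funMor (y B₁) = r.left ≫ funMor ((h hB).φ (y B₁)) := by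
      intro B₁ hB q hq
      have h3 : q ≫ (ρZ.left ∣_ B₁.1) = r.left ≫ (h hB).k.left := by
        rw [← cancel_mono B₁.1.ι, Category.assoc, Category.assoc, morphismRestrict_ι, ← Category.assoc, hq]
        refine Eq.trans ?_ (congrArg (r.left ≫ ·) (congrArg Over.Hom.left (hh hB))).symm
        exact (congrArg Over.Hom.left hr).symm
      rw [reassoc_of% h3, funMor_comp (h hB).k.left]
    rw [key B.1 (hle (B, B') ⟨C, hC⟩).1 (Q.ι ≫ pullback.fst (𝒰.f B) (𝒰.f B')) (Category.assoc _ _ _) |>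
      fun t => (Category.assoc _ _ _).symm.trans t,
      key B'.1 (hle (B, B') ⟨C, hC⟩).2 (Q.ι ≫ pullback.snd (𝒰.f B) (𝒰.f B')) (by
        rw [Category.assoc]; exact congrArg (Q.ι ≫ ·) pullback.condition.symm) |>
      fun t => (Category.assoc _ _ _).symm.trans t]
    rw [funMor_comp, funMor_comp]
    congr 1
    rw [← sub_eq_zero, ← map_sub]
    exact hkill _ (hdK (B, B') ⟨C, hC⟩)
  let G := 𝒰.glueMorphisms g hag
  refine ⟨funOf G, ?_⟩
  rw [← funOf_comp, ← funOf_funMor x]
  congr 1
  refine Scheme.hom_ext_of_forall _ _ fun z => ?_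
  have hz : ρP.left z ∈ (⨆ B ∈ s, (B : T.left.Opens)) := hsU ▸ trivial
  simp only [Opens.mem_iSup] at hz
  obtain ⟨B, hB, hzB⟩ := hz
  let Op := ρP.left ⁻¹ᵁ B.1
  refine ⟨Op, hzB, ?_⟩
  let rP : opn PT Op ⟶ opn T B.1 := CategoryTheory.Over.homMk (ρP.left ∣_ B.1) (by
    change _ ≫ B.1.ι ≫ T.hom = _ ≫ PT.hom
    rw [morphismRestrict_ι_assoc, Over.w ρP])
  have hrP : rP ≫ opnι T B.1 = opnι PT Op ≫ ρP := Over.OverMorphism.ext (morphismRestrict_ι _ _)
  obtain ⟨φ, hφ1, hφ2⟩ := (isPullback_preC i (D B)).exists_lift (opnι PT Op ≫ xP) rP (by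
    rw [hD, reassoc_of% hrP, Category.assoc, sP.w])
  have e1 : φ ≫ φP B = opnι PT Op := sP.hom_ext (by rw [Category.assoc, hφP1, hφ1])
    (by rw [Category.assoc, hφP2, reassoc_of% hφ2, hrP])
  have e2 : Op.ι ≫ funMor x = (ρP.left ∣_ B.1) ≫ funMor (y B) := by
    rw [funMor_comp, funMor_comp]
    congr 1
    refine (congrArg (fun m : opn PT Op ⟶ PT => m.left.appTop.hom x) e1).symm.trans ?_
    change φ.left.appTop.hom ((φP B).left.appTop.hom x) = _
    rw [← hy]
    exact congrArg (fun m : opn PT Op ⟶ (D B).W => m.left.appTop.hom (y B)) hφ2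
  rw [e2]
  have hk' : kT.left ≫ ρZ.left = ρP.left := congrArg Over.Hom.left hkT
  have hle' : Op ≤ kT.left ⁻¹ᵁ O ⟨B, hB⟩ := fun p hp => by
    change ρZ.left (kT.left p) ∈ B.1
    rw [← Scheme.Hom.comp_apply, hk']
    exact hp
  have e3 : Op.ι ≫ kT.left = kT.left.resLE (O ⟨B, hB⟩) Op hle' ≫ 𝒰.f ⟨B, hB⟩ :=
    (Scheme.Hom.resLE_comp_ι _ _).symm
  rw [← Category.assoc, e3, Category.assoc, 𝒰.ι_glueMorphisms]
  change _ ≫ (ρZ.left ∣_ B.1) ≫ funMor (y B) = _
  rw [← Category.assoc]
  congr 1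
  rw [← cancel_mono B.1.ι, Category.assoc, morphismRestrict_ι, morphismRestrict_ι]
  refine (Scheme.Hom.resLE_comp_ι_assoc kT.left hle' ρZ.left).trans ?_
  rw [hk']

end Groth.Agent.AlgSpQMod
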