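import Groth.Agent.AlgSpQMod.Basic
import Groth.Agent.AlgSpPts.OpenSub
import Groth.Agent.AlgSpPts.Misc
import Groth.Agent.AlgSpLib.Points
import Groth.Agent.AlgSpDec.LqfScheme

/-!
# Compatible families of finitely generated submodules
-/

set_option autoImplicit false
set_option backward.isDefEq.respectTransparency false
set_option backward.isDefEq.respectTransparency.types false

universe u v

open CategoryTheory CategoryTheory.Limits AlgebraicGeometry AlgSp Groth.Agent.AlgSpLib TopologicalSpace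

namespace Groth.Agent.AlgSpQMod

variable {S : Scheme.{u}} {Y : Sp S}

/-- A finite family of charts with lifts covering the fibre product of two charts. -/
theorem exists_pieces [QuasiSeparatedSpace ↥S] (hY : IsAlgSpace Y) (hqs : IsQuasiSeparatedSp Y) (v c : Chart Y) :
    ∃ (m : ℕ) (e : Fin m → Chart Y) (a : ∀ p, Chart.Hom (e p) v) (b : ∀ p, Chart.Hom (e p) c),
      ∀ (D : Chart Y) (t : Chart.Hom D c) (k : Chart.Hom D v) (w : D.W.left),
        ∃ (D' : Chart Y) (j : Chart.Hom D' D) (p : Fin m) (q : Chart.Hom D' (e p)),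
          w ∈ Set.range j.k.left ∧ q.comp (a p) = j.comp k ∧ q.comp (b p) = j.comp t := by
  have sq := c.et.rep.isPullback' v.c
  obtain ⟨R, hR⟩ : ∃ R, R = c.et.rep.pullback v.c := ⟨_, rfl⟩
  let r₁ : c.et.rep.pullback v.c ⟶ v.W := c.et.rep.snd v.c
  let r₂ : c.et.rep.pullback v.c ⟶ c.W := c.et.rep.fst' v.c
  haveI : CompactSpace c.W.left := inferInstance
  have hqc : IsQuasiCompactMor c.c := AlgSpPts.isQuasiCompactMor_of_qc_qs (IsAlgSpace.yon_obj _) hY
    ((AlgSpPts.isQuasiCompactSp_yon_iff _).2 inferInstance) hqs c.c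
  haveI : CompactSpace (c.et.rep.pullback v.c).left := (AlgSpPts.isQuasiCompactSp_yon_iff _).1
    (hqc (IsAlgSpace.yon_obj v.W) ((AlgSpPts.isQuasiCompactSp_yon_iff _).2 inferInstance) v.c _ _
      (c.et.rep.isPullback v.c))
  have he : Etale r₁.left := c.et.property_snd v.c
  obtain ⟨s, hs, hsU⟩ := (isCompact_iff_finite_and_eq_biUnion_affineOpens
    (U := (⊤ : (c.et.rep.pullback v.c).left.Opens))).1 (by simpa using isCompact_univ)
  haveI := hs.fintype
  let m := Fintype.card s
  let O : Fin m → (c.et.rep.pullback v.c).left.affineOpens := fun p => ((Fintype.equivFin s).symm p).1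
  let W : Fin m → Over S := fun p => Over.mk ((O p).1.ι ≫ (c.et.rep.pullback v.c).hom)
  let o : ∀ p, W p ⟶ c.et.rep.pullback v.c := fun p => CategoryTheory.Over.homMk (O p).1.ι rfl
  have hoe : ∀ p, Etale (o p ≫ r₁).left := fun p => by
    have : Etale (o p).left := inferInstanceAs (Etale (O p).1.ι)
    rw [Over.comp_left]; infer_instance
  let e : Fin m → Chart Y := fun p => ⟨W p, (O p).2, (yon S).map (o p ≫ r₁) ≫ v.c,
    repWith_comp ((repWith_yon_map_iff _ _).2 (hoe p)) v.et⟩
  refine ⟨m, e, fun p => ⟨o p ≫ r₁, rfl⟩, fun p => ⟨o p ≫ r₂, ?_⟩, fun D t k w => ?_⟩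
  · change (yon S).map (o p ≫ r₂) ≫ c.c = (yon S).map (o p ≫ r₁) ≫ v.c
    rw [Functor.map_comp, Category.assoc, sq.w, Functor.map_comp, Category.assoc]
  obtain ⟨l, hl₁, hl₂⟩ := sq.exists_lift ((yon S).map t.k) ((yon S).map k.k) (t.w.trans k.w.symm)
  obtain ⟨l₀, rfl⟩ := (yon S).map_surjective l
  have hlk : l₀ ≫ r₁ = k.k := (yon S).map_injective (by rw [Functor.map_comp, hl₂])
  have hmem : l₀.left w ∈ (⨆ i ∈ s, (i : (c.et.rep.pullback v.c).left.Opens)) := hsU ▸ trivial
  simp only [Opens.mem_iSup] at hmem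
  obtain ⟨i, hi, hwi⟩ := hmem
  let p := Fintype.equivFin s ⟨i, hi⟩
  have hp : O p = i := by simp [O, p]
  obtain ⟨B, hB, hwB, hBle⟩ := exists_isAffineOpen_mem_and_subset (U := l₀.left ⁻¹ᵁ (O p).1) (x := w)
    (show l₀.left w ∈ (O p).1 by rw [hp]; exact hwi)
  let WB : Over S := Over.mk (B.ι ≫ D.W.hom)
  let jB : WB ⟶ D.W := CategoryTheory.Over.homMk B.ι rfl
  let D' : Chart Y := ⟨WB, hB, (yon S).map jB ≫ D.c,
    repWith_comp ((repWith_yon_map_iff _ _).2 (inferInstanceAs (Etale B.ι))) D.et⟩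
  obtain ⟨q, hq⟩ : ∃ q : WB ⟶ W p, q ≫ o p = jB ≫ l₀ :=
    ⟨CategoryTheory.Over.homMk (IsOpenImmersion.lift (O p).1.ι (B.ι ≫ l₀.left) fun x ⟨y, hy⟩ =>
        ⟨⟨x, hy ▸ hBle y.2⟩, rfl⟩) (by
          change _ ≫ (O p).1.ι ≫ (c.et.rep.pullback v.c).hom = B.ι ≫ D.W.hom
          rw [IsOpenImmersion.lift_fac_assoc, Category.assoc, Over.w l₀]),
      Over.OverMorphism.ext (IsOpenImmersion.lift_fac _ _ _)⟩
  have hlt : l₀ ≫ r₂ = t.k := (yon S).map_injective (by rw [Functor.map_comp, hl₁])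
  refine ⟨D', ⟨jB, rfl⟩, p, ⟨q, ?_⟩, ⟨⟨w, hwB⟩, rfl⟩, Chart.Hom.ext' ?_, Chart.Hom.ext' ?_⟩
  · change (yon S).map q ≫ (yon S).map (o p ≫ r₁) ≫ v.c = (yon S).map jB ≫ D.c
    rw [← Functor.map_comp_assoc, ← Category.assoc, hq, Category.assoc, hlk, Functor.map_comp, Category.assoc, k.w]
  · change q ≫ o p ≫ r₁ = jB ≫ k.k
    rw [← Category.assoc, hq, Category.assoc, hlk]
  · change q ≫ o p ≫ r₂ = jB ≫ t.k
    rw [← Category.assoc, hq, Category.assoc, hlt]

/-- Two morphisms of charts agree near a point. -/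
def AgreeAt {D v : Chart Y} (k l : Chart.Hom D v) (w : D.W.left) : Prop :=
  ∃ (D' : Chart Y) (j : Chart.Hom D' D), w ∈ Set.range j.k.left ∧ j.comp k = j.comp l

/-- A set of points built up from charts separating the points outside what is already built. -/
inductive Built (Y : Sp S) : Set (Points Y) → Prop
  | empty : Built Y ∅
  | add {O : Set (Points Y)} (h : Built Y O) (v : Chart Y)
      (hv : ∀ (D : Chart Y) (k l : Chart.Hom D v) (w : D.W.left),
        Points.ofPt D.c w ∈ O ∨ AgreeAt k l w) :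
      Built Y (O ∪ Set.range (Points.ofPt v.c))

variable (F : QMod.{u, v} Y)

/-- A compatible finite family of finitely generated submodules. -/
structure Fam where
  n : ℕ
  c : Fin n → Chart Y
  N : ∀ i, Submodule (c i).R (F.M (c i))
  fg : ∀ i, (N i).FG
  stable : ∀ i j (D : Chart Y) (s : Chart.Hom D (c i)) (t : Chart.Hom D (c j)), F.Span s (N i) = F.Span t (N j)

variable {F}

/-- The points covered by a family. -/
def Fam.cov (Φ : Fam F) : Set (Points Y) := ⋃ i, Set.range (Points.ofPt (Φ.c i).c)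

/-- A family contains the prescribed elements. -/
def Fam.Has (Φ : Fam F) {κ : Type} (G : κ → Chart Y) (y : ∀ l, F.M (G l)) : Prop :=
  ∀ l i (D : Chart Y) (s : Chart.Hom D (G l)) (t : Chart.Hom D (Φ.c i)), F.map s (y l) ∈ F.Span t (Φ.N i)

/-- A chart meeting a covered point is refined there by a chart of the family. -/
theorem Fam.exists_refine (Φ : Fam F) (D : Chart Y) (w : D.W.left) (hw : Points.ofPt D.c w ∈ Φ.cov) :
    ∃ (i : Fin Φ.n) (D' : Chart Y) (j : Chart.Hom D' D) (_ : Chart.Hom D' (Φ.c i)), w ∈ Set.range j.k.left := by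
  obtain ⟨i, u, hu⟩ := Set.mem_iUnion.1 hw
  have sq := (Φ.c i).et.rep.isPullback' D.c
  let s : (Φ.c i).et.rep.pullback D.c ⟶ D.W := (Φ.c i).et.rep.snd D.c
  let f : (Φ.c i).et.rep.pullback D.c ⟶ (Φ.c i).W := (Φ.c i).et.rep.fst' D.c
  obtain ⟨z, -, hz⟩ := exists_ofPt_of_eq sq hu
  obtain ⟨B, hB, hzB, -⟩ := exists_isAffineOpen_mem_and_subset
    (U := (⊤ : ((Φ.c i).et.rep.pullback D.c).left.Opens)) (x := z) trivial
  let WB : Over S := Over.mk (B.ι ≫ ((Φ.c i).et.rep.pullback D.c).hom)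
  let o : WB ⟶ (Φ.c i).et.rep.pullback D.c := CategoryTheory.Over.homMk B.ι rfl
  have : Etale s.left := (Φ.c i).et.property_snd D.c
  have hoe : Etale (o ≫ s).left := by
    have : Etale o.left := inferInstanceAs (Etale B.ι)
    rw [Over.comp_left]; infer_instance
  let D' : Chart Y := ⟨WB, hB, (yon S).map (o ≫ s) ≫ D.c, repWith_comp ((repWith_yon_map_iff _ _).2 hoe) D.et⟩
  exact ⟨i, D', ⟨o ≫ s, rfl⟩, ⟨o ≫ f, by
    change (yon S).map (o ≫ f) ≫ (Φ.c i).c = (yon S).map (o ≫ s) ≫ D.c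
    rw [Functor.map_comp, Category.assoc, sq.w, Functor.map_comp, Category.assoc]⟩, ⟨z, hzB⟩, hz⟩

variable (F)

/-- Submodules agree when they do so near every point. -/
theorem QMod.le_of_local {D : Chart Y} {N N' : Submodule D.R (F.M D)}
    (h : ∀ w : D.W.left, ∃ (D' : Chart Y) (j : Chart.Hom D' D), w ∈ Set.range j.k.left ∧ F.Span j N ≤ F.Span j N') :
    N ≤ N' := by
  choose D' j hw hle using h
  exact F.le_of_cover D' j (fun w => ⟨w, hw w⟩) hle

theorem QMod.mem_of_local {D : Chart Y} {N : Submodule D.R (F.M D)} {x : F.M D}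
    (h : ∀ w : D.W.left, ∃ (D' : Chart Y) (j : Chart.Hom D' D), w ∈ Set.range j.k.left ∧ F.map j x ∈ F.Span j N) :
    x ∈ N := by
  choose D' j hw hle using h
  exact F.mem_of_cover D' j (fun w => ⟨w, hw w⟩) N x hle

variable {F}

/-- A compatible family extends to one more chart separating the points outside the covered ones. -/
theorem Fam.exists_extend [QuasiSeparatedSpace ↥S] (hY : IsAlgSpace Y) (hqs : IsQuasiSeparatedSp Y) (Φ : Fam F)
    {κ : Type} [Finite κ] (G : κ → Chart Y) (y : ∀ l, F.M (G l)) (hy : Φ.Has G y) (v : Chart Y)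
    (hv : ∀ (D : Chart Y) (k l : Chart.Hom D v) (w : D.W.left), Points.ofPt D.c w ∈ Φ.cov ∨ AgreeAt k l w)
    :
    ∃ Φ' : Fam F, Φ'.Has G y ∧ Φ'.cov = Φ.cov ∪ Set.range (Points.ofPt v.c) ∧
      ∃ i, Φ'.c i = v := by
  choose m e a b hlift using fun i => exists_pieces hY hqs v (Φ.c i)
  choose m₂ e₂ a₂ b₂ hlift₂ using fun l => exists_pieces hY hqs v (G l)
  obtain ⟨N₀, hfg, hN₀, hy₀⟩ := F.exists_fg_extension (fun p : Σ i, Fin (m i) => e p.1 p.2)
    (fun p => a p.1 p.2) (fun p => F.Span (b p.1 p.2) (Φ.N p.1)) (fun p => F.fg_span _ (Φ.fg p.1))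
    (fun p q D s t _ => by
      rw [← F.span_comp, ← F.span_comp]
      exact Φ.stable p.1 q.1 D _ _)
    (fun p : Σ l, Fin (m₂ l) => e₂ p.1 p.2) (fun p => a₂ p.1 p.2) (fun p => F.map (b₂ p.1 p.2) (y p.1))
    (fun l p D s t _ => by
      rw [← F.map_comp, ← F.span_comp]
      exact hy l.1 p.1 D _ _)
  have hvc : ∀ i (D : Chart Y) (k : Chart.Hom D v) (t : Chart.Hom D (Φ.c i)), F.Span k N₀ = F.Span t (Φ.N i) := by
    intro i D k t
    have key : ∀ w : D.W.left, ∃ (D' : Chart Y) (j : Chart.Hom D' D), w ∈ Set.range j.k.left ∧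
        F.Span j (F.Span k N₀) = F.Span j (F.Span t (Φ.N i)) := fun w => by
      obtain ⟨D', j, p, q, hw, hq, -⟩ := hlift i D t k w
      refine ⟨D', j, hw, ?_⟩
      rw [← F.span_comp, ← F.span_comp, ← hq, F.span_comp, hN₀ ⟨i, p⟩, ← F.span_comp]
      exact Φ.stable i i D' _ _
    exact le_antisymm (F.le_of_local fun w => by
        obtain ⟨D', j, h1, h2⟩ := key w; exact ⟨D', j, h1, h2.le⟩)
      (F.le_of_local fun w => by obtain ⟨D', j, h1, h2⟩ := key w; exact ⟨D', j, h1, h2.ge⟩)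
  have hvv : ∀ (D : Chart Y) (k l : Chart.Hom D v), F.Span k N₀ = F.Span l N₀ := by
    intro D k l
    have key : ∀ w : D.W.left, ∃ (D' : Chart Y) (j : Chart.Hom D' D), w ∈ Set.range j.k.left ∧
        F.Span j (F.Span k N₀) = F.Span j (F.Span l N₀) := fun w => by
      rcases hv D k l w with hw | ⟨D', j, hw, hj⟩
      · obtain ⟨i, D', j, t, hw⟩ := Φ.exists_refine D w hw
        refine ⟨D', j, hw, ?_⟩
        rw [← F.span_comp, ← F.span_comp, hvc i D' _ t, hvc i D' _ t]
      · exact ⟨D', j, hw, by rw [← F.span_comp, ← F.span_comp, hj]⟩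
    exact le_antisymm (F.le_of_local fun w => by
        obtain ⟨D', j, h1, h2⟩ := key w; exact ⟨D', j, h1, h2.le⟩)
      (F.le_of_local fun w => by obtain ⟨D', j, h1, h2⟩ := key w; exact ⟨D', j, h1, h2.ge⟩)
  let c' : Fin (Φ.n + 1) → Chart Y := Fin.cases v Φ.c
  let N' : ∀ i, Submodule (c' i).R (F.M (c' i)) :=
    Fin.cases (motive := fun i => Submodule (c' i).R (F.M (c' i))) N₀ Φ.N
  let Φ' : Fam F :=
    { n := Φ.n + 1
      c := c'
      N := N'
      fg := by
        intro i
        induction i using Fin.cases with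
        | zero => exact hfg
        | succ i => exact Φ.fg i
      stable := by
        intro i j
        induction i using Fin.cases with
        | zero =>
          induction j using Fin.cases with
          | zero => exact fun D s t => hvv D s t
          | succ j => exact fun D s t => hvc j D s t
        | succ i =>
          induction j using Fin.cases with
          | zero => exact fun D s t => (hvc i D t s).symm
          | succ j => exact Φ.stable i j }
  refine ⟨Φ', ?_, ?_, ⟨0, rfl⟩⟩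
  · intro l i
    induction i using Fin.cases with
    | zero =>
      intro D s t
      refine F.mem_of_local fun w => ?_
      obtain ⟨D', j, p, q, hw, hq, hq'⟩ := hlift₂ l D s t w
      refine ⟨D', j, hw, ?_⟩
      rw [← F.map_comp, ← F.span_comp]
      rw [← hq, ← hq', F.map_comp]
      exact F.map_mem_span_of_mem q (hy₀ ⟨l, p⟩)
    | succ i => exact hy l i
  · change (⋃ i, Set.range (Points.ofPt (c' i).c)) = _
    ext x
    simp only [Set.mem_iUnion, Set.mem_union, Fam.cov]
    constructor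
    · rintro ⟨i, hi⟩
      induction i using Fin.cases with
      | zero => exact Or.inr hi
      | succ i => exact Or.inl ⟨i, hi⟩
    · rintro (⟨i, hi⟩ | hi)
      · exact ⟨i.succ, hi⟩
      · exact ⟨0, hi⟩

end Groth.Agent.AlgSpQMod
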