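import Groth.Agent.AlgSpQMod.FpClosed
import Groth.Agent.AlgSpQMod.ClosedLimit
import Groth.Agent.AlgSpDec.LimDescentRep

/-!
# Finite morphisms and finitely presented finite morphisms
-/

set_option autoImplicit false
set_option backward.isDefEq.respectTransparency false
set_option backward.isDefEq.respectTransparency.types false
set_option maxHeartbeats 400000

universe u

open CategoryTheory CategoryTheory.Limits AlgebraicGeometry AlgSp Groth.Agent.AlgSpLib Opposite

namespace Groth.Agent.AlgSpQMod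

variable {S : Scheme.{u}} {X Y Z : Sp S}

/-- Composites of affine morphisms of finite presentation are of finite presentation. -/
theorem isFinitePresentationMor_comp_affine (hX : IsAlgSpace X) (hY : IsAlgSpace Y) (hZ : IsAlgSpace Z) {f : X ⟶ Y}
    {g : Y ⟶ Z} (hfa : RepWith @IsAffineHom f) (hga : RepWith @IsAffineHom g) (hf : IsFinitePresentationMor f)
    (hg : IsFinitePresentationMor g) : IsFinitePresentationMor (f ≫ g) :=
  ⟨locP_comp hX hY hZ hf.1 hg.1,
    AlgSpPts.isQuasiCompactMor_of_repWith (repWith_mono (fun _ _ e (_ : IsAffineHom e) =>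
      (inferInstance : QuasiCompact e)) _ (repWith_comp hfa hga)),
    AlgSpDec.isQuasiSeparatedMor_of_isSeparatedMor (isSeparatedMor_of_repWith (repWith_mono
      (fun _ _ e (_ : IsAffineHom e) => (inferInstance : IsSeparated e)) _ (repWith_comp hfa hga)))⟩

theorem mono_of_closed {j : X ⟶ Y} (hj : RepWith @IsClosedImmersion j) : Mono j :=
  mono_of_yon_injective fun T x y e => by
    obtain ⟨x', hx⟩ : ∃ x', x' = hj.rep.lift x (𝟙 T) (g := x ≫ j) (by simp) := ⟨_, rfl⟩
    obtain ⟨y', hy⟩ : ∃ y', y' = hj.rep.lift y (𝟙 T) (g := x ≫ j) (by simp [e]) := ⟨_, rfl⟩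
    have hm : Mono (hj.rep.snd (x ≫ j)) :=
      (Over.forget S).mono_of_mono_map (by
        haveI : IsClosedImmersion (hj.rep.snd (x ≫ j)).left := hj.property_snd _
        exact inferInstanceAs (Mono (hj.rep.snd (x ≫ j)).left))
    have : x' = y' := by
      rw [← cancel_mono (hj.rep.snd (x ≫ j)), hx, hy, Functor.relativelyRepresentable.lift_snd,
        Functor.relativelyRepresentable.lift_snd]
    simpa [hx, hy] using congrArg (fun m => (yon S).map m ≫ hj.rep.fst (x ≫ j)) this

theorem closed_idealι (u : Chart Y) (J : Ideal u.R) :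
    IsClosedImmersion (idealι u J).left ∧ IsAffine (idealSpec u J).left := ⟨inferInstance, inferInstance⟩

variable [QuasiSeparatedSpace ↥S]

/-- A closed subspace cut out by a finitely generated stable ideal is of finite presentation. -/
theorem exists_closed_sub_fp {f : X ⟶ Y} (hY : IsAlgSpace Y) (hf : RepWith (@QuasiCompact ⊓ @QuasiSeparated) f)
    {u : Chart Y} (hu : RepWith @Surjective u.c) {J : Ideal u.R} (hJf : J.FG)
    (hJ : ∀ (D : Chart Y) (s t : Chart.Hom D u), J.map s.φ = J.map t.φ)
    (hker : J ≤ RingHom.ker (preπ f hf u).left.appTop.hom) :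
    ∃ (W : Space S) (j : W.obj ⟶ Y) (q : (yon S).obj (idealSpec u J) ⟶ W.obj) (h : X ⟶ W.obj),
      RepWith @IsClosedImmersion j ∧ IsFinitePresentationMor j ∧
      IsPullback q ((yon S).map (idealι u J)) j u.c ∧ h ≫ j = f := by
  obtain ⟨W, j, q, hj, sq, -, -⟩ := exists_closed_sub u hY hu J hJ
  haveI := lfp_idealι u hJf
  haveI : Mono j := mono_of_yon_injective fun T x y h => by
    obtain ⟨x', hx⟩ : ∃ x', x' = hj.rep.lift x (𝟙 T) (g := x ≫ j) (by simp) := ⟨_, rfl⟩
    obtain ⟨y', hy⟩ : ∃ y', y' = hj.rep.lift y (𝟙 T) (g := x ≫ j) (by simp [h]) := ⟨_, rfl⟩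
    have hm : Mono (hj.rep.snd (x ≫ j)) :=
      (Over.forget S).mono_of_mono_map (by
        haveI : IsClosedImmersion (hj.rep.snd (x ≫ j)).left := hj.property_snd _
        exact inferInstanceAs (Mono (hj.rep.snd (x ≫ j)).left))
    have : x' = y' := by
      rw [← cancel_mono (hj.rep.snd (x ≫ j)), hx, hy, Functor.relativelyRepresentable.lift_snd,
        Functor.relativelyRepresentable.lift_snd]
    simpa [hx, hy] using congrArg (fun m => (yon S).map m ≫ hj.rep.fst (x ≫ j)) this
  obtain ⟨h, hh⟩ := exists_factor hu sq f fun T T' t k v hv => by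
    refine (factor_iff u v J).2 fun x hx => ?_
    obtain ⟨l, hl⟩ : ∃ l : T' ⟶ pre f hf u, l ≫ preπ f hf u = v :=
      ⟨hf.rep.lift ((yon S).map k ≫ t) v (by rw [Category.assoc, hv]), hf.rep.lift_snd _ _ _⟩
    rw [← hl]
    change l.left.appTop.hom ((preπ f hf u).left.appTop.hom x) = 0
    rw [show (preπ f hf u).left.appTop.hom x = 0 from hker hx, map_zero]
  exact ⟨W, j, q, h, hj, AlgSpPts.descend_chart isLocalOnBase_fpqc_isFinitePresentationMor W.property hY u.et hu
    sq (isFinitePresentationMor_yon _), sq, hh⟩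

/-- A morphism from a closed subspace into another is a closed immersion. -/
theorem repWith_closed_cancel {W : Sp S} {h : X ⟶ W} {j : W ⟶ Y} (hj : RepWith @IsClosedImmersion j)
    (hhj : RepWith @IsClosedImmersion (h ≫ j)) : RepWith @IsClosedImmersion h := by
  haveI : Mono j := mono_of_yon_injective fun T x y e => by
    obtain ⟨x', hx⟩ : ∃ x', x' = hj.rep.lift x (𝟙 T) (g := x ≫ j) (by simp) := ⟨_, rfl⟩
    obtain ⟨y', hy⟩ : ∃ y', y' = hj.rep.lift y (𝟙 T) (g := x ≫ j) (by simp [e]) := ⟨_, rfl⟩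
    have hm : Mono (hj.rep.snd (x ≫ j)) :=
      (Over.forget S).mono_of_mono_map (by
        haveI : IsClosedImmersion (hj.rep.snd (x ≫ j)).left := hj.property_snd _
        exact inferInstanceAs (Mono (hj.rep.snd (x ≫ j)).left))
    have : x' = y' := by
      rw [← cancel_mono (hj.rep.snd (x ≫ j)), hx, hy, Functor.relativelyRepresentable.lift_snd,
        Functor.relativelyRepresentable.lift_snd]
    simpa [hx, hy] using congrArg (fun m => (yon S).map m ≫ hj.rep.fst (x ≫ j)) this
  exact repWith_closed_of_comp hj hhj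

theorem repWith_affine_of_closed {f : X ⟶ Y} (hf : RepWith @IsClosedImmersion f) : RepWith @IsAffineHom f :=
  repWith_mono (fun _ _ e (_ : IsClosedImmersion e) => (inferInstance : IsAffineHom e)) _ hf

/-- A finite morphism is a closed immersion followed by a finite morphism of finite presentation. -/
theorem exists_finite_fp (hX : IsAlgSpace X) (hY : IsAlgSpace Y) (hqc : IsQuasiCompactSp Y)
    (hqs : IsQuasiSeparatedSp Y) {f : X ⟶ Y} (hfin : IsFiniteMor f) :
    ∃ (W : Sp S) (g : W ⟶ Y) (i : X ⟶ W), IsAlgSpace W ∧ IsFiniteMor g ∧ IsFinitePresentationMor g ∧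
      RepWith @IsClosedImmersion i ∧ i ≫ g = f := by
  classical
  have hfr : RepWith @IsFinite f := AlgSpDec.isFiniteMor_iff_repWith.1 hfin
  have haff : RepWith @IsAffineHom f :=
    repWith_mono (fun _ _ e (_ : IsFinite e) => (inferInstance : IsAffineHom e)) _ hfr
  haveI hfinc : ∀ c : Chart Y, IsFinite (preπ f (qcqs_of_affine haff) c).left := fun c =>
    hfr.2 c.c _ _ ((qcqs_of_affine haff).rep.isPullback c.c)
  obtain ⟨Z0, ν0, haff0, ψ, hZ0, hψν, hψc, hfp0⟩ := exists_closed_fp hY hqc hqs hX haff fun c => inferInstance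
  obtain ⟨U, a, hU, hae, has⟩ := AlgSpDec.exists_affine_atlas hqc
  obtain ⟨u, hu⟩ : ∃ u : Chart Y, RepWith @Surjective u.c := ⟨⟨U, hU, a, hae⟩, has⟩
  clear has hae hU a U
  have h0 := qcqs_of_affine haff0
  have hfν := qcqs_of_affine haff
  haveI : IsAffineHom (preπ ν0 h0 u).left := haff0.2 u.c _ _ (h0.rep.isPullback u.c)
  haveI : IsAffine (pre ν0 h0 u).left := isAffine_of_isAffineHom (preπ ν0 h0 u).left
  haveI : IsAffine (pre f hfν u).left := isAffine_of_isAffineHom (preπ f hfν u).left
  let u1 : Chart Z0 := ⟨pre ν0 h0 u, inferInstance, h0.rep.fst u.c,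
    repWith_of_isPullback (h0.rep.isPullback u.c).flip u.et⟩
  have hu1 : RepWith @Surjective u1.c := repWith_of_isPullback (h0.rep.isPullback u.c).flip hu
  have hψq := qcqs_of_affine (repWith_affine_of_closed hψc)
  let κ := preFun h0 hfν ψ hψν u
  -- the monic relations
  obtain ⟨s, hs⟩ : ∃ s : Finset u1.R,
      Subring.closure (Set.range (preπ ν0 h0 u).left.appTop.hom ∪ (s : Set u1.R)) = ⊤ := by
    haveI : LocallyOfFinitePresentation (preπ ν0 h0 u).left := hfp0 u
    have h1 : (preπ ν0 h0 u).left.appTop.hom.FiniteType :=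
      (HasRingHomProperty.iff_of_isAffine (P := @LocallyOfFiniteType)).1 inferInstance
    algebraize [(preπ ν0 h0 u).left.appTop.hom]
    obtain ⟨s, hs⟩ := (‹Algebra.FiniteType u.R Γ((pre ν0 h0 u).left, ⊤)›).out
    refine ⟨s, ?_⟩
    have := congrArg Subalgebra.toSubring hs
    rw [Algebra.adjoin_eq_ring_closure, Algebra.top_toSubring] at this
    exact this
  have hint : ∀ y, (preπ f hfν u).left.appTop.hom.IsIntegralElem y :=
    RingHom.Finite.to_isIntegral ((HasAffineProperty.iff_of_isAffine (P := @IsFinite)).1 (hfinc u)).2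
  choose P hPm hP using fun x : u1.R => hint (κ.left.appTop.hom x)
  let T : Finset u1.R := s.image fun x => (P x).eval₂ (preπ ν0 h0 u).left.appTop.hom x
  have sqκ : IsPullback (hfν.rep.fst u.c) ((yon S).map κ) ψ u1.c := isPullback_preFun h0 hfν ψ hψν u
  let e : pre ψ hψq u1 ≅ pre f hfν u := (yon S).preimageIso ((hψq.rep.isPullback u1.c).isoIsPullback _ _ sqκ)
  have heκ : e.hom ≫ κ = preπ ψ hψq u1 := (yon S).map_injective (by
    rw [Functor.map_comp, Functor.preimageIso_hom, Functor.map_preimage]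
    exact IsPullback.isoIsPullback_hom_snd _ _ _ _)
  obtain ⟨J, hJfg, hJker, hTJ, hJst⟩ := exists_fg_ideal ψ hψq hZ0
    (AlgSpDec.isQuasiCompactSp_of_affine hY ν0 haff0 hqc) (AlgSpDec.isQuasiSeparatedSp_of_affine ν0 haff0 hqs) u1 T
    (by
      intro x hx
      obtain ⟨y, -, rfl⟩ := Finset.mem_image.1 hx
      rw [← heκ]
      change e.hom.left.appTop.hom (κ.left.appTop.hom _) = 0
      rw [Polynomial.hom_eval₂]
      have hc : κ.left.appTop.hom.comp (preπ ν0 h0 u).left.appTop.hom = (preπ f hfν u).left.appTop.hom :=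
        RingHom.ext fun r => congrArg (fun m : pre f hfν u ⟶ u.W => m.left.appTop.hom r) (preFun_snd h0 hfν ψ hψν u)
      rw [hc, hP, map_zero])
  obtain ⟨W, j, q, h, hjc, hjfp, sqW, hh⟩ := exists_closed_sub_fp hZ0 hψq hu1 hJfg hJst hJker
  have hja := repWith_affine_of_closed hjc
  refine ⟨W.obj, j ≫ ν0, h, W.property, ?_, isFinitePresentationMor_comp_affine W.property hZ0 hY hja haff0 hjfp
    (isFinitePresentationMor_of_preπ hY hqc hZ0 haff0 hfp0), repWith_closed_cancel hjc (hh.symm ▸ hψc),
    by rw [reassoc_of% hh, hψν]⟩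
  have sqWY : IsPullback q ((yon S).map (idealι u1 J ≫ preπ ν0 h0 u)) (j ≫ ν0) u.c := by
    rw [Functor.map_comp]; exact sqW.paste_vert (h0.rep.isPullback u.c)
  refine AlgSpPts.descend_chart isLocalOnBase_fpqc_isFiniteMor W.property hY u.et hu sqWY ?_
  rw [AlgSpDec.isFiniteMor_iff_repWith, repWith_yon_map_iff]
  haveI := (closed_idealι u1 J).1
  haveI := (closed_idealι u1 J).2
  haveI : IsAffineHom (idealι u1 J).left := inferInstance
  have hft : (idealι u1 J ≫ preπ ν0 h0 u).left.appTop.hom.FiniteType := by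
    haveI : LocallyOfFinitePresentation (preπ ν0 h0 u).left := hfp0 u
    exact (HasRingHomProperty.iff_of_isAffine (P := @LocallyOfFiniteType)).1
      (inferInstanceAs (LocallyOfFiniteType ((idealι u1 J).left ≫ (preπ ν0 h0 u).left)))
  refine (HasAffineProperty.iff_of_isAffine (P := @IsFinite)).2
    ⟨inferInstance, RingHom.IsIntegral.to_finite ?_ hft⟩
  have hsur := (IsClosedImmersion.isAffine_surjective_of_isAffine (idealι u1 J).left).2
  intro z
  obtain ⟨x, rfl⟩ := hsur z
  let φ := (idealι u1 J ≫ preπ ν0 h0 u).left.appTop.hom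
  change φ.IsIntegralElem ((idealι u1 J).left.appTop.hom x)
  have : x ∈ Subring.closure (Set.range (preπ ν0 h0 u).left.appTop.hom ∪ (s : Set u1.R)) := hs ▸ trivial
  induction this using Subring.closure_induction with
  | mem x hx =>
    rcases hx with ⟨r, rfl⟩ | hx
    · exact RingHom.isIntegralElem_map _
    · refine ⟨P x, hPm x, ?_⟩
      have hc : (idealι u1 J ≫ preπ ν0 h0 u).left.appTop.hom =
          (idealι u1 J).left.appTop.hom.comp (preπ ν0 h0 u).left.appTop.hom := RingHom.ext fun r => rfl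
      change Polynomial.eval₂ (idealι u1 J ≫ preπ ν0 h0 u).left.appTop.hom _ _ = _
      rw [hc, ← Polynomial.hom_eval₂]
      exact appTop_idealι_eq_zero u1 (hTJ (Finset.mem_image_of_mem _ hx))
  | zero => rw [map_zero]; exact RingHom.isIntegralElem_zero _
  | one => rw [map_one]; exact RingHom.isIntegralElem_one _
  | add a b _ _ ha hb => rw [map_add]; exact RingHom.IsIntegralElem.add _ ha hb
  | neg a _ ha => rw [map_neg]; exact RingHom.IsIntegralElem.neg _ ha
  | mul a b _ _ ha hb => rw [map_mul]; exact RingHom.IsIntegralElem.mul _ ha hb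

end Groth.Agent.AlgSpQMod
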