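import Groth.Agent.AlgSpQMod.FpStep
import Groth.Agent.AlgSpQMod.Built
import Groth.Agent.AlgSpLib.EtLocalInst

/-!
# An affine morphism of finite type embeds as a closed subspace in one of finite presentation
-/

set_option autoImplicit false
set_option backward.isDefEq.respectTransparency false
set_option backward.isDefEq.respectTransparency.types false
set_option maxHeartbeats 400000

universe u

open CategoryTheory CategoryTheory.Limits AlgebraicGeometry AlgSp Groth.Agent.AlgSpLib TopologicalSpace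

namespace Groth.Agent.AlgSpQMod

variable {S : Scheme.{u}} {Y Z : Sp S} {ν : Z ⟶ Y}

/-- Representable affine morphisms are quasi-compact and quasi-separated. -/
theorem qcqs_of_affine (h : RepWith @IsAffineHom ν) : RepWith (@QuasiCompact ⊓ @QuasiSeparated) ν :=
  repWith_mono (fun _ _ g hg => by
    haveI : IsAffineHom g := hg
    exact ⟨inferInstanceAs (QuasiCompact g), inferInstanceAs (QuasiSeparated g)⟩) _ h

/-- An etale local property holds on every chart when it holds on charts covering the space. -/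
theorem preπ_of_cover {P : MorphismProperty Scheme.{u}} [IsEtLocal P] [IsZariskiLocalAtSource P]
    (hν : RepWith (@QuasiCompact ⊓ @QuasiSeparated) ν) {ι : Type*} (c : ι → Chart Y)
    (hcov : ∀ x : Points Y, ∃ i, x ∈ Set.range (Points.ofPt (c i).c)) (hP : ∀ i, P (preπ ν hν (c i)).left)
    (d : Chart Y) : P (preπ ν hν d).left := by
  have key : ∀ z : (pre ν hν d).left, ∃ U : (pre ν hν d).left.Opens, z ∈ U ∧ P (U.ι ≫ (preπ ν hν d).left) := by
    intro z
    obtain ⟨i, hi⟩ := hcov (Points.ofPt d.c ((preπ ν hν d).left z))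
    obtain ⟨D, j, t, w, hw⟩ := exists_refine_range d (c i) _ hi
    have sqj := (isPullback_preMap ν hν j).map (Over.forget S)
    have sqt := (isPullback_preMap ν hν t).map (Over.forget S)
    haveI : Etale j.k.left := j.etale
    haveI : Etale (preMap ν hν j).left :=
      MorphismProperty.of_isPullback (P := @Etale) sqj.flip ‹Etale j.k.left›
    obtain ⟨z', hz', -⟩ := Scheme.Pullback.exists_preimage_pullback z w hw.symm
    let f := (preMap ν hν j).left
    let U : (pre ν hν d).left.Opens := ⟨Set.range f, f.isOpenMap.isOpen_range⟩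
    refine ⟨U, ⟨sqj.isoPullback.inv z', ?_⟩, ?_⟩
    · rw [← hz']
      exact congrArg (fun m : _ ⟶ (pre ν hν d).left => m z') sqj.isoPullback_inv_fst
    let l := IsOpenImmersion.lift U.ι f (by rw [Scheme.Opens.range_ι]; exact subset_rfl)
    have hl : l ≫ U.ι = f := IsOpenImmersion.lift_fac _ _ _
    haveI : Etale (l ≫ U.ι) := by rw [hl]; infer_instance
    haveI : Etale l := Etale.of_comp l U.ι
    haveI : Surjective l := ⟨fun x => by
      obtain ⟨y, hy⟩ := x.2
      refine ⟨y, U.ι.isOpenEmbedding.injective ?_⟩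
      rw [← Scheme.Hom.comp_apply, hl]
      exact hy⟩
    refine IsEtLocal.of_precomp l _ inferInstance inferInstance ?_
    rw [← Category.assoc, hl, ← Over.comp_left, preMap_snd, Over.comp_left]
    exact IsEtLocal.postcomp _ _ (MorphismProperty.of_isPullback (P := P) sqt (hP i)) j.etale
  choose U hzU hU using key
  exact IsZariskiLocalAtSource.of_iSup_eq_top U (eq_top_iff.2 fun z _ => Opens.mem_iSup.2 ⟨z, hzU z⟩) hU

/-- On a quasi-compact quasi-separated space, an affine morphism of finite type factors as a closed immersion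
followed by an affine morphism of finite presentation. -/
theorem exists_closed_fp [QuasiSeparatedSpace ↥S] (hY : IsAlgSpace Y) (hqc : IsQuasiCompactSp Y)
    (hqs : IsQuasiSeparatedSp Y) (hZ : IsAlgSpace Z) (haff : RepWith @IsAffineHom ν)
    (hft : ∀ c : Chart Y, LocallyOfFiniteType (preπ ν (qcqs_of_affine haff) c).left) :
    ∃ (Z' : Sp S) (ν' : Z' ⟶ Y) (haff' : RepWith @IsAffineHom ν') (ψ : Z ⟶ Z'), IsAlgSpace Z' ∧
      ψ ≫ ν' = ν ∧ RepWith @IsClosedImmersion ψ ∧
      ∀ d : Chart Y, LocallyOfFinitePresentation (preπ ν' (qcqs_of_affine haff') d).left := by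
  suffices ∀ O, Built Y O → ∃ (n : ℕ) (c : Fin n → Chart Y), (O ⊆ ⋃ i, Set.range (Points.ofPt (c i).c)) ∧
      ∃ (Z' : Sp S) (ν' : Z' ⟶ Y) (haff' : RepWith @IsAffineHom ν') (ψ : Z ⟶ Z'), IsAlgSpace Z' ∧
        ψ ≫ ν' = ν ∧ RepWith @IsClosedImmersion ψ ∧
        (∀ d : Chart Y, LocallyOfFiniteType (preπ ν' (qcqs_of_affine haff') d).left) ∧
        ∀ i, LocallyOfFinitePresentation (preπ ν' (qcqs_of_affine haff') (c i)).left by
    obtain ⟨n, c, hO, Z', ν', haff', ψ, h1, h2, h3, -, h5⟩ := this _ (built_univ hY hqc hqs)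
    exact ⟨Z', ν', haff', ψ, h1, h2, h3, preπ_of_cover (P := @LocallyOfFinitePresentation) _ c
      (fun x => Set.mem_iUnion.1 (hO (Set.mem_univ x))) h5⟩
  intro O hO
  induction hO with
  | empty =>
    exact ⟨0, fun i => i.elim0, Set.empty_subset _, Z, ν, haff, 𝟙 Z, hZ, Category.id_comp _,
      repWith_of_isIso _ _, hft, fun i => i.elim0⟩
  | @add O _ v hv ih =>
    obtain ⟨n, c, hsub, Z₁, ν₁, haff₁, ψ₁, hZ₁, hψ₁, hcl₁, hft₁, hfp₁⟩ := ih
    obtain ⟨Z', ν', hν', ψ, hZ', haff', hft', hψ, hcl, hfpc, hfpv⟩ :=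
      exists_step ν₁ (qcqs_of_affine haff₁) hY hqc hqs hZ₁ haff₁ hft₁ c hfp₁ v
        (fun D k l w => (hv D k l w).imp_left fun h => hsub h)
    refine ⟨n + 1, Fin.snoc c v, ?_, Z', ν', haff', ψ₁ ≫ ψ, hZ', by rw [Category.assoc, hψ, hψ₁],
      repWith_comp hcl₁ hcl, hft', fun i => ?_⟩
    · rintro x (hx | hx)
      · obtain ⟨i, hi⟩ := Set.mem_iUnion.1 (hsub hx)
        exact Set.mem_iUnion.2 ⟨i.castSucc, by rw [Fin.snoc_castSucc]; exact hi⟩
      · exact Set.mem_iUnion.2 ⟨Fin.last n, by rw [Fin.snoc_last]; exact hx⟩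
    · induction i using Fin.lastCases with
      | last => rw [Fin.snoc_last]; exact hfpv
      | cast i => rw [Fin.snoc_castSucc]; exact hfpc i

/-- Affine morphisms of finite presentation on charts are of finite presentation. -/
theorem isFinitePresentationMor_of_preπ [QuasiSeparatedSpace ↥S] (hY : IsAlgSpace Y) (hqc : IsQuasiCompactSp Y)
    (hZ : IsAlgSpace Z) (haff : RepWith @IsAffineHom ν)
    (hfp : ∀ d : Chart Y, LocallyOfFinitePresentation (preπ ν (qcqs_of_affine haff) d).left) :
    IsFinitePresentationMor ν := by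
  obtain ⟨U, a, hU, hae, has⟩ := AlgSpDec.exists_affine_atlas hqc
  obtain ⟨u, hu⟩ : ∃ u : Chart Y, RepWith @Surjective u.c := ⟨⟨U, hU, a, hae⟩, has⟩
  haveI := hfp u
  haveI : IsAffineHom (preπ ν (qcqs_of_affine haff) u).left :=
    haff.2 u.c _ _ ((qcqs_of_affine haff).rep.isPullback u.c)
  exact AlgSpPts.descend_chart isLocalOnBase_fpqc_isFinitePresentationMor hZ hY u.et hu
    ((qcqs_of_affine haff).rep.isPullback u.c) (isFinitePresentationMor_yon _)

end Groth.Agent.AlgSpQMod
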