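import Groth.Agent.AlgSpQMod.FiniteFp
import Mathlib.CategoryTheory.Limits.Shapes.WidePullbacks

/-!
# Finite fibre products of finitely presented affine spaces over a base
-/

set_option autoImplicit false
set_option backward.isDefEq.respectTransparency false
set_option backward.isDefEq.respectTransparency.types false
set_option maxHeartbeats 400000

universe u

open CategoryTheory CategoryTheory.Limits AlgebraicGeometry AlgSp Groth.Agent.AlgSpLib

namespace Groth.Agent.AlgSpQMod

variable {S : Scheme.{u}} {Y : Sp S}

/-- An affine morphism of finite presentation from an algebraic space with a property of schemes. -/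
def IsGood (P : MorphismProperty Scheme.{u}) {Z : Sp S} (g : Z ⟶ Y) : Prop :=
  IsAlgSpace Z ∧ RepWith P g ∧ IsFinitePresentationMor g

variable {P : MorphismProperty Scheme.{u}} [P.IsMultiplicative] [P.IsStableUnderBaseChange]

theorem isGood_of_isIso (hPA : P ≤ @IsAffineHom) (hY : IsAlgSpace Y) {Z : Sp S} (g : Z ⟶ Y) [IsIso g] :
    IsGood P g := by
  haveI : MorphismProperty.IsMultiplicative (@LocallyOfFinitePresentation : MorphismProperty Scheme.{u}) :=
    { id_mem := fun X => inferInstanceAs (LocallyOfFinitePresentation (𝟙 X))
      comp_mem := fun f g hf hg => by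
        haveI : LocallyOfFinitePresentation f := hf
        haveI : LocallyOfFinitePresentation g := hg
        exact inferInstanceAs (LocallyOfFinitePresentation (f ≫ g)) }
  exact ⟨isAlgSpace_of_isPullback (IsPullback.of_horiz_isIso ⟨rfl⟩ : IsPullback g g (𝟙 Y) (𝟙 Y)) hY hY hY,
    repWith_of_isIso P g, locP_of_repWith (repWith_of_isIso _ g),
    AlgSpPts.isQuasiCompactMor_of_repWith (repWith_of_isIso _ g),
    AlgSpDec.isQuasiSeparatedMor_of_isSeparatedMor (isSeparatedMor_of_repWith (repWith_of_isIso _ g))⟩

theorem IsGood.comp (hPA : P ≤ @IsAffineHom) (hY : IsAlgSpace Y) {Z W : Sp S} {f : W ⟶ Z} {g : Z ⟶ Y}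
    (hf : IsGood P f) (hg : IsGood P g) : IsGood P (f ≫ g) :=
  ⟨hf.1, repWith_comp hf.2.1 hg.2.1, isFinitePresentationMor_comp_affine hf.1 hg.1 hY
    (repWith_mono hPA _ hf.2.1) (repWith_mono hPA _ hg.2.1) hf.2.2 hg.2.2⟩

theorem IsGood.baseChange {Z W Q : Sp S} {g : Z ⟶ Y} {b : W ⟶ Y} {fst : Q ⟶ Z} {snd : Q ⟶ W}
    (sq : IsPullback fst snd g b) (hY : IsAlgSpace Y) (hW : IsAlgSpace W) (hg : IsGood P g) : IsGood P snd :=
  ⟨isAlgSpace_of_isPullback sq hg.1 hW hY, repWith_of_isPullback sq hg.2.1,
    locP_of_isPullback sq hg.1 hY hW hg.2.2.1, AlgSpPts.isQuasiCompactMor_of_isPullback sq hg.2.2.2.1,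
    AlgSpPts.isQuasiSeparatedMor_of_isPullback sq hg.2.2.2.2⟩

variable {K : Type u} {W : K → Sp S} (w : ∀ k, W k ⟶ Y)

/-- Finite fibre products of good morphisms are good. -/
theorem isGood_widePullback (hPA : P ≤ @IsAffineHom) (hY : IsAlgSpace Y) (hw : ∀ k, IsGood P (w k)) (E : Finset K) :
    IsGood P (WidePullback.base (fun k : E => w k)) := by
  classical
  induction E using Finset.induction_on with
  | empty =>
    haveI : IsIso (WidePullback.base (fun k : (∅ : Finset K) => w k)) :=
      ⟨WidePullback.lift (𝟙 Y) (fun k => isEmptyElim k) (fun k => isEmptyElim k),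
        WidePullback.hom_ext _ _ _ (fun k => isEmptyElim k) (by simp), by simp⟩
    exact isGood_of_isIso hPA hY _
  | @insert a E _ hE =>
    have sq : IsPullback (pullback.snd (WidePullback.base fun k : E => w k) (w a))
        (pullback.fst (WidePullback.base fun k : E => w k) (w a)) (w a) (WidePullback.base fun k : E => w k) :=
      (IsPullback.of_hasPullback _ _).flip
    have hb := ((hw a).baseChange sq hY hE.1).comp hPA hY hE
    let aI : (insert a E : Finset K) := ⟨a, Finset.mem_insert_self _ _⟩
    let ι : E → (insert a E : Finset K) := fun k => ⟨k.1, Finset.mem_insert_of_mem k.2⟩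
    let toP : widePullback Y (fun k : (insert a E : Finset K) => W k) (fun k => w k) ⟶
        pullback (WidePullback.base fun k : E => w k) (w a) :=
      pullback.lift (WidePullback.lift (WidePullback.base fun k : (insert a E : Finset K) => w k)
          (fun k => WidePullback.π (fun k : (insert a E : Finset K) => w k) (ι k))
          (fun k => WidePullback.π_arrow (fun k : (insert a E : Finset K) => w k) (ι k)))
        (WidePullback.π (fun k : (insert a E : Finset K) => w k) aI) (by
          rw [WidePullback.lift_base]
          exact (WidePullback.π_arrow (fun k : (insert a E : Finset K) => w k) aI).symm)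
    have hbase : toP ≫ pullback.fst _ _ ≫ WidePullback.base (fun k : E => w k) =
        WidePullback.base (fun k : (insert a E : Finset K) => w k) := by
      rw [pullback.lift_fst_assoc, WidePullback.lift_base]
    let invP : pullback (WidePullback.base fun k : E => w k) (w a) ⟶
        widePullback Y (fun k : (insert a E : Finset K) => W k) (fun k => w k) :=
      WidePullback.lift (pullback.fst _ _ ≫ WidePullback.base _)
        (fun k => if h : k.1 = a then pullback.snd _ _ ≫ eqToHom (by rw [h]) else
          pullback.fst _ _ ≫ WidePullback.π (fun k : E => w k) (⟨k.1, (Finset.mem_insert.1 k.2).resolve_left h⟩ : E))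
        (fun k => by
          obtain ⟨k, hk⟩ := k
          dsimp only
          split_ifs with h
          · subst h; simp [pullback.condition]
          · rw [Category.assoc]
            exact congrArg (pullback.fst _ _ ≫ ·) (WidePullback.π_arrow (fun k : E => w k) _))
    haveI : IsIso toP := ⟨invP, WidePullback.hom_ext _ _ _ (fun k => by
        obtain ⟨k, hk⟩ := k
        simp only [Category.assoc, invP, WidePullback.lift_π, Category.id_comp]
        split_ifs with h
        · subst h; simp [toP, aI]
        · simp [toP, ι]) (by simp [invP, toP]), pullback.hom_ext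
      (WidePullback.hom_ext _ _ _ (fun k => by
        have hka : ∀ (_ : a ∉ E), k.1 ≠ a := fun h e => h (e ▸ k.2)
        simp only [toP, invP, Category.assoc, pullback.lift_fst, WidePullback.lift_π, Category.id_comp]
        rw [dif_neg (hka ‹_›)])
        (by simp [toP, invP]))
      (by
        simp only [toP, invP, Category.assoc, pullback.lift_snd, WidePullback.lift_π, Category.id_comp]
        rw [dif_pos rfl]
        simp)⟩
    rw [← hbase]
    exact (isGood_of_isIso hPA hb.1 toP).comp hPA hY hb

end Groth.Agent.AlgSpQMod
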