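import Groth.Agent.AlgSpQMod.Extend
import Groth.Agent.AlgSpDec.Glue
import Mathlib.RingTheory.TensorProduct.IsBaseChangePi

/-!
# Tools for the construction of finitely presented affine thickenings
-/

set_option autoImplicit false
set_option backward.isDefEq.respectTransparency false
set_option backward.isDefEq.respectTransparency.types false
set_option maxHeartbeats 400000

universe u v

open CategoryTheory CategoryTheory.Limits AlgebraicGeometry AlgSp Groth.Agent.AlgSpLib TopologicalSpace

namespace Groth.Agent.AlgSpQMod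

variable {S : Scheme.{u}} {Y : Sp S}

/-- The product of two modules. -/
noncomputable def QMod.prod (F G : QMod.{u, v} Y) : QMod.{u, v} Y where
  M c := F.M c × G.M c
  grp _ := inferInstance
  mod _ := inferInstance
  map h := (F.map h).prodMap (G.map h)
  map_id c x := Prod.ext (F.map_id c x.1) (G.map_id c x.2)
  map_comp s h x := Prod.ext (F.map_comp s h x.1) (G.map_comp s h x.2)
  bc {d c} h := by
    refine ⟨fun a x => Prod.ext (F.map_smul h a x.1) (G.map_smul h a x.2), ?_⟩
    letI : Algebra c.R d.R := h.φ.toAlgebra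
    letI : Module c.R (F.M d) := Module.compHom _ h.φ
    letI : Module c.R (G.M d) := Module.compHom _ h.φ
    haveI : IsScalarTower c.R d.R (F.M d) := ⟨fun a b n => mul_smul (h.φ a) b n⟩
    haveI : IsScalarTower c.R d.R (G.M d) := ⟨fun a b n => mul_smul (h.φ a) b n⟩
    exact IsBaseChange.prodMap
      { toFun := F.map h, map_add' := (F.map h).map_add, map_smul' := (F.bc h).1 }
      { toFun := G.map h, map_add' := (G.map h).map_add, map_smul' := (G.bc h).1 } (F.bc h).2 (G.bc h).2

namespace QMod.Map

variable {F G H : QMod.{u, v} Y}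

theorem map_span' (p : QMod.Map F G) {d c : Chart Y} (h : Chart.Hom d c) (N : Submodule c.R (F.M c)) :
    G.Span h (N.map (p.app c)) = (F.Span h N).map (p.app d) := by
  change Submodule.span d.R (G.map h '' _) = (Submodule.span d.R (F.map h '' N)).map _
  rw [Submodule.map_span, Submodule.map_coe, Set.image_image, Set.image_image]
  simp only [p.nat]

/-- The difference of two maps out of a product. -/
noncomputable def coprodSub (p : QMod.Map F H) (q : QMod.Map G H) : QMod.Map (F.prod G) H where
  app c := (p.app c).coprod (-(q.app c))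
  nat {d c} h x := by
    change H.map h (p.app c x.1 + -(q.app c x.2)) = p.app d (F.map h x.1) + -(q.app d (G.map h x.2))
    rw [map_add, map_neg, p.nat, q.nat]

theorem coprodSub_eq_zero (p : QMod.Map F H) (q : QMod.Map G H) (c : Chart Y) (a : F.M c) (b : G.M c) :
    (p.coprodSub q).app c (a, b) = 0 ↔ p.app c a = q.app c b := by
  change p.app c a + -(q.app c b) = 0 ↔ _
  rw [← sub_eq_add_neg, sub_eq_zero]

end QMod.Map

/-- Two charts have a finite family of common refinements covering the first when the second covers. -/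
theorem exists_finite_cover [QuasiSeparatedSpace ↥S] (hY : IsAlgSpace Y) (hqs : IsQuasiSeparatedSp Y)
    (c u : Chart Y) (hu : RepWith @Surjective u.c) :
    ∃ (m : ℕ) (e : Fin m → Chart Y) (_ : ∀ p, Chart.Hom (e p) c) (_ : ∀ p, Chart.Hom (e p) u),
      ∀ (D : Chart Y) (_ : Chart.Hom D c) (w : D.W.left), ∃ (D' : Chart Y) (j : Chart.Hom D' D) (p : Fin m)
        (_ : Chart.Hom D' (e p)), w ∈ Set.range j.k.left := by
  obtain ⟨m, e, a, b, h⟩ := exists_pieces hY hqs c u
  refine ⟨m, e, a, b, fun D k w => ?_⟩
  obtain ⟨D₁, j₁, k₁, ⟨w₁, hw₁⟩⟩ := exists_refine_range D u w (surjective_ofPt hu _)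
  obtain ⟨D', j, p, q, ⟨w', hw'⟩, -, -⟩ := h D₁ k₁ (j₁.comp k) w₁
  refine ⟨D', j.comp j₁, p, q, w', ?_⟩
  change j₁.k.left (j.k.left w') = w
  rw [hw', hw₁]

/-- The range of a base change of an open immersion. -/
theorem range_of_isPullback {P X Z W : Scheme.{u}} {fst : P ⟶ X} {snd : P ⟶ Z} {f : X ⟶ W} {g : Z ⟶ W}
    [IsOpenImmersion f] (sq : IsPullback fst snd f g) : Set.range snd = g ⁻¹' Set.range f := by
  rw [← sq.isoPullback_hom_snd, Scheme.Hom.comp_base, TopCat.coe_comp, Set.range_comp,
    Set.range_eq_univ.2 (fun x => ⟨sq.isoPullback.inv x, by rw [← Scheme.Hom.comp_apply, Iso.inv_hom_id]; rfl⟩),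
    Set.image_univ]
  exact congrArg (fun U : Z.Opens => (U : Set Z)) (Scheme.Hom.opensRange_pullbackSnd (f := f) (g := g))

/-- A section of an etale separated morphism is a clopen immersion. -/
theorem isOpenImmersion_section {X T : Scheme.{u}} {f : T ⟶ X} [Etale f] {s : X ⟶ T} (h : s ≫ f = 𝟙 X) :
    IsOpenImmersion s := by
  haveI : Etale (s ≫ f) := by rw [h]; infer_instance
  haveI : Etale s := Etale.of_comp s f
  haveI : IsSplitMono s := IsSplitMono.mk' ⟨f, h⟩
  exact IsOpenImmersion.of_flat_of_mono s

end Groth.Agent.AlgSpQMod
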