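import Groth.Agent.AlgSpQMod.AffineGlue
import Groth.Agent.AlgSpQMod.Built

/-!
# Stages of an morphism given by stable finitely generated subalgebras
-/

set_option autoImplicit false
set_option backward.isDefEq.respectTransparency false
set_option backward.isDefEq.respectTransparency.types false
set_option maxHeartbeats 400000

universe u

open CategoryTheory CategoryTheory.Limits AlgebraicGeometry AlgSp Groth.Agent.AlgSpLib

namespace Groth.Agent.AlgSpQMod

variable {S : Scheme.{u}} {X Y : Sp S} (f : X ⟶ Y) (hf : RepWith (@QuasiCompact ⊓ @QuasiSeparated) f) (u : Chart Y)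

noncomputable instance (c : Chart Y) : Algebra c.R Γ((pre f hf c).left, ⊤) :=
  (preπ f hf c).left.appTop.hom.toAlgebra

/-- The spectrum of a subalgebra of functions on a chart. -/
noncomputable abbrev subSpec (A : Subalgebra u.R Γ((pre f hf u).left, ⊤)) : Over S :=
  Over.mk (Spec.map (CommRingCat.ofHom (algebraMap u.R A)) ≫ u.W.left.isoSpec.inv ≫ u.W.hom)

/-- Its projection to the chart. -/
noncomputable abbrev subπ (A : Subalgebra u.R Γ((pre f hf u).left, ⊤)) : subSpec f hf u A ⟶ u.W :=
  CategoryTheory.Over.homMk (Spec.map (CommRingCat.ofHom (algebraMap u.R A)) ≫ u.W.left.isoSpec.inv)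
    (Category.assoc _ _ _)

instance (A : Subalgebra u.R Γ((pre f hf u).left, ⊤)) : IsAffine (subSpec f hf u A).left :=
  inferInstanceAs (IsAffine (Spec _))

/-- The sections of a submodule as a set of functions. -/
abbrev subSet (N : Submodule u.R ((affMod f hf).M u)) : Set Γ((pre f hf u).left, ⊤) := SetLike.coe N

theorem preπ_left (A : Subalgebra u.R Γ((pre f hf u).left, ⊤)) :
    (pre f hf u).left.toSpecΓ ≫ Spec.map (CommRingCat.ofHom A.val.toRingHom) ≫
      Spec.map (CommRingCat.ofHom (algebraMap u.R A)) ≫ u.W.left.isoSpec.inv = (preπ f hf u).left := by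
  rw [← Spec.map_comp_assoc]
  have : CommRingCat.ofHom (algebraMap u.R A) ≫ CommRingCat.ofHom A.val.toRingHom =
      (preπ f hf u).left.appTop := rfl
  rw [this, ← Category.assoc, Iso.comp_inv_eq]
  exact (Scheme.toSpecΓ_naturality _).symm

/-- The map from the pullback of the source. -/
noncomputable def subg (A : Subalgebra u.R Γ((pre f hf u).left, ⊤)) : pre f hf u ⟶ subSpec f hf u A :=
  CategoryTheory.Over.homMk ((pre f hf u).left.toSpecΓ ≫ Spec.map (CommRingCat.ofHom A.val.toRingHom)) (by
    change _ ≫ Spec.map _ ≫ u.W.left.isoSpec.inv ≫ u.W.hom = _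
    simp only [Category.assoc]
    rw [← Over.w (preπ f hf u), ← preπ_left f hf u A]
    simp only [Category.assoc])

theorem subg_π (A : Subalgebra u.R Γ((pre f hf u).left, ⊤)) : subg f hf u A ≫ subπ f hf u A = preπ f hf u :=
  Over.OverMorphism.ext (by
    change (_ ≫ _) ≫ _ ≫ _ = _
    rw [Category.assoc]
    exact preπ_left f hf u A)

theorem subg_appTop (A : Subalgebra u.R Γ((pre f hf u).left, ⊤)) (z : Γ(Spec (.of A), ⊤)) :
    (subg f hf u A).left.appTop.hom z = (((Scheme.ΓSpecIso (.of A)).hom.hom z : A) : Γ((pre f hf u).left, ⊤)) := by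
  change ((pre f hf u).left.toSpecΓ ≫ Spec.map (CommRingCat.ofHom A.val.toRingHom)).appTop.hom z = _
  have h := congrArg (fun m : Γ(Spec (.of A), ⊤) ⟶ Γ((pre f hf u).left, ⊤) => m.hom z)
    (show (Spec.map (CommRingCat.ofHom A.val.toRingHom)).appTop ≫ (pre f hf u).left.toSpecΓ.appTop =
      (Scheme.ΓSpecIso (.of A)).hom ≫ CommRingCat.ofHom A.val.toRingHom by
      rw [Scheme.toSpecΓ_appTop]
      exact Scheme.ΓSpecIso_naturality _)
  exact h

theorem subg_injective (A : Subalgebra u.R Γ((pre f hf u).left, ⊤)) :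
    Function.Injective (subg f hf u A).left.appTop.hom := by
  intro x y h
  rw [subg_appTop, subg_appTop] at h
  exact (ConcreteCategory.bijective_of_isIso (Scheme.ΓSpecIso (.of A)).hom).1 (Subtype.val_injective h)

theorem isStable_adjoin (N : Submodule u.R ((affMod f hf).M u))
    (hN : ∀ (D : Chart Y) (s t : Chart.Hom D u), (affMod f hf).Span s N = (affMod f hf).Span t N) :
    IsStable (hf.rep.fst u.c) (preπ f hf u)
      (subg f hf u (Algebra.adjoin u.R (subSet f hf u N))) u.c := by
  intro T PT hT a b ha hb hab xa xb ρ sqa sqb hx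
  let D : Chart Y := ⟨T, hT, (yon S).map a ≫ u.c, repWith_comp ((repWith_yon_map_iff _ _).2 ha) u.et⟩
  let s : Chart.Hom D u := ⟨a, rfl⟩
  let t : Chart.Hom D u := ⟨b, hab.symm⟩
  obtain ⟨m, hm1, hm2⟩ : ∃ m : PT ⟶ pre f hf D,
      (yon S).map m ≫ hf.rep.fst D.c = (yon S).map xa ≫ hf.rep.fst u.c ∧ m ≫ preπ f hf D = ρ := by
    refine ⟨hf.rep.lift ((yon S).map xa ≫ hf.rep.fst u.c) ρ ?_, hf.rep.lift_fst _ _ _, hf.rep.lift_snd _ _ _⟩
    rw [Category.assoc, hf.rep.w, ← Functor.map_comp_assoc, sqa.w, Functor.map_comp, Category.assoc]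
  have exa : xa = m ≫ preMap f hf s := hf.rep.hom_ext
    (by rw [Functor.map_comp, Category.assoc, preMap_fst, hm1])
    (by rw [Category.assoc, preMap_snd, reassoc_of% hm2]; exact sqa.w)
  have exb : xb = m ≫ preMap f hf t := hf.rep.hom_ext
    (by rw [Functor.map_comp, Category.assoc, preMap_fst, hm1, hx])
    (by rw [Category.assoc, preMap_snd, reassoc_of% hm2]; exact sqb.w)
  set A := Algebra.adjoin u.R (subSet f hf u N) with hA
  intro z
  let K : Subring Γ((pre f hf D).left, ⊤) := Subring.closure (Set.range (preπ f hf D).left.appTop.hom ∪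
    (preMap f hf s).left.appTop.hom '' (A : Set Γ((pre f hf u).left, ⊤)))
  have hK : ∀ y ∈ A, (preMap f hf t).left.appTop.hom y ∈ K := fun y hy => by
    induction hy using Algebra.adjoin_induction with
    | mem y hy =>
      have h2 : (affMod f hf).map t y ∈ (affMod f hf).Span s N := hN D s t ▸ (affMod f hf).map_mem_span hy
      change (affMod f hf).map t y ∈ K
      generalize (affMod f hf).map t y = w at h2 ⊢
      induction h2 using Submodule.span_induction with
      | mem x hx =>
        obtain ⟨x, hx, rfl⟩ := hx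
        exact Subring.subset_closure (Or.inr ⟨x, Algebra.subset_adjoin hx, rfl⟩)
      | zero => exact K.zero_mem
      | add x y _ _ hx hy => exact K.add_mem hx hy
      | smul r x _ hx => exact K.mul_mem (Subring.subset_closure (Or.inl ⟨r, rfl⟩)) hx
    | algebraMap r =>
      refine Subring.subset_closure (Or.inl ⟨b.left.appTop.hom r, ?_⟩)
      exact (congrArg (fun m : pre f hf D ⟶ u.W => m.left.appTop.hom r) (preMap_snd f hf t)).symm
    | add x y _ _ hx hy => rw [map_add]; exact K.add_mem hx hy
    | mul x y _ _ hx hy => rw [map_mul]; exact K.mul_mem hx hy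
  have h2 : (m.left.appTop.hom ((preMap f hf t).left.appTop.hom ((subg f hf u A).left.appTop.hom z))) ∈
      K.map m.left.appTop.hom :=
    ⟨_, hK _ (by rw [subg_appTop]; exact ((Scheme.ΓSpecIso (.of A)).hom.hom z).2), rfl⟩
  suffices hle : K.map m.left.appTop.hom ≤ Subring.closure (Set.range ρ.left.appTop.hom ∪
      Set.range (xa ≫ subg f hf u A).left.appTop.hom) by
    rw [exb]
    simp only [Over.comp_left, Scheme.Hom.comp_appTop, CommRingCat.hom_comp, RingHom.comp_apply]
    exact hle h2
  rw [RingHom.map_closure, Subring.closure_le]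
  rintro _ ⟨x, ⟨r, rfl⟩ | ⟨y, hy, rfl⟩, rfl⟩
  · exact Subring.subset_closure (Or.inl ⟨r, by rw [← hm2]; rfl⟩)
  · refine Subring.subset_closure (Or.inr ⟨(Scheme.ΓSpecIso (.of A)).inv.hom ⟨y, hy⟩, ?_⟩)
    rw [exa]
    change m.left.appTop.hom ((preMap f hf s).left.appTop.hom ((subg f hf u A).left.appTop.hom _)) = _
    rw [subg_appTop, ← CommRingCat.comp_apply (Scheme.ΓSpecIso (.of A)).inv, Iso.inv_hom_id]
    rfl

/-- A stable submodule gives a factorization of an morphism. -/
theorem exists_sub_space (hX : IsAlgSpace X) (hY : IsAlgSpace Y) (hu : RepWith @Surjective u.c)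
    (N : Submodule u.R ((affMod f hf).M u))
    (hN : ∀ (D : Chart Y) (s t : Chart.Hom D u), (affMod f hf).Span s N = (affMod f hf).Span t N) :
    let A := Algebra.adjoin u.R (subSet f hf u N)
    ∃ (Z : Sp S) (ν : Z ⟶ Y) (m : (yon S).obj (subSpec f hf u A) ⟶ Z) (f' : X ⟶ Z), IsAlgSpace Z ∧
      IsPullback m ((yon S).map (subπ f hf u A)) ν u.c ∧ f' ≫ ν = f ∧
      hf.rep.fst u.c ≫ f' = (yon S).map (subg f hf u A) ≫ m ∧ RepWith @Etale m ∧ RepWith @Surjective m := by
  intro A
  exact exists_descend hX hY u.et hu (hf.rep.isPullback u.c) (subg_π f hf u A)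
    (dominates_of_injective (subg_π f hf u A) (subg_injective f hf u A))
    (hasTransport_of_isStable (subg_π f hf u A) (subg_injective f hf u A) (hf.rep.isPullback u.c) u.et
      (isStable_adjoin f hf u N hN))

end Groth.Agent.AlgSpQMod
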