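import Groth.Agent.AlgSpQMod.GlueFun
import Groth.Agent.AlgSpQMod.Sub
import Groth.Agent.AlgSpDec.ImmCover
import Groth.Agent.AlgSpLib.AffineDescProps

/-!
# Tools for modules on charts and spaces affine over a base
-/

set_option autoImplicit false
set_option backward.isDefEq.respectTransparency false
set_option backward.isDefEq.respectTransparency.types false
set_option maxHeartbeats 400000

universe v u

open CategoryTheory CategoryTheory.Limits AlgebraicGeometry AlgSp Groth.Agent.AlgSpLib TopologicalSpace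

namespace Groth.Agent.AlgSpQMod

variable {S : Scheme.{u}} {Y : Sp S}

/-- Near every point every chart maps to a covering chart. -/
theorem exists_refine_to [QuasiSeparatedSpace ↥S] (hY : IsAlgSpace Y) (hqs : IsQuasiSeparatedSp Y)
    {u : Chart Y} (hu : RepWith @Surjective u.c) (d : Chart Y) (w : d.W.left) :
    ∃ (D : Chart Y) (j : Chart.Hom D d) (_ : Chart.Hom D u), w ∈ Set.range j.k.left := by
  obtain ⟨m, e, a, b, hcov⟩ := exists_finite_cover hY hqs d u hu
  obtain ⟨D, j, p, q, hw⟩ := hcov d (Chart.Hom.id d) w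
  exact ⟨D, j, q.comp (b p), hw⟩

namespace QMod.Map

variable {F G : QMod.{u, v} Y} (p : QMod.Map F G)

theorem span_range {d c : Chart Y} (h : Chart.Hom d c) :
    G.Span h (LinearMap.range (p.app c)) = LinearMap.range (p.app d) := by
  rw [← Submodule.map_top, map_span', F.span_top, Submodule.map_top]

theorem span_ker {d c : Chart Y} (h : Chart.Hom d c) :
    F.Span h (LinearMap.ker (p.app c)) = LinearMap.ker (p.app d) := by
  have := p.map_span h ⊤
  rw [Submodule.map_top, Submodule.range_subtype] at this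
  rw [← this, show p.ker.Span h ⊤ = ⊤ from p.ker.span_top h, Submodule.map_top, Submodule.range_subtype]

variable [QuasiSeparatedSpace ↥S] (hY : IsAlgSpace Y) (hqs : IsQuasiSeparatedSp Y) {u : Chart Y}
  (hu : RepWith @Surjective u.c)

include hY hqs hu

theorem injective_of_chart (h : Function.Injective (p.app u)) (d : Chart Y) :
    Function.Injective (p.app d) := by
  rw [← LinearMap.ker_eq_bot, eq_bot_iff]
  intro x hx
  refine F.mem_of_local fun w => ?_
  obtain ⟨D, j, t, hw⟩ := exists_refine_to hY hqs hu d w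
  refine ⟨D, j, hw, ?_⟩
  have : F.map j x ∈ LinearMap.ker (p.app D) := p.map_mem j hx
  rw [← p.span_ker t, LinearMap.ker_eq_bot.2 h] at this
  exact (F.span_le.2 fun y hy => by
    rw [(Submodule.mem_bot _).1 hy, map_zero]; exact Submodule.zero_mem _) this

theorem range_le_of_chart (K : ∀ d : Chart Y, Submodule d.R (G.M d))
    (hK : ∀ {d c : Chart Y} (h : Chart.Hom d c), G.Span h (K c) = K d)
    (h : LinearMap.range (p.app u) ≤ K u) (d : Chart Y) : LinearMap.range (p.app d) ≤ K d := by
  refine G.le_of_local fun w => ?_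
  obtain ⟨D, j, t, hw⟩ := exists_refine_to hY hqs hu d w
  exact ⟨D, j, hw, by rw [p.span_range j, hK j, ← p.span_range t, ← hK t]; exact G.span_mono h⟩

end QMod.Map

section

variable {X X' X'' : Sp S} {f : X ⟶ Y} {f' : X' ⟶ Y} {f'' : X'' ⟶ Y}
  (hf : RepWith (@QuasiCompact ⊓ @QuasiSeparated) f) (hf' : RepWith (@QuasiCompact ⊓ @QuasiSeparated) f')
  (hf'' : RepWith (@QuasiCompact ⊓ @QuasiSeparated) f'')

theorem preFun_comp (w : X' ⟶ X) (hw : w ≫ f = f') (w' : X'' ⟶ X') (hw' : w' ≫ f' = f'') (w'' : X'' ⟶ X)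
    (hw'' : w'' ≫ f = f'') (h : w' ≫ w = w'') (c : Chart Y) :
    preFun hf' hf'' w' hw' c ≫ preFun hf hf' w hw c = preFun hf hf'' w'' hw'' c := by
  refine hf.rep.hom_ext ?_ ?_
  · rw [Functor.map_comp, Category.assoc, preFun_fst, preFun_fst, ← Category.assoc, preFun_fst, Category.assoc, h]
  · rw [Category.assoc, preFun_snd, preFun_snd, preFun_snd]

/-- Maps to a space over the base agree when they agree on functions over a covering chart. -/
theorem eq_of_preFun {T : Over S} {g : (yon S).obj T ⟶ Y} (hg : RepWith (@QuasiCompact ⊓ @QuasiSeparated) g)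
    {u : Chart Y} (hu : RepWith @Surjective u.c) [IsAffine (pre f hf u).left] (a b : (yon S).obj T ⟶ X)
    (ha : a ≫ f = g) (hb : b ≫ f = g)
    (h : ∀ x, (preFun hf hg a ha u).left.appTop.hom x = (preFun hf hg b hb u).left.appTop.hom x) : a = b := by
  have e : preFun hf hg a ha u = preFun hf hg b hb u :=
    Over.OverMorphism.ext (ext_of_isAffine (CommRingCat.hom_ext (RingHom.ext h)))
  haveI := etale_fst' hg u
  haveI : Surjective (hg.rep.fst' u.c).left :=
    hu.2 g ((yon S).map (preπ g hg u)) (hg.rep.fst' u.c) (by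
      rw [hg.rep.map_fst']; exact (hg.rep.isPullback u.c).flip)
  refine hom_ext_of_fppf (hg.rep.fst' u.c) ⟨⟨inferInstance, inferInstance⟩, inferInstance⟩ a b ?_
  rw [hg.rep.map_fst', ← preFun_fst hf hg a ha u, e, preFun_fst]

end

section

variable {X Z : Sp S} (f : X ⟶ Y) (hf : RepWith (@QuasiCompact ⊓ @QuasiSeparated) f) {u : Chart Y}
  (A : Subalgebra u.R Γ((pre f hf u).left, ⊤)) {ν : Z ⟶ Y} {m : (yon S).obj (subSpec f hf u A) ⟶ Z}

theorem lft_subπ (hA : A.FG) : LocallyOfFiniteType (subπ f hf u A).left := by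
  haveI : Algebra.FiniteType u.R A := Subalgebra.fg_iff_finiteType A |>.1 hA
  haveI : LocallyOfFiniteType (Spec.map (CommRingCat.ofHom (algebraMap u.R A))) :=
    (HasRingHomProperty.Spec_iff (P := @LocallyOfFiniteType)).2
      (RingHom.finiteType_algebraMap.2 inferInstance)
  exact inferInstanceAs (LocallyOfFiniteType (Spec.map (CommRingCat.ofHom (algebraMap u.R A)) ≫ u.W.left.isoSpec.inv))

variable (sq : IsPullback m ((yon S).map (subπ f hf u A)) ν u.c) (hu : RepWith @Surjective u.c)

include sq hu in
theorem repWith_isAffineHom_sub : RepWith @IsAffineHom ν :=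
  have := EtFound.fpqc_isAffineHom.{u}
  AlgSpDec.repWith_of_etale_cover le_rfl u.et hu sq ((repWith_yon_map_iff _ _).2 inferInstance)

include sq hu in
theorem repWith_ft_sub (hA : A.FG) : RepWith (@IsAffineHom ⊓ @LocallyOfFiniteType) ν := by
  have := EtFound.fpqc_isAffineHom.{u}
  haveI := lft_subπ f hf A hA
  exact AlgSpDec.repWith_of_etale_cover inf_le_left u.et hu sq
    ((repWith_yon_map_iff _ _).2 ⟨inferInstance, inferInstance⟩)

variable (hν : RepWith (@QuasiCompact ⊓ @QuasiSeparated) ν) (w : X ⟶ Z) (hw : w ≫ ν = f)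

include sq in
/-- Functions of the subspace on the chart are the subalgebra. -/
theorem range_preFun_sub (h : hf.rep.fst u.c ≫ w = (yon S).map (subg f hf u A) ≫ m) :
    Set.range (preFun hν hf w hw u).left.appTop.hom = (A : Set Γ((pre f hf u).left, ⊤)) ∧
      Function.Injective (preFun hν hf w hw u).left.appTop.hom := by
  obtain ⟨e, he1, he2⟩ : ∃ e : pre ν hν u ≅ subSpec f hf u A,
      (yon S).map e.hom ≫ m = hν.rep.fst u.c ∧ e.hom ≫ subπ f hf u A = preπ ν hν u := by
    refine ⟨(yon S).preimageIso ((hν.rep.isPullback u.c).isoIsPullback _ _ sq), ?_, (yon S).map_injective ?_⟩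
    · rw [Functor.preimageIso_hom, Functor.map_preimage]; exact IsPullback.isoIsPullback_hom_fst _ _ _ _
    · rw [Functor.map_comp, Functor.preimageIso_hom, Functor.map_preimage]
      exact IsPullback.isoIsPullback_hom_snd _ _ _ _
  have hc : preFun hν hf w hw u = subg f hf u A ≫ e.inv := by
    rw [Iso.eq_comp_inv]
    refine (yon S).map_injective (sq.hom_ext ?_ ?_)
    · rw [Functor.map_comp, Category.assoc, he1, preFun_fst, h]
    · rw [← Functor.map_comp, ← Functor.map_comp, Category.assoc, he2, preFun_snd, subg_π]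
  have hb : Function.Bijective e.inv.left.appTop.hom := by
    haveI : IsIso e.inv.left := inferInstanceAs (IsIso ((Over.forget S).map e.inv))
    exact ConcreteCategory.bijective_of_isIso e.inv.left.appTop
  have hx : ∀ x, (preFun hν hf w hw u).left.appTop.hom x =
      (subg f hf u A).left.appTop.hom (e.inv.left.appTop.hom x) := fun x => by rw [hc]; rfl
  have hg : Set.range (subg f hf u A).left.appTop.hom = (A : Set Γ((pre f hf u).left, ⊤)) := by
    ext y
    constructor
    · rintro ⟨z, rfl⟩
      rw [subg_appTop]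
      exact Subtype.prop _
    · intro hy
      refine ⟨(Scheme.ΓSpecIso (.of A)).inv.hom ⟨y, hy⟩, ?_⟩
      rw [subg_appTop, Iso.inv_hom_id_apply]
  constructor
  · rw [← hg, funext hx]
    exact hb.2.range_comp _
  · rw [funext hx]
    exact (subg_injective f hf u A).comp hb.1

end

end Groth.Agent.AlgSpQMod
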