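import Groth.Agent.AlgSpQMod.GlueFun
import Groth.Agent.AlgSpDec.LqfSplitZ
import Groth.Agent.AlgSpQMod.StepLemmas

/-!
# Extending a finitely presented thickening over one more separating chart
-/

set_option autoImplicit false
set_option backward.isDefEq.respectTransparency false
set_option backward.isDefEq.respectTransparency.types false
set_option maxHeartbeats 600000

universe u

open CategoryTheory CategoryTheory.Limits AlgebraicGeometry AlgSp Groth.Agent.AlgSpLib TopologicalSpace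

namespace Groth.Agent.AlgSpQMod

variable {S : Scheme.{u}} {Y : Sp S}

/-- The section of a chart in its fibre square is clopen and misses only points of the built set. -/
theorem exists_diag_compl {O : Set (Points Y)} (v : Chart Y) (hvq : RepWith (@QuasiCompact ⊓ @QuasiSeparated) v.c)
    (hv : ∀ (D : Chart Y) (k l : Chart.Hom D v) (w : D.W.left), Points.ofPt D.c w ∈ O ∨ AgreeAt k l w) :
    ∃ (δ : v.W ⟶ pre v.c hvq v) (_ : IsOpenImmersion δ.left) (T₀ : (pre v.c hvq v).left.Opens),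
      δ ≫ hvq.rep.fst' v.c = 𝟙 _ ∧ δ ≫ preπ v.c hvq v = 𝟙 _ ∧ IsCompl (Set.range δ.left) (T₀ : Set _) ∧
      ∀ z ∈ T₀, Points.ofPt v.c ((hvq.rep.fst' v.c).left z) ∈ O := by
  haveI := etale_fst' hvq v
  haveI : IsSeparated (preπ v.c hvq v).left := by
    have hR : IsPullback ((yon S).map (hvq.rep.fst' v.c)) ((yon S).map (preπ v.c hvq v)) v.c v.c :=
      hvq.rep.isPullback' v.c
    let p : pre v.c hvq v ⟶ pullback (CategoryTheory.Over.mkIdTerminal.from v.W) (CategoryTheory.Over.mkIdTerminal.from v.W) :=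
      pullback.lift (hvq.rep.fst' v.c) (preπ v.c hvq v) (CategoryTheory.Over.mkIdTerminal.hom_ext _ _)
    haveI : Mono p := ⟨fun {W} a b hab => by
      refine (yon S).map_injective (hR.hom_ext ?_ ?_)
      · rw [← Functor.map_comp, ← Functor.map_comp]
        refine congrArg (yon S).map ?_
        simpa [p] using congrArg (· ≫ pullback.fst _ _) hab
      · rw [← Functor.map_comp, ← Functor.map_comp]
        refine congrArg (yon S).map ?_
        simpa [p] using congrArg (· ≫ pullback.snd _ _) hab⟩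
    haveI : Mono p.left := (inferInstance : Mono ((Over.forget S).map p))
    haveI : IsSeparated v.W.hom := inferInstance
    haveI : IsSeparated (pullback.snd (CategoryTheory.Over.mkIdTerminal.from v.W)
        (CategoryTheory.Over.mkIdTerminal.from v.W)).left :=
      MorphismProperty.of_isPullback (P := @IsSeparated)
        ((IsPullback.of_hasPullback _ _).map (Over.forget S))
        (show IsSeparated (CategoryTheory.Over.mkIdTerminal.from v.W).left from
          haveI : IsSeparated ((CategoryTheory.Over.mkIdTerminal.from v.W).left ≫ (𝟙 S)) := by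
            rw [show (CategoryTheory.Over.mkIdTerminal.from v.W).left ≫ 𝟙 S = v.W.hom from
              Over.w (CategoryTheory.Over.mkIdTerminal.from v.W)]
            infer_instance
          IsSeparated.of_comp _ (𝟙 S))
    rw [show (preπ v.c hvq v) = p ≫ pullback.snd _ _ from (pullback.lift_snd _ _ _).symm, Over.comp_left]
    infer_instance
  obtain ⟨δ, hδ1, hδ2⟩ : ∃ δ : v.W ⟶ pre v.c hvq v,
      δ ≫ hvq.rep.fst' v.c = 𝟙 _ ∧ δ ≫ preπ v.c hvq v = 𝟙 _ :=
    ⟨hvq.rep.lift' (𝟙 _) (𝟙 _) rfl, hvq.rep.lift'_fst _ _ _, hvq.rep.lift'_snd _ _ _⟩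
  haveI ho : IsOpenImmersion δ.left := isOpenImmersion_section (congrArg Over.Hom.left hδ1)
  haveI : IsClosedImmersion δ.left := by
    haveI : IsClosedImmersion (δ.left ≫ (preπ v.c hvq v).left) := by
      rw [← Over.comp_left, hδ2]; exact inferInstanceAs (IsClosedImmersion (𝟙 v.W.left))
    exact IsClosedImmersion.of_comp δ.left (preπ v.c hvq v).left
  refine ⟨δ, ho, ⟨(Set.range δ.left)ᶜ, δ.left.isClosedEmbedding.isClosed_range.isOpen_compl⟩, hδ1, hδ2,
    isCompl_compl, fun z hz => ?_⟩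
  by_contra hzO
  obtain ⟨B, hB, hzB, -⟩ := exists_isAffineOpen_mem_and_subset
    (U := (⊤ : (pre v.c hvq v).left.Opens)) (x := z) trivial
  let o := opnι (pre v.c hvq v) B
  haveI : Etale (o ≫ hvq.rep.fst' v.c).left := inferInstanceAs (Etale (B.ι ≫ (hvq.rep.fst' v.c).left))
  let D : Chart Y := ⟨opn _ B, hB, (yon S).map (o ≫ hvq.rep.fst' v.c) ≫ v.c,
    repWith_comp ((repWith_yon_map_iff _ _).2 inferInstance) v.et⟩
  let k : Chart.Hom D v := ⟨o ≫ hvq.rep.fst' v.c, rfl⟩
  let l : Chart.Hom D v := ⟨o ≫ preπ v.c hvq v, by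
    change _ = (yon S).map (o ≫ hvq.rep.fst' v.c) ≫ v.c
    rw [Functor.map_comp, Functor.map_comp, Category.assoc, Category.assoc, (hvq.rep.isPullback' v.c).w]⟩
  rcases hv D k l ⟨z, hzB⟩ with h | ⟨D', j, ⟨w, hw⟩, hkl⟩
  · refine hzO ?_
    change Points.ofPt ((yon S).map (o ≫ hvq.rep.fst' v.c) ≫ v.c) _ ∈ O at h
    rwa [ofPt_comp] at h
  · have e := congrArg Chart.Hom.k hkl
    change j.k ≫ o ≫ hvq.rep.fst' v.c = j.k ≫ o ≫ preπ v.c hvq v at e
    have e2 : j.k ≫ o = (j.k ≫ o ≫ hvq.rep.fst' v.c) ≫ δ := hvq.rep.hom_ext'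
      (by simp only [Category.assoc, hδ1, Category.comp_id])
      (by simp only [Category.assoc, hδ2, Category.comp_id]; rw [e])
    refine hz ⟨(j.k ≫ o ≫ hvq.rep.fst' v.c).left w, ?_⟩
    have := congrArg (fun m : D'.W ⟶ pre v.c hvq v => m.left w) e2
    simp only [Over.comp_left, Scheme.Hom.comp_apply] at this ⊢
    rw [← this, hw]
    rfl

variable {Z : Sp S} (ν : Z ⟶ Y) (hν : RepWith (@QuasiCompact ⊓ @QuasiSeparated) ν)

/-- One step of the construction of finitely presented affine thickenings. -/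
theorem exists_step [QuasiSeparatedSpace ↥S] (hY : IsAlgSpace Y) (hqc : IsQuasiCompactSp Y)
    (hqs : IsQuasiSeparatedSp Y) (hZ : IsAlgSpace Z)
    (haff : RepWith @IsAffineHom ν) (hft : ∀ c : Chart Y, LocallyOfFiniteType (preπ ν hν c).left)
    {n : ℕ} (c : Fin n → Chart Y) (hc : ∀ i, LocallyOfFinitePresentation (preπ ν hν (c i)).left)
    (v : Chart Y)
    (hv : ∀ (D : Chart Y) (k l : Chart.Hom D v) (w : D.W.left),
      Points.ofPt D.c w ∈ (⋃ i, Set.range (Points.ofPt (c i).c)) ∨ AgreeAt k l w) :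
    ∃ (Z' : Sp S) (ν' : Z' ⟶ Y) (hν' : RepWith (@QuasiCompact ⊓ @QuasiSeparated) ν') (ψ : Z ⟶ Z'),
      IsAlgSpace Z' ∧ RepWith @IsAffineHom ν' ∧ (∀ d : Chart Y, LocallyOfFiniteType (preπ ν' hν' d).left) ∧
      ψ ≫ ν' = ν ∧ RepWith @IsClosedImmersion ψ ∧
      (∀ i, LocallyOfFinitePresentation (preπ ν' hν' (c i)).left) ∧
      LocallyOfFinitePresentation (preπ ν' hν' v).left := by
  classical
  obtain ⟨U₀, a₀, hU₀, ha₀, has₀⟩ := AlgSpDec.exists_affine_atlas hqc
  obtain ⟨u, hu⟩ : ∃ u : Chart Y, RepWith @Surjective u.c := ⟨⟨U₀, hU₀, a₀, ha₀⟩, has₀⟩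
  haveI haffν : ∀ d : Chart Y, IsAffineHom (preπ ν hν d).left := fun d => haff.2 d.c _ _ (hν.rep.isPullback d.c)
  haveI hBaff : ∀ d : Chart Y, IsAffine (pre ν hν d).left := fun d => isAffine_of_isAffineHom (preπ ν hν d).left
  -- generators of the functions of the pullback to the atlas
  obtain ⟨xs, hxs⟩ : ∃ xs : Finset Γ((pre ν hν u).left, ⊤),
      Subring.closure (Set.range (preπ ν hν u).left.appTop.hom ∪ (xs : Set _)) = ⊤ := by
    have h1 : (preπ ν hν u).left.appTop.hom.FiniteType :=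
      (HasRingHomProperty.iff_of_isAffine (P := @LocallyOfFiniteType)).1 (hft u)
    algebraize [(preπ ν hν u).left.appTop.hom]
    obtain ⟨s, hs⟩ := (‹Algebra.FiniteType u.R Γ((pre ν hν u).left, ⊤)›).out
    refine ⟨s, ?_⟩
    have := congrArg Subalgebra.toSubring hs
    rw [Algebra.adjoin_eq_ring_closure, Algebra.top_toSubring] at this
    exact this
  obtain ⟨ZV, hZV, πV, κ, hκπ, hκc, hπVa, hπVf, hiso, hlift⟩ :=
    exists_thickening ν hν hY hqs haff hft c hc v u xs
  let gv : (yon S).obj (pre ν hν v) ⟶ Y := (yon S).map (preπ ν hν v) ≫ v.c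
  let gV : (yon S).obj ZV ⟶ Y := (yon S).map πV ≫ v.c
  have hgv : RepWith (@QuasiCompact ⊓ @QuasiSeparated) gv := repWith_qcqs_yon hY hqs gv
  have hgV : RepWith (@QuasiCompact ⊓ @QuasiSeparated) gV := repWith_qcqs_yon hY hqs gV
  have hvq : RepWith (@QuasiCompact ⊓ @QuasiSeparated) v.c := repWith_qcqs_yon hY hqs v.c
  have hw : hν.rep.fst v.c ≫ ν = gv := hν.rep.w v.c
  have hκY : (yon S).map κ ≫ gV = gv := by
    change _ ≫ (yon S).map πV ≫ v.c = _
    rw [← Functor.map_comp_assoc, hκπ]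
  let kf := fun d => preFun hgV hgv ((yon S).map κ) hκY d
  let wf := fun d => preFun hν hgv (hν.rep.fst v.c) hw d
  let pV := fun d => preFun hvq hgV ((yon S).map πV) rfl d
  let pv := fun d => preFun hvq hgv ((yon S).map (preπ ν hν v)) rfl d
  have sqV : ∀ d, IsPullback (hgV.rep.fst' d.c) (pV d) πV (hvq.rep.fst' d.c) := fun d =>
    isPullback_preFun' hvq hgV πV rfl d
  have sqv : ∀ d, IsPullback (hgv.rep.fst' d.c) (pv d) (preπ ν hν v) (hvq.rep.fst' d.c) := fun d =>
    isPullback_preFun' hvq hgv (preπ ν hν v) rfl d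
  have hkx : ∀ d, kf d ≫ hgV.rep.fst' d.c = hgv.rep.fst' d.c ≫ κ := fun d =>
    (isPullback_preFun' hgV hgv κ hκY d).w.symm
  have hkp : ∀ d, kf d ≫ pV d = pv d := fun d => hvq.rep.hom_ext'
    (by rw [Category.assoc, ← (sqV d).w, ← (sqv d).w, reassoc_of% hkx d, hκπ])
    (by rw [Category.assoc, preFun_snd hvq hgV, preFun_snd hgV hgv]; exact (preFun_snd hvq hgv _ _ d).symm)
  -- the charts in the built set
  have hisoc : ∀ i, IsIso (kf (c i)).left := fun i => by
    refine hiso (hvq.rep.fst' (c i).c) (etale_fst' hvq (c i)) _ _ (sqV (c i)) _ _ (sqv (c i)) _ (hkx _) (hkp _)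
      fun x => ?_
    rw [ofPt_fst' hvq]
    exact Set.mem_iUnion.2 ⟨i, _, rfl⟩
  -- the diagonal piece
  obtain ⟨δ, hδo, T₀, hδ1, hδ2, hδc, hδO⟩ := exists_diag_compl v hvq hv
  obtain ⟨δV, hδV1, hδV2⟩ := (sqV v).exists_lift (𝟙 ZV) (πV ≫ δ)
    (by rw [Category.assoc, hδ1, Category.comp_id, Category.id_comp])
  obtain ⟨δP, hδP1, hδP2⟩ := (sqv v).exists_lift (𝟙 (pre ν hν v)) (preπ ν hν v ≫ δ)
    (by rw [Category.assoc, hδ1, Category.comp_id, Category.id_comp])
  have sqδV : IsPullback πV δV δ (pV v) := by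
    refine IsPullback.of_bot ?_ hδV2.symm (sqV v).flip
    rw [hδV1, hδ1]
    exact IsPullback.of_vert_isIso ⟨by simp⟩
  have sqδP : IsPullback (preπ ν hν v) δP δ (pv v) := by
    refine IsPullback.of_bot ?_ hδP2.symm (sqv v).flip
    rw [hδP1, hδ1]
    exact IsPullback.of_vert_isIso ⟨by simp⟩
  haveI : IsOpenImmersion δV.left :=
    MorphismProperty.of_isPullback (P := @IsOpenImmersion) (sqδV.map (Over.forget S)) hδo
  haveI : IsOpenImmersion δP.left :=
    MorphismProperty.of_isPullback (P := @IsOpenImmersion) (sqδP.map (Over.forget S)) hδo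
  have hδk : δP ≫ kf v = κ ≫ δV := (sqV v).hom_ext
    (by rw [Category.assoc, hkx, reassoc_of% hδP1, Category.assoc, hδV1, Category.comp_id])
    (by rw [Category.assoc, hkp, hδP2, Category.assoc, hδV2, reassoc_of% hκπ])
  have hδw : δP ≫ wf v = 𝟙 _ := hν.rep.hom_ext
    (by
      rw [Functor.map_comp, Category.assoc, preFun_fst, ← Category.assoc, CategoryTheory.Functor.map_id,
        Category.id_comp]
      have : (yon S).map δP ≫ hgv.rep.fst v.c = 𝟙 _ := by
        rw [← hgv.rep.map_fst', ← Functor.map_comp, hδP1, CategoryTheory.Functor.map_id]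
      rw [this, Category.id_comp])
    (by
      have e : pv v ≫ preπ v.c hvq v = preπ gv hgv v := preFun_snd _ _ _ _ _
      rw [Category.assoc, preFun_snd, ← e, reassoc_of% hδP2, hδ2, Category.comp_id, Category.id_comp])
  let OV := (pV v).left ⁻¹ᵁ T₀
  let OP := (pv v).left ⁻¹ᵁ T₀
  have hcomplV : IsCompl δV.left.opensRange OV.ι.opensRange := by
    have h := hδc.map (CompleteLatticeHom.setPreimage (pV v).left)
    simp only [CompleteLatticeHom.setPreimage_apply] at h
    haveI : IsOpenImmersion ((Over.forget S).map δ) := hδo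
    replace h : IsCompl (Set.range δV.left) ((pV v).left ⁻¹' (T₀ : Set _)) := by
      have e : Set.range δV.left = (pV v).left ⁻¹' Set.range δ.left :=
        range_of_isPullback (sqδV.map (Over.forget S))
      rw [e]; exact h
    rw [Scheme.Opens.opensRange_ι]
    simpa [isCompl_iff, disjoint_iff, codisjoint_iff, ← Opens.coe_inj, OV] using h
  have hcomplP : IsCompl δP.left.opensRange OP.ι.opensRange := by
    have h := hδc.map (CompleteLatticeHom.setPreimage (pv v).left)
    simp only [CompleteLatticeHom.setPreimage_apply] at h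
    haveI : IsOpenImmersion ((Over.forget S).map δ) := hδo
    replace h : IsCompl (Set.range δP.left) ((pv v).left ⁻¹' (T₀ : Set _)) := by
      have e : Set.range δP.left = (pv v).left ⁻¹' Set.range δ.left :=
        range_of_isPullback (sqδP.map (Over.forget S))
      rw [e]; exact h
    rw [Scheme.Opens.opensRange_ι]
    simpa [isCompl_iff, disjoint_iff, codisjoint_iff, ← Opens.coe_inj, OP] using h
  have hkOle : OP ≤ (kf v).left ⁻¹ᵁ OV := fun z hz => by
    change (pV v).left ((kf v).left z) ∈ T₀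
    rw [← Scheme.Hom.comp_apply, ← Over.comp_left, hkp]
    exact hz
  let kO : opn (pre gv hgv v) OP ⟶ opn (pre gV hgV v) OV :=
    CategoryTheory.Over.homMk ((kf v).left.resLE OV OP hkOle) (by
      change _ ≫ OV.ι ≫ (pre gV hgV v).hom = OP.ι ≫ _
      rw [Scheme.Hom.resLE_comp_ι_assoc, Over.w (kf v)])
  have hkO : kO ≫ opnι _ OV = opnι _ OP ≫ kf v := Over.OverMorphism.ext (Scheme.Hom.resLE_comp_ι _ _)
  haveI : IsIso kO.left := by
    let rV : opn (pre gV hgV v) OV ⟶ opn (pre v.c hvq v) T₀ :=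
      CategoryTheory.Over.homMk ((pV v).left ∣_ T₀) (by
        change _ ≫ T₀.ι ≫ (pre v.c hvq v).hom = _ ≫ (pre gV hgV v).hom
        rw [morphismRestrict_ι_assoc, Over.w (pV v)])
    let rP : opn (pre gv hgv v) OP ⟶ opn (pre v.c hvq v) T₀ :=
      CategoryTheory.Over.homMk ((pv v).left ∣_ T₀) (by
        change _ ≫ T₀.ι ≫ (pre v.c hvq v).hom = _ ≫ (pre gv hgv v).hom
        rw [morphismRestrict_ι_assoc, Over.w (pv v)])
    have hrV : IsPullback (opnι (pre gV hgV v) OV) rV (pV v) (opnι (pre v.c hvq v) T₀) :=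
      IsPullback.of_map (Over.forget S) (Over.OverMorphism.ext (morphismRestrict_ι _ _).symm)
        (isPullback_morphismRestrict (pV v).left T₀).flip
    have hrP : IsPullback (opnι (pre gv hgv v) OP) rP (pv v) (opnι (pre v.c hvq v) T₀) :=
      IsPullback.of_map (Over.forget S) (Over.OverMorphism.ext (morphismRestrict_ι _ _).symm)
        (isPullback_morphismRestrict (pv v).left T₀).flip
    haveI := etale_fst' hvq v
    refine hiso (opnι (pre v.c hvq v) T₀ ≫ hvq.rep.fst' v.c)
      (inferInstanceAs (Etale (T₀.ι ≫ (hvq.rep.fst' v.c).left))) _ _ (hrV.paste_horiz (sqV v)) _ _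
      (hrP.paste_horiz (sqv v)) kO (by rw [reassoc_of% hkO, hkx, Category.assoc]) ?_ fun x => hδO _ x.2
    apply Over.OverMorphism.ext
    change (kf v).left.resLE OV OP hkOle ≫ ((pV v).left ∣_ T₀) = ((pv v).left ∣_ T₀)
    rw [← cancel_mono T₀.ι, Category.assoc, morphismRestrict_ι, morphismRestrict_ι,
      Scheme.Hom.resLE_comp_ι_assoc]
    exact congrArg (OP.ι ≫ ·) (congrArg Over.Hom.left (hkp v))
  haveI : IsIso kO.left.appTop := inferInstance
  have hkObij : Function.Bijective kO.left.appTop.hom := ConcreteCategory.bijective_of_isIso kO.left.appTop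
  -- compatible pairs
  let p := (pullFun hgV hgv ((yon S).map κ) hκY).coprodSub (pullFun hν hgv (hν.rep.fst v.c) hw)
  have hp : ∀ d a b, p.app d (a, b) = 0 ↔ (kf d).left.appTop.hom a = (wf d).left.appTop.hom b :=
    fun d a b => QMod.Map.coprodSub_eq_zero _ _ d a b
  -- over the diagonal the first coordinate is arbitrary
  have hdiag : ∀ α : Γ(ZV.left, ⊤), ∃ g : ((affMod gV hgV).prod (affMod ν hν)).M v,
      p.app v g = 0 ∧ δV.left.appTop.hom g.1 = α := by
    intro α
    let b := κ.left.appTop.hom α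
    obtain ⟨β, hβ⟩ := hkObij.2 (OP.ι.appTop.hom ((wf v).left.appTop.hom b))
    obtain ⟨a, ha1, ha2⟩ := exists_fun_of_isCompl δV.left OV.ι hcomplV α β
    refine ⟨(a, b), (hp v a b).2 (fun_ext_of_isCompl δP.left OP.ι hcomplP ?_ ?_), ha1⟩
    · refine (congrArg (fun m : pre ν hν v ⟶ pre gV hgV v => m.left.appTop.hom a) hδk).trans ?_
      refine Eq.trans ?_ (congrArg (fun m : pre ν hν v ⟶ pre ν hν v => m.left.appTop.hom b) hδw).symm
      change κ.left.appTop.hom (δV.left.appTop.hom a) = _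
      rw [ha1]
      simp [b]
    · refine (congrArg (fun m : opn (pre gv hgv v) OP ⟶ pre gV hgV v => m.left.appTop.hom a) hkO).symm.trans ?_
      change kO.left.appTop.hom (OV.ι.appTop.hom a) = _
      rw [ha2, hβ]
  have hdiag0 : ∀ a b, p.app v (a, b) = 0 → δV.left.appTop.hom a = 0 → a = 0 ∧ b = 0 := by
    intro a b hab ha
    rw [hp] at hab
    have hb : b = 0 := by
      calc b = δP.left.appTop.hom ((wf v).left.appTop.hom b) :=
            (congrArg (fun m : pre ν hν v ⟶ pre ν hν v => m.left.appTop.hom b) hδw).symm.trans rfl |>.trans rfl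
        _ = δP.left.appTop.hom ((kf v).left.appTop.hom a) := by rw [hab]
        _ = κ.left.appTop.hom (δV.left.appTop.hom a) :=
            congrArg (fun m : pre ν hν v ⟶ pre gV hgV v => m.left.appTop.hom a) hδk
        _ = 0 := by rw [ha, map_zero]
    refine ⟨fun_ext_of_isCompl δV.left OV.ι hcomplV (by rw [ha, map_zero]) (hkObij.1 ?_), hb⟩
    refine (congrArg (fun m : opn (pre gv hgv v) OP ⟶ pre gV hgV v => m.left.appTop.hom a) hkO).trans ?_
    change OP.ι.appTop.hom ((kf v).left.appTop.hom a) = _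
    rw [hab, hb]
    simp only [map_zero]
  -- the covering of the glued space
  let gu : (yon S).obj (pre ν hν u) ⟶ Y := (yon S).map (preπ ν hν u) ≫ u.c
  have hgu : RepWith (@QuasiCompact ⊓ @QuasiSeparated) gu := repWith_qcqs_yon hY hqs gu
  have hq : hν.rep.fst u.c ≫ ν = gu := hν.rep.w u.c
  let T2 : ULift.{u} Bool → Over S := fun b => bif b.down then ZV else pre ν hν u
  haveI : ∀ b, IsAffine (T2 b).left := fun b => by
    rcases b with ⟨_ | _⟩
    · exact hBaff u
    · exact hZV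
  let X2 := AlgSpDec.sigmaOver T2
  haveI : IsAffine X2.left := inferInstanceAs (IsAffine (∐ fun i => (T2 i).left))
  let jA : ZV ⟶ X2 := AlgSpDec.sigmaι T2 ⟨true⟩
  let jB : pre ν hν u ⟶ X2 := AlgSpDec.sigmaι T2 ⟨false⟩
  haveI : IsOpenImmersion jA.left := inferInstanceAs (IsOpenImmersion (AlgSpDec.sigmaι T2 ⟨true⟩).left)
  haveI : IsOpenImmersion jB.left := inferInstanceAs (IsOpenImmersion (AlgSpDec.sigmaι T2 ⟨false⟩).left)
  obtain ⟨g2, eA, eB⟩ : ∃ g2 : (yon S).obj X2 ⟶ Y, (yon S).map jA ≫ g2 = gV ∧ (yon S).map jB ≫ g2 = gu := by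
    obtain ⟨G, hG⟩ := AlgSpDec.exists_hom_sigma T2 (F := Y)
      (fun b => match b with | ⟨true⟩ => gV | ⟨false⟩ => gu)
    exact ⟨G, hG ⟨true⟩, hG ⟨false⟩⟩
  have hg2 : RepWith (@QuasiCompact ⊓ @QuasiSeparated) g2 := repWith_qcqs_yon hY hqs g2
  have hcompl : IsCompl (Set.range jA.left) (Set.range jB.left) := by
    refine ⟨Set.disjoint_left.2 ?_, codisjoint_iff.2 (Set.eq_univ_of_forall fun w => ?_)⟩
    · rintro w ⟨x, rfl⟩ ⟨y, hy⟩
      have h := AlgSpDec.sigmaι_injective T2 (i := ⟨false⟩) (j := ⟨true⟩) hy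
      simp at h
    · obtain ⟨⟨_ | _⟩, x, rfl⟩ := AlgSpDec.exists_sigmaι T2 w
      · exact Or.inr ⟨x, rfl⟩
      · exact Or.inl ⟨x, rfl⟩
  let Φ := pairFun hgV hg2 hgu jA jB eA eB hcompl (hν.rep.fst u.c) hq (hν := hν)
  let jAf := fun d => preFun hg2 hgV ((yon S).map jA) eA d
  let jBf := fun d => preFun hg2 hgu ((yon S).map jB) eB d
  let qf := fun d => preFun hν hgu (hν.rep.fst u.c) hq d
  have hΦ1 : ∀ d a b, (jAf d).left.appTop.hom (Φ.app d (a, b)) = a := fun d a b =>
    pairFun_fst hgV hg2 hgu jA jB eA eB hcompl (hν.rep.fst u.c) hq d (a, b)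
  have hΦ2 : ∀ d a b, (jBf d).left.appTop.hom (Φ.app d (a, b)) = (qf d).left.appTop.hom b := fun d a b =>
    pairFun_snd hgV hg2 hgu jA jB eA eB hcompl (hν.rep.fst u.c) hq d (a, b)
  -- the sections to be generated
  choose a₀ ha₀' using hlift gv hgv gV hgV hw hκY rfl
  obtain ⟨sV, hsV⟩ : ∃ sV : Finset Γ(ZV.left, ⊤),
      Subring.closure (Set.range πV.left.appTop.hom ∪ (sV : Set _)) = ⊤ := by
    haveI := hπVf
    have h1 : πV.left.appTop.hom.FiniteType :=
      (HasRingHomProperty.iff_of_isAffine (P := @LocallyOfFiniteType)).1 inferInstance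
    algebraize [πV.left.appTop.hom]
    obtain ⟨s, hs⟩ := (‹Algebra.FiniteType v.R Γ(ZV.left, ⊤)›).out
    refine ⟨s, ?_⟩
    have := congrArg Subalgebra.toSubring hs
    rw [Algebra.adjoin_eq_ring_closure, Algebra.top_toSubring] at this
    exact this
  choose gα hgα0 hgα using hdiag
  obtain ⟨m, e, ea, eb, hcov⟩ := exists_pieces hY hqs v u
  choose Tα hTα using fun (l : Fin m) (α : Γ(ZV.left, ⊤)) =>
    p.ker.exists_finset_span (eb l)
      (⟨((affMod gV hgV).prod (affMod ν hν)).map (ea l) (gα α), p.map_mem (ea l) (hgα0 α)⟩ : LinearMap.ker _)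
  let T : Finset (((affMod gV hgV).prod (affMod ν hν)).M u) :=
    xs.attach.image (fun x => (a₀ x.1 x.2, x.1)) ∪
      (sV.biUnion fun α => Finset.univ.biUnion fun l => (Tα l α).image Subtype.val)
  obtain ⟨N, hNfg, hNker, hTN, hNstab⟩ := p.exists_fg_stable hY hqc hqs u T (by
    intro x hx
    rcases Finset.mem_union.1 hx with hx | hx
    · obtain ⟨x, -, rfl⟩ := Finset.mem_image.1 hx
      exact (hp u _ _).2 (ha₀' x.1 x.2)
    · obtain ⟨α, -, hx⟩ := Finset.mem_biUnion.1 hx
      obtain ⟨l, -, hx⟩ := Finset.mem_biUnion.1 hx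
      obtain ⟨x, -, rfl⟩ := Finset.mem_image.1 hx
      exact x.2)
  -- the space
  let NΦ : Submodule u.R ((affMod g2 hg2).M u) := N.map (Φ.app u)
  have hNΦ : ∀ (D : Chart Y) (s t : Chart.Hom D u), (affMod g2 hg2).Span s NΦ = (affMod g2 hg2).Span t NΦ :=
    fun D s t => by rw [QMod.Map.map_span', QMod.Map.map_span', hNstab D s t]
  obtain ⟨Z', ν', mN, f', hZ', sqZ, hf', hf'2, hme, hms⟩ :=
    exists_sub_space g2 hg2 u (IsAlgSpace.yon_obj X2) hY hu NΦ hNΦ
  let A := Algebra.adjoin u.R (subSet g2 hg2 u NΦ)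
  have hAfg : A.FG := by
    obtain ⟨s, hs⟩ := Submodule.FG.map (Φ.app u) hNfg
    refine ⟨(s : Finset Γ((pre g2 hg2 u).left, ⊤)), le_antisymm (Algebra.adjoin_le fun x hx => ?_) (Algebra.adjoin_le ?_)⟩
    · exact Algebra.subset_adjoin (show x ∈ NΦ from hs.le (Submodule.subset_span hx))
    · intro x hx
      have hx' : x ∈ Submodule.span u.R (s : Set ((affMod g2 hg2).M u)) := by rw [hs]; exact hx
      exact Algebra.span_le_adjoin _ _ hx'
  have haff' : RepWith @IsAffineHom ν' := repWith_isAffineHom_sub g2 hg2 A sqZ hu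
  have hν' : RepWith (@QuasiCompact ⊓ @QuasiSeparated) ν' := repWith_mono (fun _ _ h hh => by
    haveI : IsAffineHom h := hh
    exact ⟨inferInstanceAs (QuasiCompact h), inferInstanceAs (QuasiSeparated h)⟩) _ haff'
  have hft' : ∀ d : Chart Y, LocallyOfFiniteType (preπ ν' hν' d).left := fun d =>
    ((repWith_ft_sub g2 hg2 A sqZ hu hAfg).2 d.c _ _ (hν'.rep.isPullback d.c)).2
  haveI haffp : ∀ d : Chart Y, IsAffine (pre ν' hν' d).left := fun d =>
    haveI : IsAffineHom (preπ ν' hν' d).left := haff'.2 d.c _ _ (hν'.rep.isPullback d.c)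
    isAffine_of_isAffineHom (preπ ν' hν' d).left
  let θ := fun d => preFun hν' hg2 f' hf' d
  obtain ⟨hθA, hθu⟩ := range_preFun_sub g2 hg2 A sqZ hν' f' hf' hf'2
  have hθinj : ∀ d, Function.Injective (θ d).left.appTop.hom := fun d =>
    (pullFun hν' hg2 f' hf').injective_of_chart hY hqs hu hθu d
  -- functions of the new space are compatible pairs
  let K : ∀ d : Chart Y, Submodule d.R ((affMod g2 hg2).M d) := fun d => (LinearMap.ker (p.app d)).map (Φ.app d)
  have hθK : ∀ d (z : Γ((pre ν' hν' d).left, ⊤)), ∃ a b,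
      (kf d).left.appTop.hom a = (wf d).left.appTop.hom b ∧ (θ d).left.appTop.hom z = Φ.app d (a, b) := by
    intro d z
    have hle := (pullFun hν' hg2 f' hf').range_le_of_chart hY hqs hu K
      (fun {d c} h => by rw [QMod.Map.map_span', p.span_ker h]) ?_ d ⟨z, rfl⟩
    · obtain ⟨⟨a, b⟩, hab, e⟩ := hle
      exact ⟨a, b, (hp d a b).1 hab, e.symm⟩
    rintro _ ⟨z, rfl⟩
    have hz : (θ u).left.appTop.hom z ∈ (A : Set Γ((pre g2 hg2 u).left, ⊤)) := hθA ▸ ⟨z, rfl⟩
    suffices H : ∀ y : Γ((pre g2 hg2 u).left, ⊤), y ∈ A → ∃ a b,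
        (kf u).left.appTop.hom a = (wf u).left.appTop.hom b ∧ Φ.app u (a, b) = y by
      obtain ⟨a, b, hab, e⟩ := H _ hz
      exact ⟨(a, b), (hp u a b).2 hab, e⟩
    intro y hy
    induction hy using Algebra.adjoin_induction with
    | mem y hy =>
      obtain ⟨⟨a, b⟩, hab, rfl⟩ := hy
      exact ⟨a, b, (hp u a b).1 (hNker hab), rfl⟩
    | algebraMap r =>
      refine ⟨(preπ gV hgV u).left.appTop.hom r, (preπ ν hν u).left.appTop.hom r, ?_, ?_⟩
      · exact (congrArg (fun m : pre gv hgv u ⟶ u.W => m.left.appTop.hom r)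
          (preFun_snd hgV hgv _ hκY u)).trans
          (congrArg (fun m : pre gv hgv u ⟶ u.W => m.left.appTop.hom r) (preFun_snd hν hgv _ hw u)).symm
      · refine glue_fun_ext hgV hg2 hgu jA jB eA eB hcompl u ?_ ?_
        · rw [hΦ1]
          exact (congrArg (fun m : pre gV hgV u ⟶ u.W => m.left.appTop.hom r)
            (preFun_snd hg2 hgV _ eA u)).symm
        · rw [hΦ2]
          exact (congrArg (fun m : pre gu hgu u ⟶ u.W => m.left.appTop.hom r)
            ((preFun_snd hν hgu _ hq u).trans (preFun_snd hg2 hgu _ eB u).symm))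
    | add y₁ y₂ _ _ h₁ h₂ =>
      obtain ⟨a₁, b₁, hab₁, rfl⟩ := h₁
      obtain ⟨a₂, b₂, hab₂, rfl⟩ := h₂
      refine ⟨a₁ + a₂, b₁ + b₂, by rw [map_add, map_add, hab₁, hab₂], ?_⟩
      exact map_add (Φ.app u) (a₁, b₁) (a₂, b₂)
    | mul y₁ y₂ _ _ h₁ h₂ =>
      obtain ⟨a₁, b₁, hab₁, rfl⟩ := h₁
      obtain ⟨a₂, b₂, hab₂, rfl⟩ := h₂
      refine ⟨a₁ * a₂, b₁ * b₂, by rw [map_mul, map_mul, hab₁, hab₂], ?_⟩
      refine glue_fun_ext hgV hg2 hgu jA jB eA eB hcompl u ?_ ?_
      · rw [hΦ1, map_mul, hΦ1, hΦ1]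
      · rw [hΦ2, map_mul, map_mul, hΦ2, hΦ2]
  -- the factorisation
  let fB : (yon S).obj (pre ν hν u) ⟶ Z' := (yon S).map jB ≫ f'
  have hfBν : fB ≫ ν' = gu := by rw [Category.assoc, hf', eB]
  have hfB : ∀ d z a b, (θ d).left.appTop.hom z = Φ.app d (a, b) →
      (preFun hν' hgu fB hfBν d).left.appTop.hom z = (qf d).left.appTop.hom b := fun d z a b h => by
    rw [← preFun_comp hν' hg2 hgu f' hf' _ eB fB hfBν rfl d, ← hΦ2 d a b, ← h]
    rfl
  have hqZ : RepWith (@QuasiCompact ⊓ @QuasiSeparated) (hν.rep.fst u.c) :=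
    repWith_of_isPullback (hν.rep.isPullback u.c).flip (repWith_qcqs_yon hY hqs u.c)
  have hqe : RepWith @Etale (hν.rep.fst u.c) := repWith_of_isPullback (hν.rep.isPullback u.c).flip u.et
  have hqs' : RepWith @Surjective (hν.rep.fst u.c) := repWith_of_isPullback (hν.rep.isPullback u.c).flip hu
  have hqq : RepWith @QuasiCompact (hν.rep.fst u.c) := repWith_mono (fun _ _ _ h => h.1) _ hqZ
  haveI : Sheaf.IsLocallySurjective (hν.rep.fst u.c) := isLocallySurjective_of_etale_surjective hqe hqs'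
  obtain ⟨ψ, hψ⟩ : ∃ ψ, hν.rep.fst u.c ≫ ψ = fB := by
    let R := hqZ.rep.pullback (hν.rep.fst u.c)
    let t := hqZ.rep.fst' (hν.rep.fst u.c)
    let s := hqZ.rep.snd (hν.rep.fst u.c)
    have sqR : IsPullback ((yon S).map t) ((yon S).map s) (hν.rep.fst u.c) (hν.rep.fst u.c) :=
      hqZ.rep.isPullback' _
    have hs : QuasiCompact s.left ∧ QuasiSeparated s.left := hqZ.property_snd _
    haveI := hs.1
    haveI := hs.2
    haveI : CompactSpace R.left := QuasiCompact.compactSpace_of_compactSpace s.left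
    haveI : QuasiSeparatedSpace R.left := quasiSeparatedSpace_of_quasiSeparated s.left
    let gR := (yon S).map t ≫ gu
    have hgR : RepWith (@QuasiCompact ⊓ @QuasiSeparated) gR := repWith_qcqs_yon hY hqs gR
    have hsR : (yon S).map s ≫ gu = gR := by
      simp only [gR]; rw [← hq, reassoc_of% sqR.w]
    refine AlgSpDec.exists_desc_of_kernelPair sqR fB (eq_of_preFun hν' hgR hu _ _
      (by rw [Category.assoc, hfBν]) (by rw [Category.assoc, hfBν, hsR]) fun z => ?_)
    obtain ⟨a, b, -, hz⟩ := hθK u z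
    rw [← preFun_comp hν' hgu hgR fB hfBν ((yon S).map t) rfl _ (by rw [Category.assoc, hfBν]) rfl u,
      ← preFun_comp hν' hgu hgR fB hfBν ((yon S).map s) hsR _ (by rw [Category.assoc, hfBν, hsR]) rfl u]
    refine (congrArg (preFun hgu hgR ((yon S).map t) rfl u).left.appTop.hom (hfB u z a b hz)).trans
      (Eq.trans ?_ (congrArg (preFun hgu hgR ((yon S).map s) hsR u).left.appTop.hom (hfB u z a b hz)).symm)
    exact congrArg (fun m : pre gR hgR u ⟶ pre ν hν u => m.left.appTop.hom b)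
      ((preFun_comp hν hgu hgR _ hq _ rfl ((yon S).map t ≫ hν.rep.fst u.c) (by rw [Category.assoc, hq]) rfl u).trans
        (preFun_comp hν hgu hgR _ hq _ hsR _ (by rw [Category.assoc, hq]) sqR.w.symm u).symm)
  have hψν : ψ ≫ ν' = ν := by
    haveI : Epi (hν.rep.fst u.c) := (Sheaf.isLocallySurjective_iff_epi _).1 inferInstance
    rw [← cancel_epi (hν.rep.fst u.c), reassoc_of% hψ, hfBν, hq]
  let ψf := fun d => preFun hν' hν ψ hψν d
  have hψf : ∀ d z a b, (θ d).left.appTop.hom z = Φ.app d (a, b) → (ψf d).left.appTop.hom z = b := by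
    intro d z a b hz
    obtain ⟨h1, h2, h3⟩ := preFun_cover hgu (hν := hν) (hν.rep.fst u.c) hq hqe hqs' hqq d
    haveI := h1
    haveI := h2
    haveI := h3
    refine fun_ext_of_cover (qf d).left ?_
    rw [← hfB d z a b hz, ← preFun_comp hν' hν hgu ψ hψν _ hq fB hfBν hψ d]
    rfl
  -- the factorisation is a closed immersion
  have hψsurj : Function.Surjective (ψf u).left.appTop.hom := by
    rw [← RingHom.range_eq_top, eq_top_iff, ← hxs, Subring.closure_le]
    rintro y (⟨r, rfl⟩ | hy)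
    · exact ⟨(preπ ν' hν' u).left.appTop.hom r,
        congrArg (fun m : pre ν hν u ⟶ u.W => m.left.appTop.hom r) (preFun_snd hν' hν _ hψν u)⟩
    · have hmem : (Φ.app u (a₀ y hy, y) : Γ((pre g2 hg2 u).left, ⊤)) ∈ (A : Set Γ((pre g2 hg2 u).left, ⊤)) :=
        Algebra.subset_adjoin (R := u.R) (A := Γ((pre g2 hg2 u).left, ⊤)) (s := subSet g2 hg2 u NΦ) ⟨_, hTN (Finset.mem_union_left _
          (Finset.mem_image.2 ⟨⟨y, hy⟩, Finset.mem_attach _ _, rfl⟩)), rfl⟩
      rw [← hθA] at hmem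
      obtain ⟨z, hz⟩ := hmem
      exact ⟨z, hψf u z _ _ hz⟩
  have hψc : RepWith @IsClosedImmersion ψ := by
    haveI : IsClosedImmersion (ψf u).left := IsClosedImmersion.of_surjective_of_isAffine (ψf u).left hψsurj
    exact AlgSpDec.repWith_isClosedImmersion_of_etale_cover
      (repWith_of_isPullback (hν'.rep.isPullback u.c).flip u.et)
      (repWith_of_isPullback (hν'.rep.isPullback u.c).flip hu) (isPullback_preFun hν' hν ψ hψν u)
      ((repWith_yon_map_iff _ _).2 inferInstance)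
  refine ⟨Z', ν', hν', ψ, hZ', haff', hft', hψν, hψc, fun i => ?_, ?_⟩
  · -- the charts of the built set
    haveI : IsClosedImmersion (ψf (c i)).left := hψc.2 _ _ _ (isPullback_preFun hν' hν ψ hψν (c i))
    haveI := hisoc i
    have hinj : Function.Injective (ψf (c i)).left.appTop.hom := by
      intro z₁ z₂ h
      obtain ⟨a₁, b₁, hab₁, hz₁⟩ := hθK (c i) z₁
      obtain ⟨a₂, b₂, hab₂, hz₂⟩ := hθK (c i) z₂
      rw [hψf _ _ _ _ hz₁, hψf _ _ _ _ hz₂] at h
      subst h
      obtain rfl : a₁ = a₂ :=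
        (ConcreteCategory.bijective_of_isIso (kf (c i)).left.appTop).1 (hab₁.trans hab₂.symm)
      exact hθinj _ (hz₁.trans hz₂.symm)
    haveI : IsIso (ψf (c i)).left := isIso_of_bijective_appTop _
      ⟨hinj, (IsClosedImmersion.isAffine_surjective_of_isAffine (f := (ψf (c i)).left)).2⟩
    haveI := hc i
    rw [show (preπ ν' hν' (c i)).left = inv (ψf (c i)).left ≫ (preπ ν hν (c i)).left from by
      rw [IsIso.eq_inv_comp, ← Over.comp_left, preFun_snd]]
    infer_instance
  · -- the new chart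
    let μ : ZV ⟶ pre ν' hν' v := δV ≫ jAf v ≫ θ v
    have hμπ : μ ≫ preπ ν' hν' v = πV := by
      have e : pV v ≫ preπ v.c hvq v = preπ gV hgV v := preFun_snd _ _ _ _ _
      simp only [μ, θ, jAf, Category.assoc, preFun_snd]
      rw [← e, reassoc_of% hδV2, hδ2, Category.comp_id]
    have hμ : ∀ z a b, (θ v).left.appTop.hom z = Φ.app v (a, b) →
        μ.left.appTop.hom z = δV.left.appTop.hom a := fun z a b hz => by
      rw [← hΦ1 v a b, ← hz]; rfl
    have hμinj : Function.Injective μ.left.appTop.hom := by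
      rw [injective_iff_map_eq_zero]
      intro z hz
      obtain ⟨a, b, hab, hzab⟩ := hθK v z
      rw [hμ z a b hzab] at hz
      obtain ⟨rfl, rfl⟩ := hdiag0 a b ((hp v a b).2 hab) hz
      exact hθinj v (hzab.trans ((map_zero (Φ.app v)).trans (map_zero _).symm))
    have hrange : ∀ α ∈ sV, ∃ z, (θ v).left.appTop.hom z = Φ.app v (gα α) := by
      intro α hα
      have hNu : NΦ ≤ LinearMap.range ((pullFun hν' hg2 f' hf').app u) := by
        intro y hy
        have : (y : Γ((pre g2 hg2 u).left, ⊤)) ∈ (A : Set Γ((pre g2 hg2 u).left, ⊤)) := Algebra.subset_adjoin (R := u.R) (A := Γ((pre g2 hg2 u).left, ⊤)) (s := subSet g2 hg2 u NΦ) hy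
        rw [← hθA] at this
        exact this
      have hpiece : ∀ l, (affMod g2 hg2).map (ea l) (Φ.app v (gα α)) ∈
          LinearMap.range ((pullFun hν' hg2 f' hf').app (e l)) := fun l => by
        rw [Φ.nat, ← (pullFun hν' hg2 f' hf').span_range (eb l)]
        refine QMod.span_mono _ hNu ?_
        rw [QMod.Map.map_span']
        refine Submodule.mem_map_of_mem ?_
        have h := Submodule.mem_map_of_mem (f := (LinearMap.ker (p.app (e l))).subtype) (hTα l α)
        rw [p.map_span] at h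
        refine QMod.span_mono _ ?_ h
        rw [Submodule.map_span, Submodule.span_le]
        rintro _ ⟨x, hx, rfl⟩
        exact hTN (Finset.mem_union_right _ (Finset.mem_biUnion.2 ⟨α, hα, Finset.mem_biUnion.2
          ⟨l, Finset.mem_univ _, Finset.mem_image.2 ⟨x, hx, rfl⟩⟩⟩))
      have hmem : Φ.app v (gα α) ∈ LinearMap.range ((pullFun hν' hg2 f' hf').app v) := by
        refine (affMod g2 hg2).mem_of_local fun w => ?_
        obtain ⟨D, j, t, z, rfl⟩ := exists_refine_to hY hqs hu v w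
        obtain ⟨D', j', l, q, ⟨z', rfl⟩, hqa, hqb⟩ := hcov D t j z
        refine ⟨D', j'.comp j, ⟨z', rfl⟩, ?_⟩
        rw [← hqa, (affMod g2 hg2).map_comp, QMod.Map.span_range,
          ← (pullFun hν' hg2 f' hf').span_range q]
        exact (affMod g2 hg2).map_mem_span (hpiece l)
      exact hmem
    have hμsurj : Function.Surjective μ.left.appTop.hom := by
      rw [← RingHom.range_eq_top, eq_top_iff, ← hsV, Subring.closure_le]
      rintro y (⟨r, rfl⟩ | hy)
      · exact ⟨(preπ ν' hν' v).left.appTop.hom r,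
          congrArg (fun m : ZV ⟶ v.W => m.left.appTop.hom r) hμπ⟩
      · obtain ⟨z, hz⟩ := hrange y hy
        exact ⟨z, (hμ z _ _ hz).trans (hgα y)⟩
    haveI : IsIso μ.left := isIso_of_bijective_appTop _ ⟨hμinj, hμsurj⟩
    rw [show (preπ ν' hν' v).left = inv μ.left ≫ πV.left from by
      rw [IsIso.eq_inv_comp, ← Over.comp_left, hμπ]]
    haveI := hπVf
    infer_instance

end Groth.Agent.AlgSpQMod
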