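import Groth.Agent.AlgSpDec.OneFlat
import Groth.Agent.AlgSpQMod.Funs
import Groth.Agent.AlgSpQMod.QcOpen
import Groth.Agent.AlgSpDec.HomToAffine
import Groth.Prelude.Def_AlgSpDec
import Mathlib.RingTheory.IntegralClosure.IntegrallyClosed

/-!
# Global functions of integral algebraic spaces
-/

set_option autoImplicit false
set_option backward.isDefEq.respectTransparency false
set_option backward.isDefEq.respectTransparency.types false
set_option maxHeartbeats 400000

universe u

open CategoryTheory CategoryTheory.Limits Opposite AlgebraicGeometry AlgSp Groth.Agent.AlgSpLib TopologicalSpace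

namespace Groth.Agent.AlgSpQMod

/-- In a reduced scheme, a dense basic open detects functions on any open. -/
theorem eq_zero_of_mul_eq_zero_of_dense {X : Scheme.{u}} [IsReduced X] {b : Γ(X, ⊤)}
    (hb : Dense (X.basicOpen b : Set X)) {W : X.Opens} (x : Γ(X, W))
    (h : x * X.presheaf.map (homOfLE le_top).op b = 0) : x = 0 := by
  have h1 : X.basicOpen x ⊓ (W ⊓ X.basicOpen b) = ⊥ := by
    rw [← Scheme.basicOpen_res, ← Scheme.basicOpen_mul]
    exact (congrArg X.basicOpen h).trans (Scheme.basicOpen_zero _ _)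
  refine (basicOpen_eq_bot_iff x).1 (eq_bot_iff.2 fun w hw => ?_)
  obtain ⟨z, hz, hzb⟩ := hb.inter_open_nonempty _ (X.basicOpen x).2 ⟨w, hw⟩
  exact (h1.le (⟨hz, X.basicOpen_le x hz, hzb⟩ : z ∈ X.basicOpen x ⊓ (W ⊓ X.basicOpen b)) :)

/-- Division by a function with dense nonvanishing locus is local on a reduced scheme. -/
theorem exists_div_of_local {X : Scheme.{u}} [IsReduced X] {a b : Γ(X, ⊤)} (hb : Dense (X.basicOpen b : Set X))
    (h : ∀ x : X, ∃ c : X.presheaf.stalk x,
      X.presheaf.germ ⊤ x trivial a = X.presheaf.germ ⊤ x trivial b * c) : ∃ c, a = b * c := by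
  have key : ∀ x : X, ∃ (W : X.Opens) (c : Γ(X, W)), x ∈ W ∧
      X.presheaf.map (homOfLE le_top).op a = X.presheaf.map (homOfLE le_top).op b * c := by
    intro x
    obtain ⟨c, hc⟩ := h x
    obtain ⟨U, hxU, c', rfl⟩ := X.presheaf.germ_exist c
    have e : X.presheaf.germ U x hxU (X.presheaf.map (homOfLE le_top).op a) =
        X.presheaf.germ U x hxU (X.presheaf.map (homOfLE le_top).op b * c') := by
      rw [map_mul, TopCat.Presheaf.germ_res_apply, TopCat.Presheaf.germ_res_apply, hc]
    obtain ⟨W, hxW, i₁, i₂, hW⟩ := X.presheaf.germ_eq x hxU hxU _ _ e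
    refine ⟨W, X.presheaf.map i₂.op c', hxW, ?_⟩
    rw [map_mul] at hW
    simp only [← CommRingCat.comp_apply, ← Functor.map_comp] at hW
    exact hW
  choose W c hxW hc using key
  have htop : iSup W = ⊤ := top_le_iff.1 fun x _ => Opens.mem_iSup.2 ⟨x, hxW x⟩
  obtain ⟨s, hs, -⟩ := X.sheaf.existsUnique_gluing' W ⊤ (fun x => homOfLE le_top) htop.ge c fun x y => by
    refine sub_eq_zero.1 (eq_zero_of_mul_eq_zero_of_dense hb _ ?_)
    rw [sub_mul, sub_eq_zero]
    have ex := congrArg (X.presheaf.map (Opens.infLELeft (W x) (W y)).op) (hc x)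
    have ey := congrArg (X.presheaf.map (Opens.infLERight (W x) (W y)).op) (hc y)
    rw [map_mul] at ex ey
    simp only [← CommRingCat.comp_apply, ← Functor.map_comp] at ex ey
    rw [mul_comm, mul_comm _ (X.presheaf.map _ b)]
    exact ex.symm.trans ey
  let s' : Γ(X, ⊤) := s
  refine ⟨s', X.sheaf.eq_of_locally_eq' W ⊤ (fun x => homOfLE le_top) htop.ge a (b * s') fun x => ?_⟩
  refine (hc x).trans ?_
  rw [map_mul]
  exact congrArg (_ * ·) (hs x).symm

variable {S : Scheme.{u}} {X : Sp S}

/-- The value of a global function on an object of the site. -/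
noncomputable def evE (E : EtOver X) : ↥(gsectEt (OEt X)) →+* Γ(E.obj.left.left, ⊤) :=
  (ULift.ringEquiv : ULift.{u + 1} Γ(E.obj.left.left, ⊤) ≃+* _).toRingHom.comp (limit.π (OEt X).obj (op E)).hom

theorem evE_map {E E' : EtOver X} (g : E ⟶ E') (a : ↥(gsectEt (OEt X))) :
    g.hom.left.left.appTop.hom (evE E' a) = evE E a :=
  congrArg ULift.down (congrArg (fun f => f a) (limit.w (OEt X).obj g.op))

theorem evE_ext {a b : ↥(gsectEt (OEt X))} (h : ∀ E, evE E a = evE E b) : a = b :=
  Concrete.limit_ext _ _ _ fun E => ULift.ext _ _ (h E.unop)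

/-- The points where a global function does not vanish. -/
def supp (a : ↥(gsectEt (OEt X))) : Set (Points X) :=
  ⋃ E : EtOver X, Points.ofPt E.obj.hom '' (E.obj.left.left.basicOpen (evE E a) : Set E.obj.left.left)

theorem isOpen_supp (a : ↥(gsectEt (OEt X))) : IsOpen (supp a) :=
  isOpen_iUnion fun E => AlgSpLib.isOpenMap_ofPt E.property _ (E.obj.left.left.basicOpen _).2

theorem mem_supp_iff (a : ↥(gsectEt (OEt X))) (E : EtOver X) (w : E.obj.left.left) :
    Points.ofPt E.obj.hom w ∈ supp a ↔ w ∈ E.obj.left.left.basicOpen (evE E a) := by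
  refine ⟨fun h => ?_, fun h => Set.mem_iUnion.2 ⟨E, w, h, rfl⟩⟩
  obtain ⟨E', w', hw', he⟩ := Set.mem_iUnion.1 h
  have hr : RepWith @Etale E'.obj.hom := E'.property
  have sq := hr.rep.isPullback' E.obj.hom
  obtain ⟨z, hz', hz⟩ := exists_ofPt_of_eq sq he
  haveI : Etale (hr.rep.snd E.obj.hom).left := hr.property_snd _
  let E'' : EtOver X := EtOver.mk ((yon S).map (hr.rep.snd E.obj.hom) ≫ E.obj.hom)
    (repWith_comp ((repWith_yon_map_iff _ _).2 ‹_›) E.property)
  let g : E'' ⟶ E := EtOver.homMk (hr.rep.snd E.obj.hom) rfl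
  let g' : E'' ⟶ E' := EtOver.homMk (hr.rep.fst' E.obj.hom) sq.w
  subst hz hz'
  have h1 : z ∈ g'.hom.left.left ⁻¹ᵁ E'.obj.left.left.basicOpen (evE E' a) := hw'
  rw [Scheme.preimage_basicOpen_top, evE_map g' a, ← evE_map g a, ← Scheme.preimage_basicOpen_top] at h1
  exact h1

theorem supp_one : supp (1 : ↥(gsectEt (OEt X))) = ⋃ E : EtOver X, Set.range (Points.ofPt E.obj.hom) := by
  simp [supp, Scheme.basicOpen_one]

section Reduced

variable (hr : EtaleLocally (fun U => IsReduced U) X)
include hr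

theorem eq_zero_of_supp_empty {a : ↥(gsectEt (OEt X))} (h : supp a = ∅) : a = 0 := by
  refine evE_ext fun E => ?_
  haveI := AlgSpDec.isReduced_chart hr E.property
  rw [map_zero, ← basicOpen_eq_bot_iff, eq_bot_iff]
  intro w hw
  exact absurd ((mem_supp_iff a E w).2 hw) (by rw [h]; exact Set.notMem_empty _)

theorem dense_basicOpen [IrreducibleSpace (Points X)] {b : ↥(gsectEt (OEt X))} (hb : b ≠ 0) (E : EtOver X) :
    Dense (E.obj.left.left.basicOpen (evE E b) : Set E.obj.left.left) := by
  have hd : Dense (supp b) := (isOpen_supp b).dense (Set.nonempty_iff_ne_empty.2 fun h => hb (eq_zero_of_supp_empty hr h))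
  have h1 := hd.preimage (AlgSpLib.isOpenMap_ofPt E.property)
  refine h1.mono fun w hw => (mem_supp_iff b E w).1 hw

theorem isDomain_gsect [IrreducibleSpace (Points X)] (hX : IsAlgSpace X) : IsDomain ↥(gsectEt (OEt X)) := by
  haveI : Nontrivial ↥(gsectEt (OEt X)) := ⟨1, 0, fun h => by
    obtain ⟨U, p, hp, hps⟩ := hX.atlas
    obtain ⟨x⟩ := (inferInstance : Nonempty (Points X))
    obtain ⟨w, rfl⟩ := surjective_ofPt hps x
    have h1 := (mem_supp_iff (X := X) 1 (EtOver.mk p hp) w).1 (by
      rw [supp_one]; exact Set.mem_iUnion.2 ⟨EtOver.mk p hp, w, rfl⟩)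
    rw [h, map_zero, Scheme.basicOpen_zero] at h1
    exact h1⟩
  haveI : NoZeroDivisors ↥(gsectEt (OEt X)) := ⟨fun {a b} hab => by
    by_contra! hne
    refine hne.1 (evE_ext fun E => ?_)
    haveI := AlgSpDec.isReduced_chart hr E.property
    rw [map_zero]
    refine eq_zero_of_mul_eq_zero_of_dense (dense_basicOpen hr hne.2 E) (W := ⊤) (evE E a) ?_
    rw [show (homOfLE (le_top (a := (⊤ : E.obj.left.left.Opens)))).op = 𝟙 _ from rfl, CategoryTheory.Functor.map_id]
    exact ((map_mul (evE E) a b).symm.trans (congrArg (evE E) hab)).trans (map_zero _)⟩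
  exact NoZeroDivisors.to_isDomain _

/-- The affine line over the base. -/
noncomputable abbrev lineOver (S : Scheme.{u}) : Over S := Over.mk (prod.fst : S ⨯ Spec funLine.{u} ⟶ S)

theorem isIntegrallyClosed_gsect [IrreducibleSpace (Points X)] (hX : IsAlgSpace X)
    (hn : EtaleLocally (fun U => ∀ u : ↥U, IsDomain ↥(U.presheaf.stalk u) ∧
      IsIntegrallyClosed ↥(U.presheaf.stalk u)) X) : IsIntegrallyClosed ↥(gsectEt (OEt X)) := by
  haveI := isDomain_gsect hr hX
  obtain ⟨U, p, hp, hps, hU⟩ := hn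
  let E₀ : EtOver X := EtOver.mk p hp
  haveI : IsReduced E₀.obj.left.left := AlgSpDec.isReduced_chart hr hp
  haveI : IsReduced U.left := AlgSpDec.isReduced_chart hr hp
  rw [isIntegrallyClosed_iff (FractionRing ↥(gsectEt (OEt X)))]
  intro x hx
  obtain ⟨a, b, hb, rfl⟩ := IsFractionRing.div_surjective (A := ↥(gsectEt (OEt X))) x
  have hb0 : b ≠ 0 := nonZeroDivisors.ne_zero hb
  obtain ⟨cV, hcV⟩ : ∃ c, evE E₀ a = evE E₀ b * c := by
    refine exists_div_of_local (dense_basicOpen hr hb0 E₀) fun w => ?_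
    haveI := (hU w).1
    haveI := (hU w).2
    let φ : ↥(gsectEt (OEt X)) →+* U.left.presheaf.stalk w := (U.left.presheaf.germ ⊤ w trivial).hom.comp (evE E₀)
    have hφ : Function.Injective φ := by
      refine (injective_iff_map_eq_zero φ).2 fun y hy => ?_
      by_contra hne
      obtain ⟨W, hwW, i, i', hW⟩ := U.left.presheaf.germ_eq (U := ⊤) (V := ⊤) w trivial trivial (evE E₀ y) 0
        (hy.trans (map_zero (U.left.presheaf.germ ⊤ w trivial).hom).symm)
      rw [map_zero] at hW
      have h1 : W ⊓ U.left.basicOpen (evE E₀ y) = ⊥ := by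
        rw [← Scheme.basicOpen_res U.left (evE E₀ y) i.op]
        exact (congrArg U.left.basicOpen hW).trans (Scheme.basicOpen_zero _ _)
      obtain ⟨z, hz, hzy⟩ := (dense_basicOpen hr hne E₀).inter_open_nonempty _ W.2 ⟨w, hwW⟩
      exact (h1.le (⟨hz, hzy⟩ : z ∈ W ⊓ U.left.basicOpen (evE E₀ y)) :)
    let ψ : ↥(gsectEt (OEt X)) →+* FractionRing (U.left.presheaf.stalk w) :=
      (algebraMap _ _).comp φ
    have hψ : Function.Injective ψ := (IsFractionRing.injective _ _).comp hφ
    let Φ : FractionRing ↥(gsectEt (OEt X)) →+* FractionRing (U.left.presheaf.stalk w) := IsFractionRing.lift hψ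
    have hΦ : ∀ y, Φ (algebraMap _ _ y) = ψ y := IsFractionRing.lift_algebraMap hψ
    obtain ⟨q, hq, h0⟩ := hx
    have hint : IsIntegral (U.left.presheaf.stalk w) (Φ (algebraMap _ _ a / algebraMap _ _ b)) := by
      refine ⟨q.map φ, hq.map φ, ?_⟩
      have h1 := congrArg Φ h0
      rw [Polynomial.hom_eval₂, map_zero] at h1
      rw [Polynomial.eval₂_map]
      rw [show (algebraMap _ (FractionRing (U.left.presheaf.stalk w))).comp φ = Φ.comp (algebraMap _ _) from
        RingHom.ext fun y => (hΦ y).symm]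
      exact h1
    obtain ⟨c, hc⟩ := IsIntegrallyClosed.isIntegral_iff.1 hint
    refine ⟨c, IsFractionRing.injective (U.left.presheaf.stalk w) (FractionRing (U.left.presheaf.stalk w)) ?_⟩
    rw [map_mul, hc, map_div₀, hΦ, hΦ]
    change ψ a = ψ b * (ψ a / ψ b)
    rw [mul_div_cancel₀]
    exact fun h => hb0 (hψ (h.trans (map_zero ψ).symm))
  -- descend the quotient to every object of the site
  have sq := hp.rep.isPullback' p
  haveI : Etale (hp.rep.fst' p).left := hp.property _ _ _ sq.flip
  haveI : Etale (hp.rep.snd p).left := hp.property_snd p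
  let E₁ : EtOver X := EtOver.mk ((yon S).map (hp.rep.fst' p) ≫ p)
    (repWith_comp ((repWith_yon_map_iff _ _).2 ‹_›) hp)
  let k₁ : E₁ ⟶ E₀ := EtOver.homMk (hp.rep.fst' p) rfl
  let k₂ : E₁ ⟶ E₀ := EtOver.homMk (hp.rep.snd p) sq.w.symm
  haveI := AlgSpDec.isReduced_chart hr E₁.property
  have hk : (hp.rep.fst' p).left.appTop.hom cV = (hp.rep.snd p).left.appTop.hom cV := by
    refine sub_eq_zero.1 (eq_zero_of_mul_eq_zero_of_dense (dense_basicOpen hr hb0 E₁) (W := ⊤) _ ?_)
    rw [show (homOfLE (le_top (a := (⊤ : E₁.obj.left.left.Opens)))).op = 𝟙 _ from rfl, CategoryTheory.Functor.map_id]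
    change (_ - _) * evE E₁ b = 0
    rw [sub_mul, sub_eq_zero]
    have e1 := congrArg k₁.hom.left.left.appTop.hom hcV
    have e2 := congrArg k₂.hom.left.left.appTop.hom hcV
    rw [map_mul, evE_map k₁, evE_map k₁] at e1
    rw [map_mul, evE_map k₂, evE_map k₂] at e2
    rw [mul_comm, mul_comm _ (evE E₁ b)]
    exact e1.symm.trans e2
  let m : U ⟶ lineOver S := CategoryTheory.Over.homMk (prod.lift U.hom (funMor cV)) (prod.lift_fst _ _)
  have hm : (yon S).map (hp.rep.fst' p) ≫ (yon S).map m = (yon S).map (hp.rep.snd p) ≫ (yon S).map m := by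
    rw [← Functor.map_comp, ← Functor.map_comp]
    refine congrArg (yon S).map (Over.OverMorphism.ext (prod.hom_ext ?_ ?_))
    · simp only [m, Over.comp_left, Over.homMk_left, Category.assoc, prod.lift_fst]
      exact (Over.w _).trans (Over.w _).symm
    · simp only [m, Over.comp_left, Over.homMk_left, Category.assoc, prod.lift_snd, funMor_comp]
      rw [hk]
  have := isLocallySurjective_of_etale_surjective hp hps
  have hEp : Epi p := (Sheaf.isLocallySurjective_iff_epi p).1 inferInstance
  obtain ⟨f, hf⟩ := AlgSpDec.exists_desc_of_kernelPair sq ((yon S).map m) hm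
  let val : ∀ E : EtOver X, Γ(E.obj.left.left, ⊤) := fun E =>
    funOf (((yon S).preimage (E.obj.hom ≫ f)).left ≫ prod.snd)
  have hval : ∀ {E E' : EtOver X} (g : E ⟶ E'), g.hom.left.left.appTop.hom (val E') = val E := fun {E E'} g => by
    have e : g.hom.left ≫ (yon S).preimage (E'.obj.hom ≫ f) = (yon S).preimage (E.obj.hom ≫ f) :=
      (yon S).map_injective (by rw [Functor.map_comp, Functor.map_preimage, Functor.map_preimage, ← Category.assoc,
        EtOver.w g])
    change g.hom.left.left.appTop.hom (funOf _) = funOf _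
    rw [← funOf_comp, ← Category.assoc, ← Over.comp_left, e]
  obtain ⟨y, hy⟩ : ∃ y : ↥(gsectEt (OEt X)), ∀ E, evE E y = val E := by
    let hl := isLimitOfPreserves (forget CommRingCat.{u + 1}) (limit.isLimit (OEt X).obj)
    let σ : ((OEt X).obj ⋙ forget CommRingCat.{u + 1}).sections :=
      ⟨fun E => ULift.up (val E.unop), fun {E E'} g => by
        change (OEt X).obj.map g _ = _
        exact (OEt_map g.unop _).trans (congrArg ULift.up (hval g.unop))⟩
    refine ⟨(Types.isLimitEquivSections hl).symm σ, fun E => ?_⟩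
    have h1 := Types.isLimitEquivSections_symm_apply hl σ (op E)
    change ULift.down ((limit.π (OEt X).obj (op E)) ((Types.isLimitEquivSections hl).symm σ)) = val E
    exact congrArg ULift.down h1
  have hy0 : evE E₀ y = cV := by
    rw [hy]
    change funOf (((yon S).preimage (p ≫ f)).left ≫ prod.snd) = cV
    rw [hf, Functor.preimage_map]
    simp only [m, Over.homMk_left, prod.lift_snd, funOf_funMor]
  refine ⟨y, ?_⟩
  have hab : a = b * y := by
    refine sub_eq_zero.1 (eq_zero_of_supp_empty hr (Set.eq_empty_iff_forall_notMem.2 fun z hz => ?_))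
    obtain ⟨w, rfl⟩ := surjective_ofPt hps z
    have h1 := (mem_supp_iff _ E₀ w).1 hz
    rw [map_sub, map_mul, hy0, ← hcV, sub_self, Scheme.basicOpen_zero] at h1
    exact h1
  rw [hab, map_mul, mul_div_cancel_left₀]
  exact fun h => hb0 (IsFractionRing.injective _ _ (h.trans (map_zero _).symm))

end Reduced

end Groth.Agent.AlgSpQMod
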