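import Groth.Agent.AlgSpDec.SpQuot
import Groth.Agent.AlgSpLib.AffineDescProps
import Groth.Agent.AlgSpPts.Descent
import Groth.Agent.AlgSpNorm.DescRel
import Groth.Agent.AlgSpNorm.Basic

/-!
# Descending a scheme over a chart dominated by the pullback of a space
-/

set_option autoImplicit false
set_option backward.isDefEq.respectTransparency false
set_option backward.isDefEq.respectTransparency.types false

universe u

open CategoryTheory CategoryTheory.Limits AlgebraicGeometry Opposite AlgSp Groth.Agent.AlgSpLib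
  Groth.Agent.AlgSpDec Groth.Agent.AlgSpNorm

namespace Groth.Agent.AlgSpQMod

variable {S : Scheme.{u}} {X Y : Sp S} {f : X ⟶ Y} {U : Over S} {q : (yon S).obj U ⟶ Y}
  {P N : Over S} {p : (yon S).obj P ⟶ X} {π : P ⟶ U} {ν₀ : N ⟶ U}

/-- Maps from etale base changes of `N` to `N` are determined by their restriction to the base change of `P`. -/
def Dominates (π : P ⟶ U) (ν₀ : N ⟶ U) (g₀ : P ⟶ N) : Prop :=
  ∀ {T Q PT : Over S} (u : T ⟶ U) (_ : Etale u.left) (x : Q ⟶ N) (ρ : Q ⟶ T) (_ : IsPullback x ρ ν₀ u)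
    (xP : PT ⟶ P) (ρP : PT ⟶ T) (_ : IsPullback xP ρP π u) (g : PT ⟶ Q) (_ : g ≫ x = xP ≫ g₀) (_ : g ≫ ρ = ρP)
    (w : T ⟶ U) (a b : Q ⟶ N), a ≫ ν₀ = ρ ≫ w → b ≫ ν₀ = ρ ≫ w → g ≫ a = g ≫ b → a = b

/-- The transport along the relation of the chart exists. -/
def HasTransport (p : (yon S).obj P ⟶ X) (π : P ⟶ U) (ν₀ : N ⟶ U) (g₀ : P ⟶ N) (q : (yon S).obj U ⟶ Y) : Prop :=
  ∀ {R : Over S} (t s : R ⟶ U) (_ : IsPullback ((yon S).map t) ((yon S).map s) q q)
    {A PR : Over S} (x : A ⟶ N) (ρ : A ⟶ R) (_ : IsPullback x ρ ν₀ t)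
    (xP : PR ⟶ P) (ρP : PR ⟶ R) (_ : IsPullback xP ρP π t) (g : PR ⟶ A) (_ : g ≫ x = xP ≫ g₀) (_ : g ≫ ρ = ρP)
    (xs : PR ⟶ P) (_ : (yon S).map xs ≫ p = (yon S).map xP ≫ p) (_ : xs ≫ π = ρP ≫ s),
    ∃ sN : A ⟶ N, sN ≫ ν₀ = ρ ≫ s ∧ g ≫ sN = xs ≫ g₀

/-- A scheme over a chart with a transport, dominated by the pullback of a space, descends. -/
theorem exists_descend (hX : IsAlgSpace X) (hY : IsAlgSpace Y) (hqe : RepWith @Etale q)
    (hqsur : RepWith @Surjective q) (sqP : IsPullback p ((yon S).map π) f q) {g₀ : P ⟶ N}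
    (hg₀ : g₀ ≫ ν₀ = π) (hdom : Dominates π ν₀ g₀) (htra : HasTransport p π ν₀ g₀ q) :
    ∃ (Z : Sp S) (ν : Z ⟶ Y) (m : (yon S).obj N ⟶ Z) (f' : X ⟶ Z), IsAlgSpace Z ∧
      IsPullback m ((yon S).map ν₀) ν q ∧ f' ≫ ν = f ∧ p ≫ f' = (yon S).map g₀ ≫ m ∧
      RepWith @Etale m ∧ RepWith @Surjective m := by
  obtain ⟨fU, hfU₀⟩ : ∃ fU : pullback f q ⟶ (yon S).obj N, fU = sqP.isoPullback.inv ≫ (yon S).map g₀ := ⟨_, rfl⟩
  have hfU : fU ≫ (yon S).map ν₀ = pullback.snd f q := by
    rw [hfU₀, Category.assoc, ← Functor.map_comp, hg₀, sqP.isoPullback_inv_snd]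
  have hpU : (yon S).map g₀ = sqP.isoPullback.hom ≫ fU := by simp [hfU₀]
  have hext : ∀ {T Q : Over S} (u : T ⟶ U) [Etale u.left] {x : Q ⟶ N} {ρ : Q ⟶ T}
      (_ : IsPullback x ρ ν₀ u) (w : T ⟶ U) (a b : Q ⟶ N) (_ : a ≫ ν₀ = ρ ≫ w) (_ : b ≫ ν₀ = ρ ≫ w)
      (_ : ∀ (K : Sp S) (z : K ⟶ X) (u' : K ⟶ (yon S).obj T) (hz : z ≫ f = (u' ≫ (yon S).map u) ≫ q)
        (r : K ⟶ (yon S).obj Q), r ≫ (yon S).map x = pullback.lift z (u' ≫ (yon S).map u) hz ≫ fU →
        r ≫ (yon S).map ρ = u' → r ≫ (yon S).map a = r ≫ (yon S).map b), a = b := by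
    intro T Q u hu x ρ sq w a b ha hb hab
    have sqT := IsPullback.of_hasPullback π u
    obtain ⟨g, hg1, hg2⟩ := sq.exists_lift (pullback.fst π u ≫ g₀) (pullback.snd π u)
      (by rw [Category.assoc, hg₀, sqT.w])
    refine hdom u hu x ρ sq _ _ sqT g hg1 hg2 w a b ha hb ((yon S).map_injective ?_)
    rw [Functor.map_comp, Functor.map_comp]
    refine hab _ ((yon S).map (pullback.fst π u) ≫ p) ((yon S).map (pullback.snd π u)) ?_ _ ?_ ?_
    · rw [Category.assoc, sqP.w, ← Functor.map_comp_assoc, sqT.w, Functor.map_comp]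
    · rw [← Functor.map_comp, hg1, Functor.map_comp, hpU, ← Category.assoc]
      congr 1
      apply pullback.hom_ext
      · simp
      · simp [← Functor.map_comp, sqT.w]
    · rw [← Functor.map_comp, hg2]
  obtain ⟨t, ht⟩ : ∃ t : hqe.rep.pullback q ⟶ U, t = hqe.rep.fst' q := ⟨_, rfl⟩
  obtain ⟨s, hs⟩ : ∃ s : hqe.rep.pullback q ⟶ U, s = hqe.rep.snd q := ⟨_, rfl⟩
  have sqR : IsPullback ((yon S).map t) ((yon S).map s) q q := by rw [ht, hs]; exact hqe.rep.isPullback' q
  have hte : Etale t.left := hqe.property _ _ _ sqR.flip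
  have sA : IsPullback (pullback.fst ν₀ t) (pullback.snd ν₀ t) ν₀ t := IsPullback.of_hasPullback _ _
  obtain ⟨A, a, ρ, hA'⟩ : ∃ (A : Over S) (a : A ⟶ N) (ρ : A ⟶ hqe.rep.pullback q), IsPullback a ρ ν₀ t :=
    ⟨_, _, _, sA⟩
  clear sA
  have sA := hA'
  have sqTR := IsPullback.of_hasPullback π t
  have hw' : (yon S).map t ≫ q = (yon S).map s ≫ q := sqR.w
  obtain ⟨xs, hxs1, hxs2⟩ : ∃ xs : pullback π t ⟶ P, (yon S).map xs ≫ p = (yon S).map (pullback.fst π t) ≫ p ∧
      xs ≫ π = pullback.snd π t ≫ s := by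
    obtain ⟨l, hl1, hl2⟩ := sqP.exists_lift ((yon S).map (pullback.fst π t) ≫ p) ((yon S).map (pullback.snd π t ≫ s))
      (by rw [Category.assoc, sqP.w, ← Functor.map_comp_assoc, sqTR.w, Functor.map_comp, Functor.map_comp,
        Category.assoc, hw', Category.assoc])
    obtain ⟨l, rfl⟩ := (yon S).map_surjective l
    exact ⟨l, hl1, (yon S).map_injective (by rw [Functor.map_comp, hl2])⟩
  obtain ⟨gR, hgR1, hgR2⟩ := sA.exists_lift (pullback.fst π t ≫ g₀) (pullback.snd π t)
    (by rw [Category.assoc, hg₀, sqTR.w])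
  obtain ⟨sN, hsν, hsN⟩ := htra t s sqR a ρ sA _ _ sqTR gR hgR1 hgR2 xs hxs1 hxs2
  have hae : Etale a.left := MorphismProperty.of_isPullback (P := @Etale) (sA.map (Over.forget S)).flip hte
  have htr : ∀ (K : Sp S) (z : K ⟶ X) (u v : K ⟶ (yon S).obj U) (hu : z ≫ f = u ≫ q) (hv : z ≫ f = v ≫ q)
      (r : K ⟶ (yon S).obj A), r ≫ (yon S).map a = pullback.lift z u hu ≫ fU →
      (r ≫ (yon S).map ρ) ≫ (yon S).map t = u → (r ≫ (yon S).map ρ) ≫ (yon S).map s = v →
      r ≫ (yon S).map sN = pullback.lift z v hv ≫ fU := by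
    intro K z u v hu hv r hr hru hrv
    obtain ⟨m, hm1, hm2⟩ := (sqTR.map (yon S)).exists_lift (sqP.lift z u hu) (r ≫ (yon S).map ρ)
      (by rw [sqP.lift_snd, hru])
    have hmr : m ≫ (yon S).map gR = r := by
      refine (sA.map (yon S)).hom_ext ?_ ?_
      · rw [hr, Category.assoc, ← Functor.map_comp, hgR1, Functor.map_comp, reassoc_of% hm1, hpU, ← Category.assoc]
        congr 1
        apply pullback.hom_ext <;> simp
      · rw [Category.assoc, ← Functor.map_comp, hgR2, hm2]
    rw [← hmr, Category.assoc, ← Functor.map_comp, hsN, Functor.map_comp, hpU, ← Category.assoc, ← Category.assoc]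
    congr 1
    apply pullback.hom_ext
    · simp [hxs1, reassoc_of% hm1]
    · simp [← Functor.map_comp, hxs2]
      simp [reassoc_of% hm2, ← hrv]
  have hsse : Etale s.left := by rw [hs]; exact hqe.property_snd q
  have haν : a ≫ ν₀ = ρ ≫ t := sA.w
  let sAY := sA.map (yon S)
  have hw : (yon S).map t ≫ q = (yon S).map s ≫ q := sqR.w
  -- lifts into the kernel pair
  have rlift : ∀ {T : Over S} (x y : T ⟶ U), (yon S).map x ≫ q = (yon S).map y ≫ q →
      ∃ p : T ⟶ hqe.rep.pullback q, p ≫ t = x ∧ p ≫ s = y := fun x y h => by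
    obtain ⟨p, hp⟩ := (yon S).map_surjective (sqR.lift ((yon S).map x) ((yon S).map y) h)
    exact ⟨p, (yon S).map_injective (by rw [Functor.map_comp, hp, sqR.lift_fst]),
      (yon S).map_injective (by rw [Functor.map_comp, hp, sqR.lift_snd])⟩
  have rext : ∀ {T : Over S} (p p' : T ⟶ hqe.rep.pullback q), p ≫ t = p' ≫ t → p ≫ s = p' ≫ s → p = p' :=
    fun p p' h1 h2 => (yon S).map_injective (sqR.hom_ext (by rw [← Functor.map_comp, ← Functor.map_comp, h1])
      (by rw [← Functor.map_comp, ← Functor.map_comp, h2]))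
  -- the transport is the identity on the diagonal, involutive and transitive
  obtain ⟨e, het, hes⟩ := rlift (𝟙 U) (𝟙 U) rfl
  let eN : N ⟶ A := sA.lift (𝟙 N) (ν₀ ≫ e) (by rw [Category.id_comp, Category.assoc, het, Category.comp_id])
  have heN : eN ≫ sN = 𝟙 N := by
    refine hext (𝟙 U) (x := 𝟙 N) (ρ := ν₀) (IsPullback.of_horiz_isIso ⟨by simp⟩) (𝟙 U) _ _ ?_ (by simp) ?_
    · rw [Category.assoc, hsν, sA.lift_snd_assoc, Category.assoc, hes]
    · intro K z u' hz r hr hru
      rw [CategoryTheory.Functor.map_id, Category.comp_id] at hr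
      rw [CategoryTheory.Functor.map_id, Category.comp_id, Functor.map_comp, ← Category.assoc]
      rw [htr K z (u' ≫ (yon S).map (𝟙 U)) (u' ≫ (yon S).map (𝟙 U)) hz hz (r ≫ (yon S).map eN) ?_ ?_ ?_, ← hr]
      · rw [Category.assoc, ← Functor.map_comp, sA.lift_fst, CategoryTheory.Functor.map_id, Category.comp_id, hr]
      · simp only [Category.assoc, ← Functor.map_comp, eN, sA.lift_snd_assoc, het]
        rw [← hru, Category.comp_id, CategoryTheory.Functor.map_id, Category.comp_id]
      · simp only [Category.assoc, ← Functor.map_comp, eN, sA.lift_snd_assoc, hes]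
        rw [← hru, Category.comp_id, CategoryTheory.Functor.map_id, Category.comp_id]
  obtain ⟨w, hwt, hws⟩ := rlift s t hw.symm
  let iA : A ⟶ A := sA.lift sN (ρ ≫ w) (by rw [hsν, Category.assoc, hwt])
  have hiA : iA ≫ sN = a := by
    refine hext t sA t _ _ ?_ haν ?_
    · rw [Category.assoc, hsν, sA.lift_snd_assoc, Category.assoc, hws]
    · intro K z u' hz r hr hru
      have hz' : z ≫ f = (u' ≫ (yon S).map s) ≫ q := by rw [hz, Category.assoc, Category.assoc, hw]
      have h1 := htr K z _ (u' ≫ (yon S).map s) hz hz' r hr (by rw [hru]) (by rw [hru])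
      rw [Functor.map_comp, ← Category.assoc]
      rw [htr K z (u' ≫ (yon S).map s) (u' ≫ (yon S).map t) hz' hz (r ≫ (yon S).map iA) ?_ ?_ ?_, hr]
      · rw [Category.assoc, ← Functor.map_comp, sA.lift_fst, h1]
      · simp only [Category.assoc, ← Functor.map_comp, iA, sA.lift_snd_assoc, hwt]
        rw [← hru]; simp
      · simp only [Category.assoc, ← Functor.map_comp, iA, sA.lift_snd_assoc, hws]
        rw [← hru]; simp
  let R₂ := pullback s t
  let p₁ : R₂ ⟶ hqe.rep.pullback q := pullback.fst s t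
  let p₂ : R₂ ⟶ hqe.rep.pullback q := pullback.snd s t
  obtain ⟨c, hct, hcs⟩ := rlift (p₁ ≫ t) (p₂ ≫ s) (by
    rw [Functor.map_comp, Functor.map_comp, Category.assoc, Category.assoc, hw, ← Category.assoc, ← Category.assoc,
      ← Functor.map_comp, ← Functor.map_comp, pullback.condition, Functor.map_comp, Functor.map_comp, Category.assoc,
      Category.assoc, hw])
  let A₂ := pullback ρ p₁
  let x₂ : A₂ ⟶ A := pullback.fst ρ p₁
  let y₂ : A₂ ⟶ R₂ := pullback.snd ρ p₁
  have sA₂ : IsPullback (x₂ ≫ a) y₂ ν₀ (p₁ ≫ t) := (IsPullback.of_hasPullback ρ p₁).paste_horiz sA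
  let bA : A₂ ⟶ A := sA.lift (x₂ ≫ sN) (y₂ ≫ p₂) (by
    rw [Category.assoc, hsν, ← Category.assoc, pullback.condition, Category.assoc, Category.assoc, pullback.condition])
  let cA : A₂ ⟶ A := sA.lift (x₂ ≫ a) (y₂ ≫ c) (by
    rw [Category.assoc, haν, ← Category.assoc, pullback.condition, Category.assoc, Category.assoc, hct])
  have hbc : bA ≫ sN = cA ≫ sN := by
    have : Etale (p₁ ≫ t).left := by
      have : Etale p₁.left := MorphismProperty.of_isPullback (P := @Etale)
        ((IsPullback.of_hasPullback s t).map (Over.forget S)).flip hte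
      show Etale (p₁.left ≫ t.left); infer_instance
    refine hext (p₁ ≫ t) sA₂ (p₂ ≫ s) _ _ ?_ ?_ ?_
    · rw [Category.assoc, hsν, sA.lift_snd_assoc, Category.assoc]
    · rw [Category.assoc, hsν, sA.lift_snd_assoc, Category.assoc, hcs]
    · intro K z u' hz r hr hru
      have hz1 : z ≫ f = (u' ≫ (yon S).map (p₁ ≫ s)) ≫ q := by
        rw [hz]; simp only [Functor.map_comp, Category.assoc, hw]
      have hz2 : z ≫ f = (u' ≫ (yon S).map (p₂ ≫ s)) ≫ q := by
        rw [hz1, pullback.condition]; simp only [Functor.map_comp, Category.assoc, hw]; rfl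
      have hρx : ∀ v : hqe.rep.pullback q ⟶ U, (r ≫ (yon S).map x₂) ≫ (yon S).map ρ ≫ (yon S).map v =
          u' ≫ (yon S).map (p₁ ≫ v) := fun v => by
        rw [← hru]
        simp only [Category.assoc, ← Functor.map_comp]
        rw [pullback.condition_assoc]
      have h1 := htr K z _ _ hz hz1 (r ≫ (yon S).map x₂)
        (by rw [Category.assoc, ← Functor.map_comp, hr]) (by rw [Category.assoc, hρx]) (by rw [Category.assoc, hρx])
      rw [Functor.map_comp, ← Category.assoc, Functor.map_comp, ← Category.assoc]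
      rw [htr K z (u' ≫ (yon S).map (p₁ ≫ s)) (u' ≫ (yon S).map (p₂ ≫ s)) hz1 hz2 (r ≫ (yon S).map bA) ?_ ?_ ?_,
        htr K z _ (u' ≫ (yon S).map (p₂ ≫ s)) hz hz2 (r ≫ (yon S).map cA) ?_ ?_ ?_]
      · rw [Category.assoc, ← Functor.map_comp, sA.lift_fst, hr]
      · rw [← hru]; simp only [Category.assoc, ← Functor.map_comp, cA, sA.lift_snd_assoc, hct]
      · rw [← hru]; simp only [Category.assoc, ← Functor.map_comp, cA, sA.lift_snd_assoc, hcs]
      · rw [Category.assoc, ← Functor.map_comp, sA.lift_fst, Functor.map_comp, ← Category.assoc, h1]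
      · rw [← hru]; simp only [Category.assoc, ← Functor.map_comp, bA, sA.lift_snd_assoc]; rw [show p₁ ≫ s = p₂ ≫ t from pullback.condition]
      · rw [← hru]; simp only [Category.assoc, ← Functor.map_comp, bA, sA.lift_snd_assoc]
  -- the equivalence relation and its quotient
  have hrel : IsEqvRelSp ((yon S).map sN) ((yon S).map a) := by
    refine ⟨fun T r r' h1 h2 => ?_, fun T => ⟨?_, ?_, ?_⟩⟩
    · obtain ⟨r, rfl⟩ := (yon S).map_surjective r
      obtain ⟨r', rfl⟩ := (yon S).map_surjective r'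
      rw [← Functor.map_comp, ← Functor.map_comp] at h1 h2
      replace h1 := (yon S).map_injective h1
      replace h2 := (yon S).map_injective h2
      congr 1
      refine sA.hom_ext h1 (rext _ _ ?_ ?_)
      · simp only [Category.assoc, ← haν, reassoc_of% h1]
      · simp only [Category.assoc, ← hsν, reassoc_of% h2]
    · intro x
      obtain ⟨x, rfl⟩ := (yon S).map_surjective x
      exact ⟨(yon S).map (x ≫ eN), by rw [← Functor.map_comp, Category.assoc, sA.lift_fst, Category.comp_id],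
        by rw [← Functor.map_comp, Category.assoc, heN, Category.comp_id]⟩
    · rintro x y ⟨r, rfl, rfl⟩
      exact ⟨r ≫ (yon S).map iA, by rw [Category.assoc, ← Functor.map_comp, sA.lift_fst],
        by rw [Category.assoc, ← Functor.map_comp, hiA]⟩
    · rintro x y z ⟨r, rfl, rfl⟩ ⟨r', hr', rfl⟩
      obtain ⟨r, rfl⟩ := (yon S).map_surjective r
      obtain ⟨r', rfl⟩ := (yon S).map_surjective r'
      rw [← Functor.map_comp, ← Functor.map_comp] at hr'
      replace hr' := (yon S).map_injective hr'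
      let l₂ : T ⟶ R₂ := pullback.lift (r ≫ ρ) (r' ≫ ρ) (by
        simp only [Category.assoc, ← haν, ← hsν, reassoc_of% hr'])
      let l : T ⟶ A₂ := pullback.lift r l₂ (by rw [pullback.lift_fst])
      refine ⟨(yon S).map (l ≫ cA), ?_, ?_⟩
      · rw [← Functor.map_comp, ← Functor.map_comp, Category.assoc, sA.lift_fst, pullback.lift_fst_assoc]
      · rw [← Functor.map_comp, ← Functor.map_comp, Category.assoc, ← hbc, ← Category.assoc]
        congr 2
        refine sA.hom_ext ?_ ?_
        · rw [Category.assoc, sA.lift_fst, pullback.lift_fst_assoc, hr']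
        · rw [Category.assoc, sA.lift_snd, pullback.lift_snd_assoc, pullback.lift_snd]
  have hiA' : iA ≫ iA = 𝟙 A := by
    refine sA.hom_ext ?_ ?_
    · rw [Category.assoc, sA.lift_fst, hiA, Category.id_comp]
    · rw [Category.assoc, sA.lift_snd, sA.lift_snd_assoc, Category.id_comp, Category.assoc]
      rw [show w ≫ w = 𝟙 _ from rext _ _ (by rw [Category.assoc, hwt, hws, Category.id_comp])
        (by rw [Category.assoc, hws, hwt, Category.id_comp]), Category.comp_id]
  have hse : Etale sN.left := by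
    have e : sN = iA ≫ a := (sA.lift_fst _ _ _).symm
    haveI : IsIso iA := ⟨iA, hiA', hiA'⟩
    rw [e]
    have : IsIso iA.left := inferInstanceAs (IsIso ((Over.forget S).map iA))
    show Etale (iA.left ≫ a.left)
    infer_instance
  have hA := IsAlgSpace.yon_obj A
  have hNs := IsAlgSpace.yon_obj N
  have hfl : ∀ g : A ⟶ N, Etale g.left → LocP @Flat ((yon S).map g) ∧
      LocP @LocallyOfFinitePresentation ((yon S).map g) := fun g hg =>
    have h' : RepWith @Etale ((yon S).map g) := (repWith_yon_map_iff _ _).2 hg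
    ⟨locP_mono (P := @Etale) (fun _ _ g (_ : Etale g) => (inferInstance : Flat g)) (locP_of_repWith h'),
      locP_mono (P := @Etale) (fun _ _ g (_ : Etale g) => (inferInstance : LocallyOfFinitePresentation g))
        (locP_of_repWith h')⟩
  have hX' := isAlgSpace_quotSp hA hNs hrel (hfl _ hse) (hfl _ hae)
  have sqX' := isPullback_quotSpπ hA hNs hrel (hfl _ hse) (hfl _ hae)
  obtain ⟨m, hm⟩ : ∃ m : (yon S).obj N ⟶ quotSp ((yon S).map sN) ((yon S).map a),
      m = quotSpπ ((yon S).map sN) ((yon S).map a) := ⟨_, rfl⟩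
  rw [← hm] at sqX'
  have hν' : (yon S).map sN ≫ (yon S).map ν₀ ≫ q = (yon S).map a ≫ (yon S).map ν₀ ≫ q := by
    rw [← Functor.map_comp_assoc, ← Functor.map_comp_assoc, hsν, haν, Functor.map_comp, Functor.map_comp,
      Category.assoc, Category.assoc, hw]
  let ν' := quotSpDesc ((yon S).map ν₀ ≫ q) hν'
  have hmν : m ≫ ν' = (yon S).map ν₀ ≫ q := by rw [hm]; exact coequalizer.π_desc _ _
  have hmepi : Epi m := by rw [hm]; exact coequalizer.π_epi
  have hmls : Sheaf.IsLocallySurjective m := (Sheaf.isLocallySurjective_iff_epi m).2 hmepi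
  have sqN : IsPullback m ((yon S).map ν₀) ν' q := by
    let c : (yon S).obj N ⟶ pullback ν' q := pullback.lift m ((yon S).map ν₀) hmν
    have : Mono c := mono_of_yon_injective fun T x y hxy => by
      have h1 : x ≫ m = y ≫ m := by
        simpa [c] using congrArg (· ≫ pullback.fst ν' q) hxy
      have h2 : x ≫ (yon S).map ν₀ = y ≫ (yon S).map ν₀ := by
        simpa [c] using congrArg (· ≫ pullback.snd ν' q) hxy
      obtain ⟨x, rfl⟩ := (yon S).map_surjective x
      obtain ⟨y, rfl⟩ := (yon S).map_surjective y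
      obtain ⟨r, hr⟩ := (yon S).map_surjective (sqX'.lift _ _ h1)
      have hr1 : r ≫ a = x := (yon S).map_injective (by rw [Functor.map_comp, hr, sqX'.lift_fst])
      have hr2 : r ≫ sN = y := (yon S).map_injective (by rw [Functor.map_comp, hr, sqX'.lift_snd])
      rw [← Functor.map_comp, ← Functor.map_comp] at h2
      replace h2 := (yon S).map_injective h2
      have hρ : r ≫ ρ = x ≫ ν₀ ≫ e := rext _ _
        (by rw [Category.assoc, ← haν, reassoc_of% hr1, Category.assoc, Category.assoc, het, Category.comp_id])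
        (by rw [Category.assoc, ← hsν, reassoc_of% hr2, Category.assoc, Category.assoc, hes, Category.comp_id, h2])
      have : r = x ≫ eN := sA.hom_ext (by rw [hr1, Category.assoc, sA.lift_fst, Category.comp_id])
        (by rw [hρ, Category.assoc, sA.lift_snd])
      rw [← hr2, this, Category.assoc, heN, Category.comp_id]
    have : Sheaf.IsLocallySurjective c := isLocallySurjective_of_lifts c fun T ξ => by
      obtain ⟨T', k, n, hk, hn⟩ := exists_fppf_lift_of_locallySurjective m (ξ ≫ pullback.fst ν' q)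
      obtain ⟨n, rfl⟩ := (yon S).map_surjective n
      obtain ⟨v, hv⟩ := (yon S).map_surjective ((yon S).map k ≫ ξ ≫ pullback.snd ν' q)
      obtain ⟨p, hp1, hp2⟩ := rlift (n ≫ ν₀) v (by
        rw [Functor.map_comp, Category.assoc, ← hmν, reassoc_of% hn, hv, Category.assoc, Category.assoc,
          pullback.condition])
      let r : T' ⟶ A := sA.lift n p hp1.symm
      refine ⟨T', k, (yon S).map (r ≫ sN), hk, pullback.hom_ext ?_ ?_⟩
      · rw [Category.assoc, Category.assoc, pullback.lift_fst, Functor.map_comp, Category.assoc, ← sqX'.w,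
          ← Category.assoc, ← Functor.map_comp, sA.lift_fst, hn]
      · rw [Category.assoc, Category.assoc, pullback.lift_snd, ← Functor.map_comp, Category.assoc, hsν,
          sA.lift_snd_assoc, hp2, hv]
    have : IsIso c := isIso_of_mono_of_locallySurjective c
    exact (IsPullback.of_hasPullback ν' q).of_iso (asIso c).symm (Iso.refl _) (Iso.refl _) (Iso.refl _)
      (by simp [c]) (by simp [c]) (by simp) (by simp)
  -- the map from the source
  let Φ : ∀ ⦃T : Over S⦄, ((yon S).obj T ⟶ X) → ((yon S).obj T ⟶ quotSp ((yon S).map sN) ((yon S).map a)) → Prop :=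
    fun T z l => ∃ (v : (yon S).obj T ⟶ (yon S).obj U) (hv : z ≫ f = v ≫ q), l = pullback.lift z v hv ≫ fU ≫ m
  obtain ⟨f', hf'⟩ := exists_desc_rel Φ
    (fun T T' j z l ⟨v, hv, hl⟩ => ⟨(yon S).map j ≫ v, by rw [Category.assoc, hv, Category.assoc], by
      rw [hl, ← Category.assoc ((yon S).map j)]
      congr 1
      exact pullback.hom_ext (by simp) (by simp)⟩)
    (fun T z l l' ⟨v, hv, hl⟩ ⟨v', hv', hl'⟩ => by
      obtain ⟨v₀, hv₀⟩ := (yon S).map_surjective v
      obtain ⟨v₁, hv₁⟩ := (yon S).map_surjective v'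
      obtain ⟨p, hp1, hp2⟩ := rlift v₀ v₁ (by rw [hv₀, hv₁, ← hv, ← hv'])
      obtain ⟨x, hx⟩ := (yon S).map_surjective (pullback.lift z v hv ≫ fU)
      let r : T ⟶ A := sA.lift x p ((yon S).map_injective (by
        rw [Functor.map_comp, hx, Category.assoc, hfU, pullback.lift_snd, hp1, hv₀]))
      have h1 := htr _ z v v' hv hv' ((yon S).map r) (by rw [← Functor.map_comp, sA.lift_fst, hx])
        (by rw [← Functor.map_comp, ← Functor.map_comp, sA.lift_snd, hp1, hv₀])
        (by rw [← Functor.map_comp, ← Functor.map_comp, sA.lift_snd, hp2, hv₁])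
      rw [hl, hl', ← Category.assoc, ← Category.assoc, ← h1, ← hx, Category.assoc, ← sqX'.w,
        ← Functor.map_comp_assoc, sA.lift_fst])
    (fun T z => by
      obtain ⟨k, v, hk, hv⟩ : ∃ (k : hqe.rep.pullback (z ≫ f) ⟶ T) (v : hqe.rep.pullback (z ≫ f) ⟶ U),
          fppf k.left ∧ (yon S).map v ≫ q = (yon S).map k ≫ z ≫ f := by
        have : Etale (hqe.rep.snd (z ≫ f)).left := hqe.property_snd _
        have : Surjective (hqe.rep.snd (z ≫ f)).left := hqsur.property _ _ _ (hqe.rep.isPullback _)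
        exact ⟨hqe.rep.snd (z ≫ f), hqe.rep.fst' (z ≫ f), fppf_of_etale _, (hqe.rep.isPullback' (z ≫ f)).w⟩
      refine ⟨Sieve.generate (Presieve.singleton k),
        mem_J_of_fppf k hk _ ⟨_, 𝟙 _, k, Presieve.singleton_self k, Category.id_comp _⟩, ?_⟩
      rintro T'' _ ⟨_, ψ, _, ⟨⟩, rfl⟩
      exact ⟨_, (yon S).map (ψ ≫ v), by rw [Functor.map_comp, Functor.map_comp, Category.assoc, Category.assoc,
        Category.assoc, hv], rfl⟩)
  have hfst : fU ≫ m = pullback.fst f q ≫ f' := hom_ext_yon _ _ fun T p => by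
    have h2 : (p ≫ pullback.fst f q) ≫ f = (p ≫ pullback.snd f q) ≫ q := by
      rw [Category.assoc, Category.assoc, pullback.condition]
    rw [← Category.assoc p (pullback.fst f q), hf' _ _ ⟨p ≫ pullback.snd f q, h2, rfl⟩]
    congr 1
    exact pullback.hom_ext (by simp) (by simp)
  have hfν : f' ≫ ν' = f := by
    have : Sheaf.IsLocallySurjective (pullback.fst f q) := isLocallySurjective_of_etale_surjective
      (repWith_fst f hqe) (repWith_fst f hqsur)
    have : Epi (pullback.fst f q) := Sheaf.epi_of_isLocallySurjective _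
    rw [← cancel_epi (pullback.fst f q), ← Category.assoc, ← hfst, Category.assoc, hmν, ← Category.assoc, hfU,
      pullback.condition]
  have hme : RepWith @Etale m := repWith_of_isPullback sqN.flip hqe
  have hms' : RepWith @Surjective m := repWith_of_isPullback sqN.flip hqsur
  refine ⟨_, ν', m, f', hX', sqN, hfν, ?_, hme, hms'⟩
  rw [hpU, Category.assoc, hfst, ← Category.assoc]
  simp

end Groth.Agent.AlgSpQMod
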