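import Groth.Agent.AlgSpQMod.Thicken

/-!
# Pairs of functions as functions on a disjoint union over a chart
-/

set_option autoImplicit false
set_option backward.isDefEq.respectTransparency false
set_option backward.isDefEq.respectTransparency.types false
set_option maxHeartbeats 400000

universe u

open CategoryTheory CategoryTheory.Limits AlgebraicGeometry AlgSp Groth.Agent.AlgSpLib TopologicalSpace

namespace Groth.Agent.AlgSpQMod

variable {S : Scheme.{u}} {Y : Sp S} {P X Q : Over S} {gP : (yon S).obj P ⟶ Y} {g : (yon S).obj X ⟶ Y}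
  {gQ : (yon S).obj Q ⟶ Y} (hP : RepWith (@QuasiCompact ⊓ @QuasiSeparated) gP)
  (hg : RepWith (@QuasiCompact ⊓ @QuasiSeparated) g) (hQ : RepWith (@QuasiCompact ⊓ @QuasiSeparated) gQ)
  (jP : P ⟶ X) (jQ : Q ⟶ X) [IsOpenImmersion jP.left] [IsOpenImmersion jQ.left]
  (eP : (yon S).map jP ≫ g = gP) (eQ : (yon S).map jQ ≫ g = gQ)

theorem isOpenImmersion_preFun (c : Chart Y) :
    IsOpenImmersion (preFun hg hP ((yon S).map jP) eP c).left :=
  MorphismProperty.of_isPullback (P := @IsOpenImmersion)
    ((isPullback_preFun' hg hP jP eP c).map (Over.forget S)).flip.flip ‹_›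

theorem range_preFun (c : Chart Y) :
    Set.range (preFun hg hP ((yon S).map jP) eP c).left =
      (hg.rep.fst' c.c).left ⁻¹' Set.range jP.left :=
  range_of_isPullback ((isPullback_preFun' hg hP jP eP c).map (Over.forget S))

variable (hc : IsCompl (Set.range jP.left) (Set.range jQ.left))
include hc

theorem exists_glue_fun (c : Chart Y) (a : Γ((pre gP hP c).left, ⊤)) (b : Γ((pre gQ hQ c).left, ⊤)) :
    ∃ x, (preFun hg hP ((yon S).map jP) eP c).left.appTop.hom x = a ∧
      (preFun hg hQ ((yon S).map jQ) eQ c).left.appTop.hom x = b := by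
  haveI := isOpenImmersion_preFun hP hg jP eP c
  haveI := isOpenImmersion_preFun hQ hg jQ eQ c
  refine exists_fun_of_isCompl _ _ ?_ a b
  have h := hc.map (CompleteLatticeHom.setPreimage (hg.rep.fst' c.c).left)
  simp only [CompleteLatticeHom.setPreimage_apply] at h
  rw [← range_preFun hP hg jP eP c, ← range_preFun hQ hg jQ eQ c] at h
  simpa [isCompl_iff, disjoint_iff, codisjoint_iff, ← Opens.coe_inj] using h

theorem glue_fun_ext (c : Chart Y) {x y : Γ((pre g hg c).left, ⊤)}
    (ha : (preFun hg hP ((yon S).map jP) eP c).left.appTop.hom x =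
      (preFun hg hP ((yon S).map jP) eP c).left.appTop.hom y)
    (hb : (preFun hg hQ ((yon S).map jQ) eQ c).left.appTop.hom x =
      (preFun hg hQ ((yon S).map jQ) eQ c).left.appTop.hom y) : x = y := by
  haveI := isOpenImmersion_preFun hP hg jP eP c
  haveI := isOpenImmersion_preFun hQ hg jQ eQ c
  refine fun_ext_of_isCompl _ _ ?_ ha hb
  have h := hc.map (CompleteLatticeHom.setPreimage (hg.rep.fst' c.c).left)
  simp only [CompleteLatticeHom.setPreimage_apply] at h
  rw [← range_preFun hP hg jP eP c, ← range_preFun hQ hg jQ eQ c] at h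
  simpa [isCompl_iff, disjoint_iff, codisjoint_iff, ← Opens.coe_inj] using h

variable {Z : Sp S} {ν : Z ⟶ Y} {hν : RepWith (@QuasiCompact ⊓ @QuasiSeparated) ν}
  (q : (yon S).obj Q ⟶ Z) (hq : q ≫ ν = gQ)

/-- A function on one piece and a function of the space of the other give a function on the union. -/
noncomputable def pairFun : QMod.Map ((affMod gP hP).prod (affMod ν hν)) (affMod g hg) where
  app c :=
    { toFun := fun ab => (exists_glue_fun hP hg hQ jP jQ eP eQ hc c ab.1
        ((preFun hν hQ q hq c).left.appTop.hom ab.2)).choose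
      map_add' := fun x y => by
        refine glue_fun_ext hP hg hQ jP jQ eP eQ hc c ?_ ?_
        · rw [(exists_glue_fun hP hg hQ jP jQ eP eQ hc c _ _).choose_spec.1]
          exact ((map_add _ _ _).trans (congrArg₂ (· + ·)
            (exists_glue_fun hP hg hQ jP jQ eP eQ hc c _ _).choose_spec.1
            (exists_glue_fun hP hg hQ jP jQ eP eQ hc c _ _).choose_spec.1)).symm
        · rw [(exists_glue_fun hP hg hQ jP jQ eP eQ hc c _ _).choose_spec.2]
          exact ((map_add _ _ _).trans ((congrArg₂ (· + ·)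
            (exists_glue_fun hP hg hQ jP jQ eP eQ hc c _ _).choose_spec.2
            (exists_glue_fun hP hg hQ jP jQ eP eQ hc c _ _).choose_spec.2).trans (map_add _ _ _).symm)).symm
      map_smul' := fun r x => by
        refine glue_fun_ext hP hg hQ jP jQ eP eQ hc c ?_ ?_
        · rw [(exists_glue_fun hP hg hQ jP jQ eP eQ hc c _ _).choose_spec.1]
          exact (((pullFun hg hP ((yon S).map jP) eP).app c).map_smul r _).trans
            (congrArg (fun z : (affMod gP hP).M c => r • z)
              (exists_glue_fun hP hg hQ jP jQ eP eQ hc c _ _).choose_spec.1) |>.symm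
        · rw [(exists_glue_fun hP hg hQ jP jQ eP eQ hc c _ _).choose_spec.2]
          exact ((((pullFun hg hQ ((yon S).map jQ) eQ).app c).map_smul r _).trans
            ((congrArg (fun z : (affMod gQ hQ).M c => r • z)
              (exists_glue_fun hP hg hQ jP jQ eP eQ hc c _ _).choose_spec.2).trans
              (((pullFun hν hQ q hq).app c).map_smul r _).symm)).symm }
  nat {d c} h x := by
    refine glue_fun_ext hP hg hQ jP jQ eP eQ hc d ?_ ?_
    · refine ((pullFun hg hP ((yon S).map jP) eP).nat h _).symm.trans ?_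
      exact (congrArg ((affMod gP hP).map h)
        (exists_glue_fun hP hg hQ jP jQ eP eQ hc c _ _).choose_spec.1).trans
          (exists_glue_fun hP hg hQ jP jQ eP eQ hc d _ _).choose_spec.1.symm
    · refine ((pullFun hg hQ ((yon S).map jQ) eQ).nat h _).symm.trans ?_
      exact (congrArg ((affMod gQ hQ).map h)
        (exists_glue_fun hP hg hQ jP jQ eP eQ hc c _ _).choose_spec.2).trans
          (((pullFun hν hQ q hq).nat h x.2).trans (exists_glue_fun hP hg hQ jP jQ eP eQ hc d _ _).choose_spec.2.symm)

theorem pairFun_fst (c : Chart Y) (ab : Γ((pre gP hP c).left, ⊤) × Γ((pre ν hν c).left, ⊤)) :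
    (preFun hg hP ((yon S).map jP) eP c).left.appTop.hom ((pairFun hP hg hQ jP jQ eP eQ hc q hq).app c ab) = ab.1 :=
  (exists_glue_fun hP hg hQ jP jQ eP eQ hc c _ _).choose_spec.1

theorem pairFun_snd (c : Chart Y) (ab : Γ((pre gP hP c).left, ⊤) × Γ((pre ν hν c).left, ⊤)) :
    (preFun hg hQ ((yon S).map jQ) eQ c).left.appTop.hom ((pairFun hP hg hQ jP jQ eP eQ hc q hq).app c ab) =
      (preFun hν hQ q hq c).left.appTop.hom ab.2 :=
  (exists_glue_fun hP hg hQ jP jQ eP eQ hc c _ _).choose_spec.2

omit hc in
/-- A covering of the space pulls back to a covering on each chart. -/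
theorem preFun_cover (hq1 : RepWith @Etale q) (hq2 : RepWith @Surjective q) (hq3 : RepWith @QuasiCompact q)
    (c : Chart Y) : Etale (preFun hν hQ q hq c).left ∧ Surjective (preFun hν hQ q hq c).left ∧
      QuasiCompact (preFun hν hQ q hq c).left :=
  ⟨hq1.2 _ _ _ (isPullback_preFun hν hQ q hq c), hq2.2 _ _ _ (isPullback_preFun hν hQ q hq c),
    hq3.2 _ _ _ (isPullback_preFun hν hQ q hq c)⟩

end Groth.Agent.AlgSpQMod
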