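import Groth.Agent.AlgSpQMod.Ker
import Groth.Agent.AlgSpQMod.AffineGlue
import Groth.Agent.AlgSpDec.ClosedSub
import Mathlib.AlgebraicGeometry.Morphisms.ClosedImmersion

/-!
# Finitely generated ideals on charts and the closed subspaces they cut out
-/

set_option autoImplicit false
set_option backward.isDefEq.respectTransparency false
set_option backward.isDefEq.respectTransparency.types false
set_option maxHeartbeats 400000

universe u

open CategoryTheory CategoryTheory.Limits AlgebraicGeometry AlgSp Groth.Agent.AlgSpLib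

namespace Groth.Agent.AlgSpQMod

variable {S : Scheme.{u}} {X Y : Sp S}

/-- The structure module. -/
noncomputable def unitMod (Y : Sp S) : QMod.{u, u} Y where
  M c := c.R
  grp _ := inferInstance
  mod c := Semiring.toModule
  map h := h.φ.toAddMonoidHom
  map_id c x := by simp [Chart.Hom.id, Chart.Hom.φ]
  map_comp s h x := by rw [Chart.Hom.φ_comp]; rfl
  bc {d c} h := isBC_of_isPushout (a := 𝟙 _) (b := 𝟙 _) (g := CommRingCat.ofHom h.φ)
    (IsPushout.of_vert_isIso ⟨by simp⟩)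

/-- The map from the structure module to the functions of a morphism. -/
noncomputable def resMap (f : X ⟶ Y) (hf : RepWith (@QuasiCompact ⊓ @QuasiSeparated) f) :
    QMod.Map (unitMod Y) (affMod f hf) where
  app c :=
    { toFun := (preπ f hf c).left.appTop.hom
      map_add' := map_add _
      map_smul' := fun a x => by exact RingHom.map_mul (preπ f hf c).left.appTop.hom a x }
  nat {d c} h x :=
    congrArg (fun m : pre f hf d ⟶ c.W => m.left.appTop.hom x) (preMap_snd f hf h)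

/-- A stable finitely generated ideal inside the kernel. -/
theorem exists_fg_ideal [QuasiSeparatedSpace ↥S] (f : X ⟶ Y) (hf : RepWith (@QuasiCompact ⊓ @QuasiSeparated) f)
    (hY : IsAlgSpace Y) (hqc : IsQuasiCompactSp Y) (hqs : IsQuasiSeparatedSp Y) (u : Chart Y) (T : Finset u.R)
    (hT : ∀ x ∈ T, (preπ f hf u).left.appTop.hom x = 0) :
    ∃ J : Ideal u.R, J.FG ∧ J ≤ RingHom.ker (preπ f hf u).left.appTop.hom ∧ (T : Set u.R) ⊆ J ∧
      ∀ (D : Chart Y) (s t : Chart.Hom D u), J.map s.φ = J.map t.φ := by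
  obtain ⟨N, hN, hle, hTN, hst⟩ := (resMap f hf).exists_fg_stable hY hqc hqs u T hT
  exact ⟨N, hN, hle, hTN, hst⟩

variable (u : Chart Y)

/-- The closed subscheme of a chart cut out by an ideal. -/
noncomputable abbrev idealSpec (J : Ideal u.R) : Over S :=
  Over.mk (Spec.map (CommRingCat.ofHom (Ideal.Quotient.mk J)) ≫ u.W.left.isoSpec.inv ≫ u.W.hom)

/-- Its inclusion. -/
noncomputable abbrev idealι (J : Ideal u.R) : idealSpec u J ⟶ u.W :=
  CategoryTheory.Over.homMk (Spec.map (CommRingCat.ofHom (Ideal.Quotient.mk J)) ≫ u.W.left.isoSpec.inv)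
    (Category.assoc _ _ _)

instance (J : Ideal u.R) : IsClosedImmersion (idealι u J).left := by
  change IsClosedImmersion (Spec.map _ ≫ u.W.left.isoSpec.inv)
  infer_instance

instance (J : Ideal u.R) : IsAffine (idealSpec u J).left := inferInstanceAs (IsAffine (Spec _))

theorem appTop_idealι_eq_zero {J : Ideal u.R} {j : u.R} (hj : j ∈ J) : (idealι u J).left.appTop.hom j = 0 := by
  let i := (Scheme.ΓSpecIso (CommRingCat.of u.R)).inv.hom j
  have hi : u.W.left.isoSpec.hom.appTop.hom i = j := by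
    change u.W.left.toSpecΓ.appTop.hom i = j
    rw [Scheme.toSpecΓ_appTop]
    exact congrArg (fun m : CommRingCat.of u.R ⟶ CommRingCat.of u.R => m.hom j) (Scheme.ΓSpecIso _).inv_hom_id
  rw [← hi]
  have e : (idealι u J).left ≫ u.W.left.isoSpec.hom = Spec.map (CommRingCat.ofHom (Ideal.Quotient.mk J)) := by
    change (Spec.map _ ≫ u.W.left.isoSpec.inv) ≫ _ = _
    rw [Category.assoc, Iso.inv_hom_id]
    exact Category.comp_id _
  refine (congrArg (fun m : Spec (.of (u.R ⧸ J)) ⟶ Spec (.of u.R) => m.appTop.hom i) e).trans ?_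
  refine (congrArg (fun m : CommRingCat.of u.R ⟶ Γ(Spec (.of (u.R ⧸ J)), ⊤) => m.hom j)
    (Scheme.ΓSpecIso_inv_naturality (CommRingCat.ofHom (Ideal.Quotient.mk J)))).symm.trans ?_
  change (Scheme.ΓSpecIso (CommRingCat.of (u.R ⧸ J))).inv.hom (Ideal.Quotient.mk J j) = 0
  rw [Ideal.Quotient.eq_zero_iff_mem.2 hj]
  exact map_zero _

theorem factor_iff {T : Over S} (x : T ⟶ u.W) (J : Ideal u.R) :
    (∃ l, l ≫ idealι u J = x) ↔ ∀ j ∈ J, x.left.appTop.hom j = 0 := by
  refine ⟨?_, fun h => ?_⟩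
  · rintro ⟨l, rfl⟩ j hj
    change l.left.appTop.hom ((idealι u J).left.appTop.hom j) = 0
    rw [appTop_idealι_eq_zero u hj, map_zero]
  · let φ : CommRingCat.of (u.R ⧸ J) ⟶ Γ(T.left, ⊤) := CommRingCat.ofHom (Ideal.Quotient.lift J x.left.appTop.hom h)
    have e : (T.left.toSpecΓ ≫ Spec.map φ) ≫ Spec.map (CommRingCat.ofHom (Ideal.Quotient.mk J)) ≫
        u.W.left.isoSpec.inv = x.left := by
      rw [Category.assoc, ← Spec.map_comp_assoc,
        show CommRingCat.ofHom (Ideal.Quotient.mk J) ≫ φ = x.left.appTop from rfl,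
        ← Scheme.toSpecΓ_naturality_assoc]
      simp [Scheme.isoSpec]
    exact ⟨CategoryTheory.Over.homMk (T.left.toSpecΓ ≫ Spec.map φ) (by
      change (T.left.toSpecΓ ≫ Spec.map φ) ≫ Spec.map _ ≫ u.W.left.isoSpec.inv ≫ u.W.hom = T.hom
      rw [← Over.w x, ← e]
      simp only [Category.assoc]), Over.OverMorphism.ext e⟩

/-- A stable ideal cuts out a closed subspace. -/
theorem exists_closed_sub (hY : IsAlgSpace Y) (hu : RepWith @Surjective u.c) (J : Ideal u.R)
    (hJ : ∀ (D : Chart Y) (s t : Chart.Hom D u), J.map s.φ = J.map t.φ) :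
    ∃ (Z : Space S) (j : Z.obj ⟶ Y) (q : (yon S).obj (idealSpec u J) ⟶ Z.obj),
      RepWith @IsClosedImmersion j ∧ IsPullback q ((yon S).map (idealι u J)) j u.c ∧
      RepWith @Etale q ∧ RepWith @Surjective q := by
  refine AlgSpDec.exists_closed_subspace hY u.et hu fun T x y hxy hx => ?_
  haveI : Mono (idealι u J).left := inferInstance
  rw [factor_iff] at hx
  have sqR := u.et.rep.isPullback' u.c
  let R := u.et.rep.pullback u.c
  obtain ⟨r, hr1, hr2⟩ : ∃ r : T ⟶ R, r ≫ u.et.rep.fst' u.c = x ∧ r ≫ u.et.rep.snd u.c = y :=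
    ⟨u.et.rep.lift' x y hxy, u.et.rep.lift'_fst _ _ _, u.et.rep.lift'_snd _ _ _⟩
  have key : ∀ D : R.left.affineOpens, ∃ l, l ≫ idealι u J = opnι T (r.left ⁻¹ᵁ D.1) ≫ y := by
    intro D
    have hse : Etale (u.et.rep.snd u.c).left := u.et.property_snd u.c
    let C : Chart Y := ⟨opn R D.1, D.2, (yon S).map (opnι R D.1 ≫ u.et.rep.snd u.c) ≫ u.c,
      repWith_comp ((repWith_yon_map_iff _ _).2
        (inferInstanceAs (Etale (D.1.ι ≫ (u.et.rep.snd u.c).left)))) u.et⟩
    let s : Chart.Hom C u := ⟨opnι R D.1 ≫ u.et.rep.snd u.c, rfl⟩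
    let t : Chart.Hom C u := ⟨opnι R D.1 ≫ u.et.rep.fst' u.c, by
      change _ = (yon S).map _ ≫ u.c
      rw [Functor.map_comp, Functor.map_comp, Category.assoc, Category.assoc, sqR.w]⟩
    let rD : opn T (r.left ⁻¹ᵁ D.1) ⟶ opn R D.1 := CategoryTheory.Over.homMk (r.left ∣_ D.1) (by
      change _ ≫ D.1.ι ≫ R.hom = _ ≫ T.hom
      rw [morphismRestrict_ι_assoc, Over.w r])
    have hrD : rD ≫ opnι R D.1 = opnι T (r.left ⁻¹ᵁ D.1) ≫ r := Over.OverMorphism.ext (morphismRestrict_ι _ _)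
    have e1 : rD ≫ s.k = opnι T (r.left ⁻¹ᵁ D.1) ≫ y := by
      change rD ≫ opnι R D.1 ≫ _ = _
      rw [reassoc_of% hrD, hr2]
    have e2 : rD ≫ t.k = opnι T (r.left ⁻¹ᵁ D.1) ≫ x := by
      change rD ≫ opnι R D.1 ≫ _ = _
      rw [reassoc_of% hrD, hr1]
    rw [factor_iff, ← e1]
    intro j hj
    have hle : J.map t.φ ≤ RingHom.ker rD.left.appTop.hom := by
      rw [Ideal.map_le_iff_le_comap]
      intro k hk
      change rD.left.appTop.hom (t.k.left.appTop.hom k) = 0
      refine (congrArg (fun m : opn T (r.left ⁻¹ᵁ D.1) ⟶ u.W => m.left.appTop.hom k) e2).trans ?_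
      change (opnι T (r.left ⁻¹ᵁ D.1)).left.appTop.hom (x.left.appTop.hom k) = 0
      rw [hx k hk, map_zero]
    exact hle ((hJ C s t).le (Ideal.mem_map_of_mem s.φ hj))
  choose l hl using key
  have hU : TopologicalSpace.IsOpenCover fun D : R.left.affineOpens => r.left ⁻¹ᵁ D.1 :=
    (r.left.preimage_iSup _).symm.trans (by rw [iSup_affineOpens_eq_top]; rfl)
  let 𝒰 := T.left.openCoverOfIsOpenCover _ hU
  have hag : ∀ D E, pullback.fst (𝒰.f D) (𝒰.f E) ≫ (l D).left = pullback.snd (𝒰.f D) (𝒰.f E) ≫ (l E).left :=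
    fun D E => by
    rw [← cancel_mono (idealι u J).left, Category.assoc, Category.assoc, ← Over.comp_left, ← Over.comp_left, hl, hl]
    change _ ≫ 𝒰.f D ≫ y.left = _ ≫ 𝒰.f E ≫ y.left
    rw [pullback.condition_assoc]
  let σ := 𝒰.glueMorphisms (fun D => (l D).left) hag
  have e : σ ≫ (idealι u J).left = y.left := 𝒰.hom_ext _ _ fun D => by
    rw [← Category.assoc, 𝒰.ι_glueMorphisms]
    exact congrArg Over.Hom.left (hl D)
  exact ⟨CategoryTheory.Over.homMk σ (by rw [← Over.w (idealι u J), reassoc_of% e]; exact Over.w y),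
    Over.OverMorphism.ext e⟩

end Groth.Agent.AlgSpQMod
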