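import Groth.Agent.AlgSpQMod.GenStages
import Groth.Agent.AlgSpQMod.AwayFinite
import Groth.Agent.AlgSpDec.PointsSpectral

/-!
# Morphisms of spaces affine over a base that are isomorphisms over an open subspace
-/

set_option autoImplicit false
set_option backward.isDefEq.respectTransparency false
set_option backward.isDefEq.respectTransparency.types false
set_option maxHeartbeats 400000

universe u

open CategoryTheory CategoryTheory.Limits AlgebraicGeometry AlgSp Groth.Agent.AlgSpLib TopologicalSpace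

namespace Groth.Agent.AlgSpQMod

/-- A base change along a map into opens over which a morphism is an isomorphism is an isomorphism. -/
theorem isIso_of_range_subset {P Z P' Z' : Scheme.{u}} {m : P ⟶ Z} {ι : Type u} (B : ι → Z.Opens)
    (h : ∀ i, IsIso (m ∣_ B i)) {li : Z' ⟶ Z} (hr : Set.range li ⊆ ⋃ i, (B i : Set Z)) {lx : P' ⟶ P}
    {m' : P' ⟶ Z'} (sq : IsPullback lx m' m li) : IsIso m' := by
  have htop : iSup (fun i => li ⁻¹ᵁ B i) = ⊤ := top_le_iff.1 fun x _ => by
    obtain ⟨i, hi⟩ := Set.mem_iUnion.1 (hr ⟨x, rfl⟩)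
    exact Opens.mem_iSup.2 ⟨i, hi⟩
  refine (IsZariskiLocalAtTarget.iff_of_iSup_eq_top (P := MorphismProperty.isomorphisms Scheme.{u})
    (fun i => li ⁻¹ᵁ B i) htop).2 fun i => ?_
  let W := li ⁻¹ᵁ B i
  let l : (W : Scheme.{u}) ⟶ (B i : Scheme.{u}) := li ∣_ B i
  have s1 : IsPullback ((m' ⁻¹ᵁ W).ι ≫ lx) (m' ∣_ W) m (l ≫ (B i).ι) := by
    rw [show l ≫ (B i).ι = W.ι ≫ li from morphismRestrict_ι li (B i)]
    exact (isPullback_morphismRestrict m' W).flip.paste_horiz sq
  have s2 := (isPullback_morphismRestrict m (B i)).flip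
  have w : ((m' ⁻¹ᵁ W).ι ≫ lx) ≫ m = ((m' ∣_ W) ≫ l) ≫ (B i).ι := by rw [s1.w, Category.assoc]
  have s3 : IsPullback (s2.lift _ _ w) (m' ∣_ W) (m ∣_ B i) l :=
    IsPullback.of_right (by rw [IsPullback.lift_fst]; exact s1) (IsPullback.lift_snd _ _ _ _) s2
  exact MorphismProperty.of_isPullback (P := MorphismProperty.isomorphisms Scheme.{u}) s3 (h i)

variable {S : Scheme.{u}} {Y V Z Pi : Sp S} {u : Chart Y} {j : V ⟶ Y} (hj : RepWith @IsOpenImmersion j)
  {t : Z ⟶ Y} (ht : RepWith (@QuasiCompact ⊓ @QuasiSeparated) t)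

/-- The part of a chart over an open subspace. -/
noncomputable abbrev openC (u : Chart Y) : (yon S).obj (hj.rep.pullback u.c) ⟶ Y :=
  (yon S).map (hj.rep.snd u.c) ≫ u.c

/-- The part of the preimage of a chart over an open subspace. -/
noncomputable abbrev openPre (u : Chart Y) : Over S := ht.rep.pullback (openC hj u)

/-- Its projection. -/
noncomputable abbrev openπ (u : Chart Y) : openPre hj ht u ⟶ hj.rep.pullback u.c := ht.rep.snd (openC hj u)

/-- Its inclusion into the preimage of the chart. -/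
noncomputable def openι (u : Chart Y) : openPre hj ht u ⟶ pre t ht u :=
  ht.rep.lift (ht.rep.fst (openC hj u)) (openπ hj ht u ≫ hj.rep.snd u.c)
    (by rw [Functor.map_comp, Category.assoc]; exact ht.rep.w (openC hj u))

theorem openι_fst (u : Chart Y) :
    (yon S).map (openι hj ht u) ≫ ht.rep.fst u.c = ht.rep.fst (openC hj u) :=
  ht.rep.lift_fst _ _ _

theorem openι_snd (u : Chart Y) : openι hj ht u ≫ preπ t ht u = openπ hj ht u ≫ hj.rep.snd u.c :=
  ht.rep.lift_snd _ _ _

theorem isPullback_openι (u : Chart Y) :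
    IsPullback (openι hj ht u) (openπ hj ht u) (preπ t ht u) (hj.rep.snd u.c) := by
  refine IsPullback.of_map (yon S) (openι_snd hj ht u) (IsPullback.of_right ?_ ?_ (ht.rep.isPullback u.c))
  · rw [openι_fst]
    exact ht.rep.isPullback (openC hj u)
  · rw [← Functor.map_comp, openι_snd, Functor.map_comp]

theorem exists_open_pullback {q₁ : Pi ⟶ Z} {q₂ : Pi ⟶ V} (sq : IsPullback q₁ q₂ t j) (u : Chart Y) :
    ∃ b : (yon S).obj (openPre hj ht u) ⟶ Pi, b ≫ q₁ = ht.rep.fst (openC hj u) ∧
      IsPullback b ((yon S).map (openπ hj ht u)) q₂ (hj.rep.fst u.c) := by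
  have w : ht.rep.fst (openC hj u) ≫ t = ((yon S).map (openπ hj ht u) ≫ hj.rep.fst u.c) ≫ j := by
    rw [Category.assoc, hj.rep.w u.c]
    exact ht.rep.w (openC hj u)
  refine ⟨sq.lift _ _ w, sq.lift_fst _ _ _, IsPullback.of_right ?_ (sq.lift_snd _ _ _) sq⟩
  rw [sq.lift_fst, hj.rep.w u.c]
  exact ht.rep.isPullback (openC hj u)

variable [QuasiSeparatedSpace ↥S]

/-- On basic opens inside an open subspace over which a map is finite and finitely presented, so is the map on a
chart. -/
theorem awayMap_preπ {PV : Sp S} {pv₁ : PV ⟶ Z} {pv₂ : PV ⟶ V} (hPV : IsPullback pv₁ pv₂ t j)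
    (hta : RepWith @IsAffineHom t) (hZ : IsAlgSpace Z) (hV : IsAlgSpace V) (hY : IsAlgSpace Y) (u : Chart Y)
    (hfin : IsFiniteMor pv₂) (hfp : LocP @LocallyOfFinitePresentation pv₂) (r : u.R)
    (hr : (u.W.left.basicOpen r : Set u.W.left) ⊆ Set.range (hj.rep.snd u.c).left) :
    (Localization.awayMap (preπ t (qcqs_of_affine hta) u).left.appTop.hom r).Finite ∧
      (Localization.awayMap (preπ t (qcqs_of_affine hta) u).left.appTop.hom r).FinitePresentation := by
  have ht := qcqs_of_affine hta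
  haveI : IsAffineHom (preπ t ht u).left := hta.2 u.c _ _ (ht.rep.isPullback u.c)
  haveI : IsAffine (pre t ht u).left := isAffine_of_isAffineHom (preπ t ht u).left
  obtain ⟨b, -, sqb⟩ := exists_open_pullback hj ht hPV u
  have hPValg : IsAlgSpace PV := isAlgSpace_of_isPullback hPV hZ hV hY
  haveI : IsFinite (openπ hj ht u).left := (AlgSpDec.isFiniteMor_iff_repWith.1 hfin).2 _ _ _ sqb
  haveI : LocallyOfFinitePresentation (openπ hj ht u).left :=
    (locP_of_isPullback sqb hPValg hV (IsAlgSpace.yon_obj _) hfp) (𝟙 _) (𝟙 _) (openπ hj ht u)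
      (AlgSp.repWith_id _ _) (AlgSp.repWith_id _ _) (by simp)
  haveI : IsOpenImmersion (hj.rep.snd u.c).left := hj.property_snd u.c
  let B := u.W.left.basicOpen r
  let l : (B : Scheme.{u}) ⟶ (hj.rep.pullback u.c).left :=
    IsOpenImmersion.lift (hj.rep.snd u.c).left B.ι (by rw [Scheme.Opens.range_ι]; exact hr)
  have hl : l ≫ (hj.rep.snd u.c).left = B.ι := IsOpenImmersion.lift_fac _ _ _
  have s1 := (isPullback_morphismRestrict (preπ t ht u).left B).flip
  have s2 : IsPullback (openι hj ht u).left (openπ hj ht u).left (preπ t ht u).left (hj.rep.snd u.c).left :=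
    (isPullback_openι hj ht u).map (Over.forget S)
  have w : ((preπ t ht u).left ⁻¹ᵁ B).ι ≫ (preπ t ht u).left =
      (((preπ t ht u).left ∣_ B) ≫ l) ≫ (hj.rep.snd u.c).left := by rw [Category.assoc, hl, s1.w]
  have s3 : IsPullback (s2.lift _ _ w) ((preπ t ht u).left ∣_ B) (openπ hj ht u).left l :=
    IsPullback.of_right (by rw [IsPullback.lift_fst, hl]; exact s1) (IsPullback.lift_snd _ _ _ _) s2
  haveI : IsFinite ((preπ t ht u).left ∣_ B) := MorphismProperty.of_isPullback (P := @IsFinite) s3 inferInstance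
  haveI : LocallyOfFinitePresentation ((preπ t ht u).left ∣_ B) :=
    MorphismProperty.of_isPullback (P := @LocallyOfFinitePresentation) s3 inferInstance
  exact awayMap_finite_fp (preπ t ht u).left r

omit [QuasiSeparatedSpace ↥S]

/-- A map over a base bijective on localized functions of a chart is an isomorphism over the open subspace. -/
theorem isIso_over_open {X : Sp S} {f : X ⟶ Y} (hfa : RepWith @IsAffineHom f) (hta : RepWith @IsAffineHom t)
    (h : X ⟶ Z) (hh : h ≫ t = f) (hY : IsAlgSpace Y) (hX : IsAlgSpace X) (hZ : IsAlgSpace Z) (hV : IsAlgSpace V)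
    (hu : RepWith @Surjective u.c) (s : Finset u.R)
    (hs : Set.range (hj.rep.snd u.c).left ⊆ ⋃ r : s, (u.W.left.basicOpen r.1 : Set u.W.left))
    (hsur : ∀ r ∈ s, ∀ x, ∃ n : ℕ, (preπ f (qcqs_of_affine hfa) u).left.appTop.hom r ^ n * x ∈
      Set.range (preFun (qcqs_of_affine hta) (qcqs_of_affine hfa) h hh u).left.appTop.hom)
    (hinj : ∀ r ∈ s, ∀ y, (preFun (qcqs_of_affine hta) (qcqs_of_affine hfa) h hh u).left.appTop.hom y = 0 →
      ∃ n : ℕ, (preπ t (qcqs_of_affine hta) u).left.appTop.hom r ^ n * y = 0)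
    {PV Pi : Sp S} {pv₁ : PV ⟶ X} {pv₂ : PV ⟶ V} (hPV : IsPullback pv₁ pv₂ f j) {q₁ : Pi ⟶ Z} {q₂ : Pi ⟶ V}
    (hPi : IsPullback q₁ q₂ t j) (k : PV ⟶ Pi) (hk₁ : k ≫ q₁ = pv₁ ≫ h) (hk₂ : k ≫ q₂ = pv₂) : IsIso k := by
  have hf := qcqs_of_affine hfa
  have ht := qcqs_of_affine hta
  haveI : IsAffineHom (preπ f hf u).left := hfa.2 u.c _ _ (hf.rep.isPullback u.c)
  haveI : IsAffineHom (preπ t ht u).left := hta.2 u.c _ _ (ht.rep.isPullback u.c)
  haveI : IsAffine (pre f hf u).left := isAffine_of_isAffineHom (preπ f hf u).left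
  haveI : IsAffine (pre t ht u).left := isAffine_of_isAffineHom (preπ t ht u).left
  obtain ⟨bi, hbi, sqi⟩ := exists_open_pullback hj ht hPi u
  obtain ⟨bx, hbx, sqx⟩ := exists_open_pullback hj hf hPV u
  let m := preFun ht hf h hh u
  let m' : openPre hj hf u ⟶ openPre hj ht u :=
    ht.rep.lift (hf.rep.fst (openC hj u) ≫ h) (openπ hj hf u)
      (by rw [Category.assoc, hh]; exact hf.rep.w (openC hj u))
  have hm'π : m' ≫ openπ hj ht u = openπ hj hf u := ht.rep.lift_snd _ _ _
  have hm'fst : (yon S).map m' ≫ ht.rep.fst (openC hj u) = hf.rep.fst (openC hj u) ≫ h := ht.rep.lift_fst _ _ _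
  have sqm : IsPullback (openι hj hf u) m' m (openι hj ht u) := by
    refine IsPullback.of_bot ?_ (ht.rep.hom_ext ?_ ?_) (isPullback_openι hj ht u)
    · rw [hm'π, preFun_snd]
      exact isPullback_openι hj hf u
    · rw [Functor.map_comp, Functor.map_comp, Category.assoc, Category.assoc, preFun_fst, openι_fst,
        ← Category.assoc, openι_fst, hm'fst]
    · rw [Category.assoc, Category.assoc, preFun_snd, openι_snd, openι_snd, reassoc_of% hm'π]
  haveI : IsIso m'.left := by
    refine isIso_of_range_subset (fun r : s => (pre t ht u).left.basicOpen ((preπ t ht u).left.appTop.hom r.1))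
      (fun r => ?_) ?_ (sqm.map (Over.forget S))
    · refine isIso_restrict_basicOpen m.left _ (fun x => ?_) (hinj r.1 r.2)
      rw [show m.left.appTop.hom ((preπ t ht u).left.appTop.hom r.1) = (preπ f hf u).left.appTop.hom r.1 from
        congrArg (fun g : pre f hf u ⟶ u.W => g.left.appTop.hom r.1) (preFun_snd ht hf h hh u)]
      exact hsur r.1 r.2 x
    · rintro _ ⟨z, rfl⟩
      have hz : (preπ t ht u).left ((openι hj ht u).left z) = (hj.rep.snd u.c).left ((openπ hj ht u).left z) :=
        congrArg (fun g : openPre hj ht u ⟶ u.W => g.left z) (openι_snd hj ht u)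
      obtain ⟨r, hr⟩ := Set.mem_iUnion.1 (hs ⟨_, hz.symm⟩)
      refine Set.mem_iUnion.2 ⟨r, ?_⟩
      change (openι hj ht u).left z ∈ (pre t ht u).left.basicOpen _
      rw [← Scheme.preimage_basicOpen_top]
      exact hr
  haveI : IsIso m' := by
    haveI : IsIso ((Over.forget S).map m') := inferInstanceAs (IsIso m'.left)
    exact isIso_of_reflects_iso m' (Over.forget S)
  have sqk : IsPullback bx ((yon S).map m') k bi := by
    refine IsPullback.of_bot ?_ (hPi.hom_ext ?_ ?_) sqi
    · rw [← Functor.map_comp, hm'π, hk₂]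
      exact sqx
    · rw [Category.assoc, Category.assoc, hk₁, reassoc_of% hbx, hbi, hm'fst]
    · rw [Category.assoc, Category.assoc, hk₂, sqi.w, sqx.w, ← Functor.map_comp_assoc, hm'π]
  exact AlgSpPts.descend_chart isLocalOnBase_fpqc_isomorphisms (isAlgSpace_of_isPullback hPV hX hV hY)
    (isAlgSpace_of_isPullback hPi hZ hV hY)
    (repWith_of_isPullback sqi.flip (repWith_of_isPullback (hj.rep.isPullback u.c).flip u.et))
    (repWith_of_isPullback sqi.flip (repWith_of_isPullback (hj.rep.isPullback u.c).flip hu))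
    sqk (inferInstanceAs (IsIso ((yon S).map m')))

end Groth.Agent.AlgSpQMod
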