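import Groth.Agent.AlgSpQMod.Built

/-!
# Kernels of maps of modules on charts
-/

set_option autoImplicit false
set_option backward.isDefEq.respectTransparency false
set_option backward.isDefEq.respectTransparency.types false

universe u v

open CategoryTheory CategoryTheory.Limits AlgebraicGeometry AlgSp Groth.Agent.AlgSpLib
open scoped TensorProduct

namespace Groth.Agent.AlgSpQMod

/-- Flat base change preserves kernels. -/
theorem isBaseChange_ker {A B : Type u} [CommRing A] [CommRing B] [Algebra A B] [Module.Flat A B]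
    {M MB N NB : Type v} [AddCommGroup M] [Module A M] [AddCommGroup MB] [Module A MB] [Module B MB]
    [IsScalarTower A B MB] [AddCommGroup N] [Module A N] [AddCommGroup NB] [Module A NB] [Module B NB]
    [IsScalarTower A B NB] (f : M →ₗ[A] MB) (hf : IsBaseChange B f) (g : N →ₗ[A] NB) (hg : IsBaseChange B g)
    (p : M →ₗ[A] N) (q : MB →ₗ[B] NB) (h : ∀ m, q (f m) = g (p m))
    (k : LinearMap.ker p →ₗ[A] LinearMap.ker q) (hk : ∀ m, (k m : MB) = f m) : IsBaseChange B k := by
  let ι := (LinearMap.ker p).subtype.baseChange B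
  let j : B ⊗[A] LinearMap.ker p →ₗ[B] MB := hf.equiv.toLinearMap ∘ₗ ι
  have hqe : ∀ z, q (hf.equiv z) = hg.equiv (p.lTensor B z) := fun z => by
    induction z with
    | zero => simp
    | add x y hx hy => simp only [map_add, hx, hy]
    | tmul b m => simp [IsBaseChange.equiv_tmul, h]
  have hex : Function.Exact (LinearMap.ker p).subtype p := by
    rw [LinearMap.exact_iff, Submodule.range_subtype]
  have hex' := Module.Flat.lTensor_exact B hex
  have hj : ∀ t, q (j t) = 0 := fun t => by
    change q (hf.equiv ((LinearMap.ker p).subtype.lTensor B t)) = 0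
    rw [hqe, hex'.apply_apply_eq_zero, map_zero]
  have hbij : Function.Bijective (LinearMap.codRestrict (LinearMap.ker q) j hj) := by
    refine ⟨fun x y hxy => ?_, fun y => ?_⟩
    · have h' : j x = j y := by simpa [Subtype.ext_iff] using hxy
      exact Module.Flat.lTensor_preserves_injective_linearMap (M := B) (LinearMap.ker p).subtype
        Subtype.val_injective (hf.equiv.injective h')
    · obtain ⟨t, ht⟩ := (hex' (hf.equiv.symm y.1)).1 (hg.equiv.injective (by
        rw [← hqe, LinearEquiv.apply_symm_apply, map_zero]; exact y.2))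
      refine ⟨t, Subtype.ext ?_⟩
      change hf.equiv ((LinearMap.ker p).subtype.lTensor B t) = _
      rw [ht, LinearEquiv.apply_symm_apply]
  refine IsBaseChange.of_equiv (LinearEquiv.ofBijective _ hbij) fun x => Subtype.ext ?_
  simp [j, ι, IsBaseChange.equiv_tmul, hk]

variable {S : Scheme.{u}} {Y : Sp S}

/-- A map of modules on charts. -/
structure QMod.Map (F G : QMod.{u, v} Y) where
  app : ∀ c, F.M c →ₗ[c.R] G.M c
  nat : ∀ {d c : Chart Y} (h : Chart.Hom d c) (x : F.M c), G.map h (app c x) = app d (F.map h x)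

variable {F G : QMod.{u, v} Y} (p : QMod.Map F G)

namespace QMod.Map

theorem map_mem {d c : Chart Y} (h : Chart.Hom d c) {x : F.M c} (hx : x ∈ LinearMap.ker (p.app c)) :
    F.map h x ∈ LinearMap.ker (p.app d) := by
  rw [LinearMap.mem_ker] at hx ⊢
  rw [← p.nat, hx, map_zero]

/-- The restriction to the kernels. -/
def kerMap {d c : Chart Y} (h : Chart.Hom d c) :
    LinearMap.ker (p.app c) →+ LinearMap.ker (p.app d) where
  toFun x := ⟨F.map h x.1, p.map_mem h x.2⟩
  map_zero' := Subtype.ext (map_zero _)
  map_add' x y := Subtype.ext (map_add _ _ _)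

/-- The kernel of a map of modules. -/
def ker : QMod.{u, v} Y where
  M c := LinearMap.ker (p.app c)
  grp _ := inferInstance
  mod _ := inferInstance
  map h := p.kerMap h
  map_id c x := Subtype.ext (F.map_id c x.1)
  map_comp s h x := Subtype.ext (F.map_comp s h x.1)
  bc {d c} h := by
    refine ⟨fun a x => Subtype.ext (F.map_smul h a x.1), ?_⟩
    letI : Algebra c.R d.R := h.φ.toAlgebra
    letI : Module c.R (F.M d) := Module.compHom _ h.φ
    letI : Module c.R (G.M d) := Module.compHom _ h.φ
    haveI : IsScalarTower c.R d.R (F.M d) := ⟨fun a b n => mul_smul (h.φ a) b n⟩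
    haveI : IsScalarTower c.R d.R (G.M d) := ⟨fun a b n => mul_smul (h.φ a) b n⟩
    haveI : Module.Flat c.R d.R := h.flat
    exact isBaseChange_ker { toFun := F.map h, map_add' := (F.map h).map_add, map_smul' := (F.bc h).1 } (F.bc h).2
      { toFun := G.map h, map_add' := (G.map h).map_add, map_smul' := (G.bc h).1 } (G.bc h).2
      (p.app c) (p.app d) (fun m => (p.nat h m).symm) _ (fun m => rfl)

theorem map_span {d c : Chart Y} (h : Chart.Hom d c) (N : Submodule c.R (LinearMap.ker (p.app c))) :
    (p.ker.Span h N).map (LinearMap.ker (p.app d)).subtype =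
      F.Span h (N.map (LinearMap.ker (p.app c)).subtype) := by
  change (Submodule.span d.R (p.kerMap h '' N)).map _ = Submodule.span d.R (F.map h '' _)
  rw [Submodule.map_span, Submodule.map_coe, Set.image_image, Set.image_image]
  rfl

/-- Finitely many elements of a kernel lie in a stable finitely generated submodule of the kernel. -/
theorem exists_fg_stable [QuasiSeparatedSpace ↥S] (hY : IsAlgSpace Y) (hqc : IsQuasiCompactSp Y)
    (hqs : IsQuasiSeparatedSp Y) (u : Chart Y) (T : Finset (F.M u)) (hT : ∀ x ∈ T, p.app u x = 0) :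
    ∃ N : Submodule u.R (F.M u), N.FG ∧ N ≤ LinearMap.ker (p.app u) ∧ (T : Set (F.M u)) ⊆ N ∧
      ∀ (D : Chart Y) (s t : Chart.Hom D u), F.Span s N = F.Span t N := by
  classical
  obtain ⟨N, hN, hTN, hst⟩ := AlgSpQMod.exists_fg_stable (F := p.ker) hY hqc hqs u
    (T.subtype fun x => x ∈ LinearMap.ker (p.app u))
  refine ⟨N.map (LinearMap.ker (p.app u)).subtype, hN.map _, Submodule.map_subtype_le _ _, fun x hx => ?_,
    fun D s t => ?_⟩
  · exact ⟨⟨x, hT x hx⟩, hTN (Finset.mem_subtype.2 hx), rfl⟩
  · exact (p.map_span s N).symm.trans ((congrArg (Submodule.map _) (hst D s t)).trans (p.map_span t N))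

end QMod.Map

end Groth.Agent.AlgSpQMod
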