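import Groth.Agent.AlgSpQMod.Sub
import Groth.Agent.AlgSpQMod.Ker
import Groth.Agent.AlgSpDec.LimDescentDiag
import Groth.Agent.AlgSpPts.SepDescent
import Groth.Agent.AlgSpDec.LimAffineStage

/-!
# Restriction maps between modules of functions
-/

set_option autoImplicit false
set_option backward.isDefEq.respectTransparency false
set_option backward.isDefEq.respectTransparency.types false
set_option maxHeartbeats 400000

universe u

open CategoryTheory CategoryTheory.Limits AlgebraicGeometry AlgSp Groth.Agent.AlgSpLib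

namespace Groth.Agent.AlgSpQMod

variable {S : Scheme.{u}} {Y : Sp S}

/-- A qcqs scheme over a quasi-separated space is qcqs over it. -/
theorem repWith_qcqs_yon [QuasiSeparatedSpace ↥S] (hY : IsAlgSpace Y) (hqs : IsQuasiSeparatedSp Y) {P : Over S}
    [CompactSpace P.left] [QuasiSeparatedSpace P.left] (g : (yon S).obj P ⟶ Y) :
    RepWith (@QuasiCompact ⊓ @QuasiSeparated) g := by
  have h1 : IsQuasiCompactMor g := AlgSpPts.isQuasiCompactMor_of_qc_qs (IsAlgSpace.yon_obj _) hY
    ((AlgSpPts.isQuasiCompactSp_yon_iff P).2 inferInstance) hqs g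
  have hP : IsQuasiSeparatedSp ((yon S).obj P) := (AlgSpDec.isQuasiSeparatedSp_yon_iff' P).2
    ((quasiSeparated_iff_quasiSeparatedSpace P.hom).2 inferInstance)
  have h2 : IsQuasiSeparatedMor g := AlgSpDec.isQuasiSeparatedMor_of_sp g hP hqs
  exact ⟨hY.representable_from_yon g, fun T V a fst snd sq =>
    ⟨AlgSpPts.quasiCompact_of_isQuasiCompactMor snd (AlgSpPts.isQuasiCompactMor_of_isPullback sq h1),
      (isQuasiSeparatedMor_yon_map_iff snd).1 (AlgSpPts.isQuasiSeparatedMor_of_isPullback sq h2)⟩⟩

variable {X X' : Sp S} {f : X ⟶ Y} {f' : X' ⟶ Y} (hf : RepWith (@QuasiCompact ⊓ @QuasiSeparated) f)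
  (hf' : RepWith (@QuasiCompact ⊓ @QuasiSeparated) f') (w : X' ⟶ X) (hw : w ≫ f = f')

/-- The induced map between pullbacks to a chart. -/
noncomputable def preFun (c : Chart Y) : pre f' hf' c ⟶ pre f hf c :=
  hf.rep.lift (hf'.rep.fst c.c ≫ w) (preπ f' hf' c) (by rw [Category.assoc, hw]; exact hf'.rep.w c.c)

theorem preFun_fst (c : Chart Y) :
    (yon S).map (preFun hf hf' w hw c) ≫ hf.rep.fst c.c = hf'.rep.fst c.c ≫ w :=
  hf.rep.lift_fst _ _ _

theorem preFun_snd (c : Chart Y) : preFun hf hf' w hw c ≫ preπ f hf c = preπ f' hf' c :=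
  hf.rep.lift_snd _ _ _

theorem preFun_nat {d c : Chart Y} (h : Chart.Hom d c) :
    preMap f' hf' h ≫ preFun hf hf' w hw c = preFun hf hf' w hw d ≫ preMap f hf h := by
  refine hf.rep.hom_ext ?_ ?_
  · rw [Functor.map_comp, Functor.map_comp, Category.assoc, Category.assoc, preFun_fst, preMap_fst, preFun_fst,
      ← Category.assoc, preMap_fst]
  · rw [Category.assoc, Category.assoc, preFun_snd, preMap_snd, preMap_snd, ← Category.assoc, preFun_snd]

theorem isPullback_preFun (c : Chart Y) :
    IsPullback (hf'.rep.fst c.c) ((yon S).map (preFun hf hf' w hw c)) w (hf.rep.fst c.c) := by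
  refine IsPullback.of_bot ?_ (preFun_fst hf hf' w hw c).symm (hf.rep.isPullback c.c)
  rw [← Functor.map_comp, preFun_snd, hw]
  exact hf'.rep.isPullback c.c

/-- Restriction of functions. -/
noncomputable def pullFun : QMod.Map (affMod f hf) (affMod f' hf') where
  app c :=
    { toFun := (preFun hf hf' w hw c).left.appTop.hom
      map_add' := map_add _
      map_smul' := fun a (x : Γ((pre f hf c).left, ⊤)) => by
        change (preFun hf hf' w hw c).left.appTop.hom ((preπ f hf c).left.appTop.hom a * x) =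
          (preπ f' hf' c).left.appTop.hom a * (preFun hf hf' w hw c).left.appTop.hom x
        rw [map_mul]
        congr 1
        exact congrArg (fun m : pre f' hf' c ⟶ c.W => m.left.appTop.hom a) (preFun_snd hf hf' w hw c) }
  nat {d c} h x :=
    congrArg (fun m : pre f' hf' d ⟶ pre f hf c => m.left.appTop.hom x) (preFun_nat hf hf' w hw h)

end Groth.Agent.AlgSpQMod
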