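import Groth.Agent.AlgSpQMod.Ideal
import Groth.Agent.AlgSpQMod.Push
import Groth.Agent.AlgSpPts.Sep
import Mathlib.RingTheory.Finiteness.Basic

/-!
# Local tools for modules on charts
-/

set_option autoImplicit false
set_option backward.isDefEq.respectTransparency false
set_option backward.isDefEq.respectTransparency.types false
set_option maxHeartbeats 400000

universe u v

open CategoryTheory CategoryTheory.Limits AlgebraicGeometry AlgSp Groth.Agent.AlgSpLib

namespace Groth.Agent.AlgSpQMod

variable {S : Scheme.{u}} {Y : Sp S} (F : QMod.{u, v} Y)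

theorem QMod.span_top {d c : Chart Y} (h : Chart.Hom d c) : F.Span h ⊤ = ⊤ := by
  obtain ⟨hf, hb⟩ := F.bc h
  refine eq_top_iff.2 fun x _ => (show ∀ x, x ∈ F.Span h ⊤ from ?_) x
  intro x
  letI := h.φ.toAlgebra
  letI : Module c.R (F.M d) := Module.compHom _ h.φ
  haveI : IsScalarTower c.R d.R (F.M d) := ⟨fun a b n => mul_smul (h.φ a) b n⟩
  induction x using hb.inductionOn with
  | zero => exact zero_mem _
  | tmul m => exact F.map_mem_span (Submodule.mem_top (R := c.R) (x := m))
  | smul s n hn => exact Submodule.smul_mem _ s hn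
  | add a b ha hb => exact Submodule.add_mem _ ha hb

/-- Finitely many elements on a refinement lie in the span of finitely many elements. -/
theorem QMod.exists_finset_span {d c : Chart Y} (h : Chart.Hom d c) (x : F.M d) :
    ∃ T : Finset (F.M c), x ∈ F.Span h (Submodule.span c.R T) := by
  obtain ⟨T, hT, hx⟩ := Submodule.mem_span_finite_of_mem_span
    (show x ∈ Submodule.span d.R (F.map h '' Set.univ) from by
      have := (F.span_top h).ge (Submodule.mem_top (x := x))
      rwa [QMod.Span, Submodule.top_coe] at this)
  classical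
  choose y hy using fun i : T => hT i.2
  refine ⟨Finset.univ.image y, ?_⟩
  rw [F.span_span_set]
  refine Submodule.span_mono (fun i hi => ?_) hx
  exact ⟨y ⟨i, hi⟩, Finset.mem_coe.2 (Finset.mem_image_of_mem y (Finset.mem_univ _)), (hy ⟨i, hi⟩).2⟩

variable {F}

/-- A chart meeting the image of another is refined there by it. -/
theorem exists_refine_range (D c : Chart Y) (w : D.W.left) (hw : Points.ofPt D.c w ∈ Set.range (Points.ofPt c.c)) :
    ∃ (D' : Chart Y) (j : Chart.Hom D' D) (_ : Chart.Hom D' c), w ∈ Set.range j.k.left := by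
  let Φ : Fam (unitMod Y) := ⟨1, fun _ => c, fun _ => ⊥, fun _ => Submodule.fg_bot, fun i j D s t => by
    simp [QMod.Span]⟩
  obtain ⟨i, D', j, k, hj⟩ := Φ.exists_refine D w (Set.mem_iUnion.2 ⟨0, hw⟩)
  exact ⟨D', j, k, hj⟩

/-- The kernel of a finitely presented closed immersion of affine schemes is finitely generated. -/
theorem fg_ker_of_lfp {P D : Scheme.{u}} [IsAffine D] (i : P ⟶ D) [IsClosedImmersion i]
    [LocallyOfFinitePresentation i] : (RingHom.ker i.appTop.hom).FG := by
  haveI : IsAffine P := isAffine_of_isAffineHom i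
  have hfp : i.appTop.hom.FinitePresentation :=
    (HasRingHomProperty.iff_of_isAffine (P := @LocallyOfFinitePresentation)).1 inferInstance
  have hs := (IsClosedImmersion.isAffine_surjective_of_isAffine i).2
  algebraize [i.appTop.hom]
  exact Algebra.FinitePresentation.ker_fG_of_surjective (Algebra.ofId Γ(D, ⊤) Γ(P, ⊤)) hs

end Groth.Agent.AlgSpQMod
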