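import Mathlib.AlgebraicGeometry.Morphisms.FinitePresentation
import Mathlib.AlgebraicGeometry.Morphisms.QuasiCompact
import Mathlib.AlgebraicGeometry.Gluing
import Mathlib.RingTheory.RingHom.FinitePresentation

/-!
# Open subschemes of closed subschemes seen in a finitely presented closed subscheme
-/

set_option autoImplicit false
set_option backward.isDefEq.respectTransparency false
set_option backward.isDefEq.respectTransparency.types false
set_option maxHeartbeats 400000

universe u

open CategoryTheory AlgebraicGeometry TopologicalSpace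

namespace Groth.Agent.AlgSpQMod

/-- A quasi-compact open subscheme of a closed subscheme of an affine scheme, finitely presented over the
latter, is open in every small enough closed subscheme containing the given one. -/
theorem exists_finset_isOpenImmersion_quot {A B : Type u} [CommRing A] [CommRing B] (φ : A →+* B)
    (hφ : Function.Surjective φ) {X : Scheme.{u}}
    (g : X ⟶ Spec (.of B)) [IsOpenImmersion g] [QuasiCompact g]
    [LocallyOfFinitePresentation (g ≫ Spec.map (CommRingCat.ofHom φ))] :
    ∃ T : Finset A, (∀ x ∈ T, φ x = 0) ∧ ∀ (J : Ideal A) (hle : J ≤ RingHom.ker φ), (T : Set A) ⊆ J →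
      IsOpenImmersion (g ≫ Spec.map (CommRingCat.ofHom (Ideal.Quotient.lift J φ fun a ha => hle ha))) := by
  classical
  have : CompactSpace X := QuasiCompact.compactSpace_of_compactSpace g
  obtain ⟨t, ht⟩ := PrimeSpectrum.isCompact_isOpen_iff.1
    ⟨isCompact_range g.continuous, g.isOpenEmbedding.isOpen_range⟩
  have hsub : ∀ b ∈ t, (PrimeSpectrum.basicOpen b : Set (PrimeSpectrum B)) ⊆ Set.range g := fun b hb x hx => by
    rw [← ht]
    exact fun h => hx (h hb)
  choose l hl using fun b : t => hφ (b : B)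
  have key : ∀ b : t, ∃ T : Finset A, (∀ x ∈ T, φ x = 0) ∧
      ∀ x, φ x = 0 → ∃ n : ℕ, l b ^ n * x ∈ Ideal.span (T : Set A) := fun b => by
    let ι : Spec (.of (Localization.Away (b : B))) ⟶ Spec (.of B) :=
      Spec.map (CommRingCat.ofHom (algebraMap B (Localization.Away (b : B))))
    have hr : Set.range ι ⊆ Set.range g := by
      refine (Set.Subset.trans ?_ (hsub b b.2))
      exact (PrimeSpectrum.localization_away_comap_range _ _).le
    have : IsOpenImmersion (IsOpenImmersion.lift g ι hr) :=
      have : IsOpenImmersion (IsOpenImmersion.lift g ι hr ≫ g) := by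
        rw [IsOpenImmersion.lift_fac]; infer_instance
      IsOpenImmersion.of_comp _ g
    have hL : LocallyOfFinitePresentation (IsOpenImmersion.lift g ι hr ≫ g ≫
        Spec.map (CommRingCat.ofHom φ)) := inferInstance
    rw [← Category.assoc, IsOpenImmersion.lift_fac, ← Spec.map_comp] at hL
    have hfp : ((algebraMap B (Localization.Away (b : B))).comp φ).FinitePresentation :=
      (HasRingHomProperty.Spec_iff (P := @LocallyOfFinitePresentation)).1 hL
    letI : Algebra A (Localization.Away (b : B)) := ((algebraMap B (Localization.Away (b : B))).comp φ).toAlgebra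
    haveI : Algebra.FinitePresentation A (Localization.Away (b : B)) := hfp
    haveI : Algebra.FinitePresentation A (Localization.Away (l b)) :=
      IsLocalization.Away.finitePresentation (l b)
    have hu : IsUnit (algebraMap A (Localization.Away (b : B)) (l b)) := by
      change IsUnit (algebraMap B (Localization.Away (b : B)) (φ (l b)))
      rw [hl b]
      exact IsLocalization.Away.algebraMap_isUnit _
    let ψ : Localization.Away (l b) →ₐ[A] Localization.Away (b : B) :=
      { IsLocalization.Away.lift (l b) hu with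
        commutes' := fun r => IsLocalization.Away.lift_eq (l b) hu r }
    have hψ : Function.Surjective ψ := fun z => by
      obtain ⟨n, y, hy⟩ := IsLocalization.Away.surj (b : B) z
      obtain ⟨a, rfl⟩ := hφ y
      refine ⟨IsLocalization.mk' _ a (⟨l b ^ n, n, rfl⟩ : Submonoid.powers (l b)), ?_⟩
      refine ((IsUnit.mul_left_inj (hu.pow n)).1 ?_)
      have e : z * algebraMap A (Localization.Away (b : B)) (l b) ^ n = algebraMap A _ a := by
        change z * algebraMap B (Localization.Away (b : B)) (φ (l b)) ^ n = _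
        rw [hl b]
        exact hy
      rw [e, ← map_pow, ← ψ.commutes, ← map_mul, IsLocalization.mk'_spec, ψ.commutes]
    obtain ⟨s, hs⟩ := Algebra.FinitePresentation.ker_fG_of_surjective ψ hψ
    have hrep : ∀ z ∈ s, ∃ x : A, φ x = 0 ∧ ∃ n : ℕ,
        z * algebraMap A (Localization.Away (l b)) (l b ^ n) = algebraMap A _ x := by
      intro z hz
      have hz0 : ψ z = 0 := (hs ▸ Ideal.subset_span hz : z ∈ RingHom.ker ψ.toRingHom)
      obtain ⟨n, a, ha⟩ := IsLocalization.Away.surj (l b) z
      have h0 : algebraMap A (Localization.Away (b : B)) a = 0 := by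
        rw [← ψ.commutes, ← ha, map_mul, hz0, zero_mul]
      obtain ⟨⟨_, k, rfl⟩, hk⟩ := (IsLocalization.map_eq_zero_iff (Submonoid.powers (b : B)) _ _).1 h0
      refine ⟨l b ^ k * a, by rw [map_mul, map_pow, hl b]; exact hk, n + k, ?_⟩
      rw [pow_add, map_mul, ← mul_assoc, map_pow, ha, map_mul, map_pow, mul_comm]
    choose x hx0 n hn using hrep
    refine ⟨s.attach.image fun z => x z.1 z.2, fun y hy => ?_, fun y hy => ?_⟩
    · obtain ⟨z, -, rfl⟩ := Finset.mem_image.1 hy
      exact hx0 _ _
    set T := Ideal.span (SetLike.coe (s.attach.image fun z => x z.1 z.2)) with hT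
    have hker : (RingHom.ker ψ.toRingHom) ≤ T.map (algebraMap A (Localization.Away (l b))) := by
      rw [← hs, Ideal.span_le]
      intro z hz
      have h := hn z hz
      refine ((Ideal.unit_mul_mem_iff_mem _ ((IsLocalization.Away.algebraMap_isUnit (l b)).pow (n z hz))).1 ?_)
      rw [mul_comm, ← map_pow, h]
      exact Ideal.mem_map_of_mem _ (Ideal.subset_span (Finset.mem_image.2 ⟨⟨z, hz⟩, Finset.mem_attach _ _, rfl⟩))
    have hy' : algebraMap A (Localization.Away (l b)) y ∈ RingHom.ker ψ.toRingHom := by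
      change ψ (algebraMap A _ y) = 0
      rw [ψ.commutes]
      change algebraMap B _ (φ y) = 0
      rw [hy, map_zero]
    obtain ⟨_, ⟨k, rfl⟩, hk⟩ :=
      (IsLocalization.algebraMap_mem_map_algebraMap_iff (Submonoid.powers (l b)) _ T y).1 (hker hy')
    exact ⟨k, hk⟩
  choose T hT0 hT using key
  refine ⟨t.attach.biUnion T, fun x hx => by
    obtain ⟨b, -, hb⟩ := Finset.mem_biUnion.1 hx
    exact hT0 b x hb, fun J hle hJ => ?_⟩
  set q := Ideal.Quotient.lift J φ fun a ha => hle ha with hq
  let θ := Spec.map (CommRingCat.ofHom q)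
  let V : t → (Spec (.of (A ⧸ J))).Opens := fun b => PrimeSpectrum.basicOpen (Ideal.Quotient.mk J (l b))
  have hbij : ∀ b : t, Function.Bijective (Localization.awayMap q (Ideal.Quotient.mk J (l b))) := by
    intro b
    set b' := Ideal.Quotient.mk J (l b) with hb'
    refine ⟨(injective_iff_map_eq_zero _).2 fun x hx => ?_, fun z => ?_⟩
    · obtain ⟨c, ⟨d, k, rfl⟩, rfl⟩ := IsLocalization.exists_mk'_eq (Submonoid.powers b') x
      rw [Localization.awayMap, IsLocalization.Away.map, IsLocalization.map_mk', IsLocalization.mk'_eq_zero_iff] at hx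
      obtain ⟨⟨_, m, rfl⟩, hm⟩ := hx
      obtain ⟨c, rfl⟩ := Ideal.Quotient.mk_surjective c
      rw [IsLocalization.mk'_eq_zero_iff]
      have hc : φ (l b ^ m * c) = 0 := by
        rw [map_mul, map_pow]
        exact hm
      obtain ⟨n, hn⟩ := hT b _ hc
      have hJ' : Ideal.span (T b : Set A) ≤ J := Ideal.span_le.2 fun x hx =>
        hJ (Finset.mem_biUnion.2 ⟨b, Finset.mem_attach _ _, hx⟩)
      refine ⟨⟨b' ^ (n + m), n + m, rfl⟩, ?_⟩
      change Ideal.Quotient.mk J (l b) ^ (n + m) * Ideal.Quotient.mk J c = 0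
      rw [← map_pow, ← map_mul, Ideal.Quotient.eq_zero_iff_mem, pow_add, mul_assoc]
      exact hJ' hn
    · obtain ⟨y, ⟨d, k, rfl⟩, rfl⟩ := IsLocalization.exists_mk'_eq (Submonoid.powers (q b')) z
      obtain ⟨y, rfl⟩ := hφ y
      refine ⟨IsLocalization.mk' _ (Ideal.Quotient.mk J y) (⟨b' ^ k, k, rfl⟩ : Submonoid.powers b'), ?_⟩
      rw [Localization.awayMap, IsLocalization.Away.map, IsLocalization.map_mk']
      congr 1
      exact Subtype.ext (map_pow q _ _)
  have : IsIso (θ ∣_ ⨆ b, V b) := by
    let 𝒰 := Scheme.Opens.iSupOpenCover V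
    refine (IsZariskiLocalAtTarget.iff_of_openCover (P := .isomorphisms _) 𝒰).mpr fun b ↦ ?_
    refine (MorphismProperty.arrow_mk_iso_iff (.isomorphisms _)
      ((morphismRestrictRestrict ..).symm ≪≫ morphismRestrictOpensRange ..)).mp ?_
    have e : Scheme.Opens.ι _ ''ᵁ (𝒰.f b).opensRange = V b := by
      simp only [Scheme.Opens.iSupOpenCover, 𝒰, ← Scheme.Hom.opensRange_comp, Scheme.homOfLE_ι,
        Scheme.Opens.opensRange_ι]
    rw [e]
    refine (MorphismProperty.arrow_mk_iso_iff (.isomorphisms Scheme)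
      (SpecMapRestrictBasicOpenIso (CommRingCat.ofHom q) _)).2 ?_
    have : IsIso (CommRingCat.ofHom (Localization.awayMap q (Ideal.Quotient.mk J (l (show t from b))))) :=
      (ConcreteCategory.isIso_iff_bijective _).2 (hbij b)
    change IsIso (Spec.map _)
    infer_instance
  have hr : Set.range g ⊆ Set.range (θ ⁻¹ᵁ ⨆ b, V b).ι := by
    rw [Scheme.Opens.range_ι]
    intro x hx
    rw [← ht] at hx
    obtain ⟨b, hb, hbx⟩ := Set.not_subset.1 hx
    change θ x ∈ ⨆ b, V b
    refine Opens.mem_iSup.2 ⟨⟨b, hb⟩, fun h => hbx ?_⟩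
    change q (Ideal.Quotient.mk J (l ⟨b, hb⟩)) ∈ x.asIdeal at h
    rw [hq, Ideal.Quotient.lift_mk, hl] at h
    exact h
  have hl' : IsOpenImmersion (IsOpenImmersion.lift (θ ⁻¹ᵁ ⨆ b, V b).ι g hr) :=
    have : IsOpenImmersion (IsOpenImmersion.lift (θ ⁻¹ᵁ ⨆ b, V b).ι g hr ≫ (θ ⁻¹ᵁ ⨆ b, V b).ι) := by
      rw [IsOpenImmersion.lift_fac]; infer_instance
    IsOpenImmersion.of_comp _ (θ ⁻¹ᵁ ⨆ b, V b).ι
  have e : g ≫ θ = IsOpenImmersion.lift (θ ⁻¹ᵁ ⨆ b, V b).ι g hr ≫ (θ ∣_ ⨆ b, V b) ≫ (⨆ b, V b).ι := by
    rw [morphismRestrict_ι, IsOpenImmersion.lift_fac_assoc]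
  change IsOpenImmersion (g ≫ θ)
  rw [e]
  infer_instance

end Groth.Agent.AlgSpQMod
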