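import Groth.Agent.AlgSpDec.ClosedSub

/-!
# Subspaces from invariant immersions into an atlas
-/

set_option backward.isDefEq.respectTransparency false
set_option backward.isDefEq.respectTransparency.types false

universe u

open CategoryTheory Limits Opposite AlgebraicGeometry AlgSp Groth.Agent.AlgSpLib Groth.Agent.AlgSpPts Groth.Agent.AlgSpDec

namespace Groth.Agent.AlgSpQMod

variable {S : Scheme.{u}} {X : Sp S} {U ZU : Over S} {a : (yon S).obj U ⟶ X} {i : ZU ⟶ U}

/-- An invariant subscheme of an atlas defines a subspace. -/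
theorem exists_imm_subspace (hX : IsAlgSpace X) (ha : RepWith @Etale a) (has : RepWith @Surjective a)
    [IsImmersion i.left]
    (hcompat : ∀ (T : Over S) (x y : T ⟶ U), (yon S).map x ≫ a = (yon S).map y ≫ a →
      (∃ l, l ≫ i = x) → ∃ l, l ≫ i = y) :
    ∃ (Z : Space S) (j : Z.obj ⟶ X) (q : (yon S).obj ZU ⟶ Z.obj),
      RepWith @IsImmersion j ∧ IsPullback q ((yon S).map i) j a ∧
      RepWith @Etale q ∧ RepWith @Surjective q := by
  have : Mono i := (Over.forget S).mono_of_mono_map (inferInstanceAs (Mono i.left))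
  let Z₀ : Sp S := ⟨(closedSubfunctor a i).toFunctor, isSheaf_closedSubfunctor a i⟩
  let j : Z₀ ⟶ X := ObjectProperty.homMk (closedSubfunctor a i).ι
  have : Mono j :=
    (sheafToPresheaf (J S) (Type (u + 1))).mono_of_mono_map (inferInstanceAs (Mono (closedSubfunctor a i).ι))
  have hfac : ∀ {T : Over S} (g : (yon S).obj T ⟶ X), FactorsThrough a i g → ∃ g₀, g₀ ≫ j = g := by
    intro T g hg
    refine ⟨(J S).uliftYonedaEquiv.symm
      (⟨(J S).uliftYonedaEquiv g, show FactorsThrough a i _ by rwa [Equiv.symm_apply_apply]⟩ :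
        (closedSubfunctor a i).toFunctor.obj (op T)), ?_⟩
    apply (J S).uliftYonedaEquiv.injective
    rw [GrothendieckTopology.uliftYonedaEquiv_comp, Equiv.apply_symm_apply]
    rfl
  obtain ⟨q, hq⟩ := hfac _ ((factorsThrough_iff hcompat i).2 ⟨𝟙 _, Category.id_comp i⟩)
  let c : (yon S).obj ZU ⟶ pullback j a := pullback.lift q ((yon S).map i) hq
  have : Mono ((yon S).map i) := (yon S).map_mono i
  have : Mono c := by
    have h : c ≫ pullback.snd j a = (yon S).map i := pullback.lift_snd _ _ _
    exact mono_of_mono_fac h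
  have : Sheaf.IsLocallySurjective c := by
    refine isLocallySurjective_of_lifts c fun T t => ?_
    obtain ⟨φ, hφ⟩ := (yon S).map_surjective (t ≫ pullback.snd j a)
    have hF : FactorsThrough a i ((yon S).map φ ≫ a) := by
      have hmem := ((J S).uliftYonedaEquiv (t ≫ pullback.fst j a)).2
      change FactorsThrough a i _ at hmem
      rw [hφ, Category.assoc, ← pullback.condition, ← Category.assoc]
      have e : ((J S).uliftYonedaEquiv (t ≫ pullback.fst j a)).1 =
          (J S).uliftYonedaEquiv ((t ≫ pullback.fst j a) ≫ j) := by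
        rw [GrothendieckTopology.uliftYonedaEquiv_comp]
        rfl
      rwa [e, Equiv.symm_apply_apply] at hmem
    obtain ⟨l, hl⟩ := (factorsThrough_iff hcompat φ).1 hF
    refine ⟨T, 𝟙 _, (yon S).map l, fppf_of_etale (𝟙 T.left), ?_⟩
    rw [CategoryTheory.Functor.map_id, Category.id_comp]
    have h2 : ((yon S).map l ≫ c) ≫ pullback.snd j a = t ≫ pullback.snd j a := by
      rw [Category.assoc, pullback.lift_snd, ← Functor.map_comp, hl, hφ]
    refine pullback.hom_ext ?_ h2
    rw [← cancel_mono j]
    simp only [Category.assoc] at h2 ⊢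
    rw [pullback.condition, reassoc_of% h2]
  have := isIso_of_mono_of_locallySurjective c
  have sq : IsPullback q ((yon S).map i) j a :=
    IsPullback.of_iso_pullback ⟨hq⟩ (asIso c) (pullback.lift_fst _ _ _) (pullback.lift_snd _ _ _)
  have hj : RepWith @IsImmersion j := repWith_isImmersion_of_etale_cover ha has sq
    ((repWith_yon_map_iff _ _).2 ‹IsImmersion i.left›)
  obtain ⟨hs, hZ⟩ := S9876.result S ⟨X, hX⟩ _ j.hom (fun T ξ => by
    obtain ⟨T', p, fst, hsq⟩ := hj.rep (ObjectProperty.homMk ξ : (yon S).obj T ⟶ X)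
    exact ⟨T', p, fst.hom, hsq.map (sheafToPresheaf (J S) (Type (u + 1)))⟩)
  exact ⟨⟨Z₀, hZ⟩, j, q, hj, sq, repWith_of_isPullback sq.flip ha, repWith_of_isPullback sq.flip has⟩

end Groth.Agent.AlgSpQMod
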