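import Groth.Agent.AlgSpQMod.FpProduct
import Groth.Agent.AlgSpQMod.StepLemmas

/-!
# Finitely presented closed subspaces of spaces affine over a base, seen on a chart
-/

set_option autoImplicit false
set_option backward.isDefEq.respectTransparency false
set_option backward.isDefEq.respectTransparency.types false
set_option maxHeartbeats 400000

universe u

open CategoryTheory CategoryTheory.Limits AlgebraicGeometry AlgSp Groth.Agent.AlgSpLib

namespace Groth.Agent.AlgSpQMod

variable {S : Scheme.{u}} {X Y Z : Sp S}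

theorem preFun_id {g : Z ⟶ Y} (hg : RepWith (@QuasiCompact ⊓ @QuasiSeparated) g) (w : Z ⟶ Z)
    (hw : w ≫ g = g) (h : w = 𝟙 Z) (c : Chart Y) : preFun hg hg w hw c = 𝟙 _ := by
  refine hg.rep.hom_ext ?_ ?_
  · rw [preFun_fst, h, CategoryTheory.Functor.map_id, Category.id_comp, Category.comp_id]
  · rw [preFun_snd, Category.id_comp]

variable [QuasiSeparatedSpace ↥S]

/-- A map between spaces affine over a base is affine. -/
theorem repWith_affine_cancel (hqc : IsQuasiCompactSp Y) {Z' : Sp S} {g : Z ⟶ Y} {g' : Z' ⟶ Y}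
    (hg : RepWith @IsAffineHom g) (hg' : RepWith @IsAffineHom g') (h : Z' ⟶ Z) (hh : h ≫ g = g') :
    RepWith @IsAffineHom h := by
  have := EtFound.fpqc_isAffineHom.{u}
  obtain ⟨U, a, hU, hae, has⟩ := AlgSpDec.exists_affine_atlas hqc
  obtain ⟨u, hu⟩ : ∃ u : Chart Y, RepWith @Surjective u.c := ⟨⟨U, hU, a, hae⟩, has⟩
  clear has hae hU a U
  have hq := qcqs_of_affine hg
  have hq' := qcqs_of_affine hg'
  haveI : IsAffineHom (preπ g hq u).left := hg.2 u.c _ _ (hq.rep.isPullback u.c)
  haveI : IsAffineHom (preπ g' hq' u).left := hg'.2 u.c _ _ (hq'.rep.isPullback u.c)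
  haveI : IsAffine (pre g hq u).left := isAffine_of_isAffineHom (preπ g hq u).left
  haveI : IsAffine (pre g' hq' u).left := isAffine_of_isAffineHom (preπ g' hq' u).left
  haveI : IsAffineHom (preFun hq hq' h hh u).left := inferInstance
  exact AlgSpDec.repWith_of_etale_cover le_rfl (repWith_of_isPullback (hq.rep.isPullback u.c).flip u.et)
    (repWith_of_isPullback (hq.rep.isPullback u.c).flip hu) (isPullback_preFun hq hq' h hh u)
    ((repWith_yon_map_iff _ _).2 inferInstance)

/-- The chart of an affine space over a base cut out by a chart of the base. -/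
noncomputable def affChart {g : Z ⟶ Y} (hga : RepWith @IsAffineHom g) (u : Chart Y) : Chart Z :=
  ⟨pre g (qcqs_of_affine hga) u,
    haveI : IsAffineHom (preπ g (qcqs_of_affine hga) u).left :=
      hga.2 u.c _ _ ((qcqs_of_affine hga).rep.isPullback u.c)
    isAffine_of_isAffineHom (preπ g (qcqs_of_affine hga) u).left,
    (qcqs_of_affine hga).rep.fst u.c,
    repWith_of_isPullback ((qcqs_of_affine hga).rep.isPullback u.c).flip u.et⟩

variable {g : Z ⟶ Y} (hga : RepWith @IsAffineHom g) (u : Chart Y) {f : X ⟶ Y} (hfa : RepWith @IsAffineHom f)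
  (q : X ⟶ Z) (hq : q ≫ g = f)

theorem ker_preπ_affChart (hqc : IsQuasiCompactSp Y) (x : (affChart hga u).R) :
    (preπ q (qcqs_of_affine (repWith_affine_cancel hqc hga hfa q hq)) (affChart hga u)).left.appTop.hom x = 0 ↔
      (preFun (qcqs_of_affine hga) (qcqs_of_affine hfa) q hq u).left.appTop.hom x = 0 := by
  have hqq := qcqs_of_affine (repWith_affine_cancel hqc hga hfa q hq)
  have sq := isPullback_preFun (qcqs_of_affine hga) (qcqs_of_affine hfa) q hq u
  let e : pre q hqq (affChart hga u) ≅ pre f (qcqs_of_affine hfa) u :=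
    (yon S).preimageIso ((hqq.rep.isPullback (affChart hga u).c).isoIsPullback _ _ sq)
  have he : e.hom ≫ preFun (qcqs_of_affine hga) (qcqs_of_affine hfa) q hq u = preπ q hqq (affChart hga u) :=
    (yon S).map_injective (by
      rw [Functor.map_comp, Functor.preimageIso_hom, Functor.map_preimage]
      exact IsPullback.isoIsPullback_hom_snd _ _ _ _)
  rw [← he]
  change e.hom.left.appTop.hom ((preFun (qcqs_of_affine hga) (qcqs_of_affine hfa) q hq u).left.appTop.hom x) = 0 ↔ _
  haveI : IsIso e.hom.left := inferInstanceAs (IsIso ((Over.forget S).map e.hom))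
  exact map_eq_zero_iff _ (ConcreteCategory.bijective_of_isIso e.hom.left.appTop).1

/-- The condition on ideals defining finitely presented closed subspaces containing the source. -/
def SubIdeal (J : Ideal (affChart hga u).R) : Prop :=
  J.FG ∧ (∀ x ∈ J, (preFun (qcqs_of_affine hga) (qcqs_of_affine hfa) q hq u).left.appTop.hom x = 0) ∧
    ∀ (D : Chart Z) (s t : Chart.Hom D (affChart hga u)), J.map s.φ = J.map t.φ

theorem exists_subIdeal (hY : IsAlgSpace Y) (hqc : IsQuasiCompactSp Y) (hqs : IsQuasiSeparatedSp Y) (hZ : IsAlgSpace Z)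
    (T : Finset (affChart hga u).R)
    (hT : ∀ x ∈ T, (preFun (qcqs_of_affine hga) (qcqs_of_affine hfa) q hq u).left.appTop.hom x = 0) :
    ∃ J, SubIdeal hga u hfa q hq J ∧ ∀ x ∈ T, x ∈ J := by
  obtain ⟨J, h1, h2, h3, h4⟩ := exists_fg_ideal q (qcqs_of_affine (repWith_affine_cancel hqc hga hfa q hq)) hZ
    (AlgSpDec.isQuasiCompactSp_of_affine hY g hga hqc) (AlgSpDec.isQuasiSeparatedSp_of_affine g hga hqs)
    (affChart hga u) T fun x hx => (ker_preπ_affChart hga u hfa q hq hqc x).2 (hT x hx)
  exact ⟨J, ⟨h1, fun x hx => (ker_preπ_affChart hga u hfa q hq hqc x).1 (h2 hx), h4⟩, fun x hx => h3 hx⟩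

theorem exists_sub_of_subIdeal (hqc : IsQuasiCompactSp Y) (hu : RepWith @Surjective u.c) (hZ : IsAlgSpace Z)
    (J : Ideal (affChart hga u).R) (hJ : SubIdeal hga u hfa q hq J) :
    ∃ (W : Space S) (j : W.obj ⟶ Z) (h : X ⟶ W.obj) (hj : RepWith @IsAffineHom (j ≫ g)),
      RepWith @IsClosedImmersion j ∧ IsFinitePresentationMor j ∧ h ≫ j = q ∧
      (∀ x ∈ J, (preFun (qcqs_of_affine hga) (qcqs_of_affine hj) j rfl u).left.appTop.hom x = 0) ∧
      ∀ (Q : Sp S) (b : Q ⟶ Z) (g' : Q ⟶ Y) (hb : RepWith @IsAffineHom g') (hbg : b ≫ g = g'),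
        (∀ x ∈ J, (preFun (qcqs_of_affine hga) (qcqs_of_affine hb) b hbg u).left.appTop.hom x = 0) →
        ∃ tr : Q ⟶ W.obj, tr ≫ j = b := by
  have hu' : RepWith @Surjective (affChart hga u).c :=
    repWith_of_isPullback ((qcqs_of_affine hga).rep.isPullback u.c).flip hu
  obtain ⟨W, j, qq, h, hjc, hjfp, sq, hh⟩ := exists_closed_sub_fp hZ
    (qcqs_of_affine (repWith_affine_cancel hqc hga hfa q hq)) hu' hJ.1 hJ.2.2
    (fun x hx => (ker_preπ_affChart hga u hfa q hq hqc x).2 (hJ.2.1 x hx))
  have hj : RepWith @IsAffineHom (j ≫ g) := repWith_comp (repWith_affine_of_closed hjc) hga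
  refine ⟨W, j, h, hj, hjc, hjfp, hh, ?_, ?_⟩
  · let jf := preFun (qcqs_of_affine hga) (qcqs_of_affine hj) j rfl u
    refine (factor_iff (affChart hga u) jf J).1 ?_
    obtain ⟨l, hl⟩ := (yon S).map_surjective (sq.lift ((qcqs_of_affine hj).rep.fst u.c) ((yon S).map jf)
      (preFun_fst (qcqs_of_affine hga) (qcqs_of_affine hj) j rfl u).symm)
    exact ⟨l, (yon S).map_injective (by rw [Functor.map_comp, hl, IsPullback.lift_snd])⟩
  · intro Q b g' hb hbg hkill
    haveI : Mono j := mono_of_closed hjc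
    refine exists_factor hu' sq b fun T₁ T' t k v hv => ?_
    refine (factor_iff (affChart hga u) v J).2 fun x hx => ?_
    have hw : ((yon S).map k ≫ t) ≫ g' =
        (yon S).map (v ≫ preπ g (qcqs_of_affine hga) u) ≫ u.c := by
      rw [← hbg, ← Category.assoc, show ((yon S).map k ≫ t) ≫ b = (yon S).map v ≫ (affChart hga u).c by
        rw [Category.assoc]; exact hv]
      rw [Category.assoc, show (affChart hga u).c ≫ g = _ from (qcqs_of_affine hga).rep.w u.c,
        ← Functor.map_comp_assoc]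
    let v' : T' ⟶ pre g' (qcqs_of_affine hb) u :=
      (qcqs_of_affine hb).rep.lift ((yon S).map k ≫ t) (v ≫ preπ g (qcqs_of_affine hga) u) hw
    have e1 : v' ≫ preFun (qcqs_of_affine hga) (qcqs_of_affine hb) b hbg u = v := (qcqs_of_affine hga).rep.hom_ext
      (by
        rw [Functor.map_comp, Category.assoc, preFun_fst]
        simp only [v']
        rw [reassoc_of% (qcqs_of_affine hb).rep.lift_fst]
        exact hv)
      (by rw [Category.assoc, preFun_snd]; exact (qcqs_of_affine hb).rep.lift_snd _ _ _)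
    rw [← e1]
    change v'.left.appTop.hom ((preFun (qcqs_of_affine hga) (qcqs_of_affine hb) b hbg u).left.appTop.hom x) = 0
    rw [hkill x hx, map_zero]

end Groth.Agent.AlgSpQMod
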