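import Groth.Agent.AlgSpQMod.SystemChart
import Groth.Agent.AlgSpQMod.AffineLimit

/-!
# An affine space over a base as a limit of finitely presented ones
-/

set_option autoImplicit false
set_option backward.isDefEq.respectTransparency false
set_option backward.isDefEq.respectTransparency.types false
set_option maxHeartbeats 600000

universe u

open CategoryTheory CategoryTheory.Limits AlgebraicGeometry AlgSp Groth.Agent.AlgSpLib Opposite

namespace Groth.Agent.AlgSpQMod

variable {S : Scheme.{u}}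

/-- Preimages of ideals along ring maps, on generators. -/
theorem forall_mem_of_generators {A B : Type u} [CommRing A] [CommRing B] (φ : A →+* B) {J : Ideal A} {K : Ideal B}
    {T : Finset A} (hT : Ideal.span (T : Set A) = J) (h : ∀ x ∈ T, φ x ∈ K) : ∀ x ∈ J, φ x ∈ K := by
  have : J ≤ K.comap φ := hT ▸ Ideal.span_le.2 fun x hx => h x hx
  exact fun x hx => this hx

/-- A finite set of indices with an ideal of functions of its product. -/
structure Stage {K : Type u} (R : Finset K → Type u) [∀ E, CommRing (R E)] (C : ∀ E, Ideal (R E) → Prop) :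
    Type u where
  E : Finset K
  J : Ideal (R E)
  hC : C E J

variable [QuasiSeparatedSpace ↥S] {X Y : Sp S}

/-- An affine space over a quasi-compact quasi-separated space with a system of maps to finitely presented
ones is a limit of finitely presented ones. -/
theorem exists_system_limit_of (hY : IsAlgSpace Y) (hqc : IsQuasiCompactSp Y)
    (hqs : IsQuasiSeparatedSp Y) {P : MorphismProperty Scheme.{u}} [P.IsMultiplicative] [P.IsStableUnderBaseChange]
    (hPC : (@IsClosedImmersion : MorphismProperty Scheme.{u}) ≤ P) {f : X ⟶ Y}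
    (hfa : RepWith @IsAffineHom f) (u : Chart Y) (hu : RepWith @Surjective u.c) {K : Type u}
    (W : K → Sp S) (w : ∀ k, W k ⟶ Y) (hwa : ∀ k, RepWith @IsAffineHom (w k)) (p : ∀ k, X ⟶ W k)
    (hp : ∀ k, p k ≫ w k = f)
    (PE : Finset K → Sp S) (bE : ∀ E, PE E ⟶ Y) (hba : ∀ E, RepWith @IsAffineHom (bE E))
    (hgood : ∀ E, IsGood P (bE E)) (qX : ∀ E, X ⟶ PE E)
    (hqX : ∀ E, qX E ≫ bE E = f) (pr : ∀ {E E' : Finset K}, E ⊆ E' → (PE E' ⟶ PE E))
    (hpr : ∀ {E E' : Finset K} (h : E ⊆ E'), pr h ≫ bE E = bE E')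
    (hprid : ∀ E : Finset K, pr (Finset.Subset.refl E) = 𝟙 _)
    (hprc : ∀ {E E' E'' : Finset K} (h : E ⊆ E') (h' : E' ⊆ E''), pr h' ≫ pr h = pr (h.trans h'))
    (hqpr : ∀ {E E' : Finset K} (h : E ⊆ E'), qX E' ≫ pr h = qX E)
    (hproj : ∀ (E : Finset K) (k : K), k ∈ E → ∃ π : PE E ⟶ W k, π ≫ w k = bE E ∧ qX E ≫ π = p k)
    (T0 : ∀ E, Finset (affChart (hba E) u).R)
    (hT0 : ∀ E, ∀ x ∈ T0 E, (preFun (qcqs_of_affine (hba E)) (qcqs_of_affine hfa) (qX E) (hqX E) u).left.appTop.hom x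
      = 0)
    (hgen : ∀ x : Γ((pre f (qcqs_of_affine hfa) u).left, ⊤), ∃ (k : K) (z : _),
      (preFun (qcqs_of_affine (hwa k)) (qcqs_of_affine hfa) (p k) (hp k) u).left.appTop.hom z = x) :
    ∃ (I : Type u) (_ : Preorder I) (_ : IsDirected I (fun a b => a ≤ b)) (_ : Nonempty I) (D : Iᵒᵖ ⥤ Sp S)
      (t : D ⟶ (Functor.const Iᵒᵖ).obj Y) (c : Cone D) (_ : IsLimit c) (e : c.pt ≅ X),
      (∀ i, IsAlgSpace (D.obj i)) ∧ (∀ (i j : Iᵒᵖ) (φ : i ⟶ j), IsAffineMor (D.map φ)) ∧
      (∀ i, RepWith P (t.app i) ∧ IsFinitePresentationMor (t.app i)) ∧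
      (∀ i, e.inv ≫ c.π.app i ≫ t.app i = f) ∧
      ∀ i, ∃ (E : Finset K) (ψ : D.obj i ⟶ PE E) (hti : RepWith @IsAffineHom (t.app i))
        (hψ : ψ ≫ bE E = t.app i), RepWith @IsClosedImmersion ψ ∧ e.inv ≫ c.π.app i ≫ ψ = qX E ∧
        ∀ x ∈ T0 E, (preFun (qcqs_of_affine (hba E)) (qcqs_of_affine hti) ψ hψ u).left.appTop.hom x = 0 := by
  classical
  have hf := qcqs_of_affine hfa
  have hb := fun E => qcqs_of_affine (hba E)
  let R : Finset K → Type u := fun E => (affChart (hba E) u).R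
  let r : ∀ {E E' : Finset K}, E ⊆ E' → (R E →+* R E') := fun {E E'} h =>
    (preFun (hb E) (hb E') (pr h) (hpr h) u).left.appTop.hom
  let k0 : ∀ E, R E →+* Γ((pre f hf u).left, ⊤) := fun E => (preFun (hb E) hf (qX E) (hqX E) u).left.appTop.hom
  have hrid : ∀ (E : Finset K) (h : E ⊆ E) (x : R E), r h x = x := fun E h x => by
    change (preFun (hb E) (hb E) (pr h) (hpr h) u).left.appTop.hom x = x
    rw [preFun_id (hb E) _ _ (hprid E)]
    rfl
  have hrc : ∀ {E E' E'' : Finset K} (h : E ⊆ E') (h' : E' ⊆ E'') (h'' : E ⊆ E'') (x : R E),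
      r h' (r h x) = r h'' x := fun {E E' E''} h h' h'' x =>
    congrArg (fun m : pre (bE E'') (hb E'') u ⟶ pre (bE E) (hb E) u => m.left.appTop.hom x)
      (preFun_comp (hb E) (hb E') (hb E'') (pr h) (hpr h) (pr h') (hpr h') (pr h'') (hpr h'') (hprc h h') u)
  have hkr : ∀ {E E' : Finset K} (h : E ⊆ E') (x : R E), k0 E' (r h x) = k0 E x := fun {E E'} h x =>
    congrArg (fun m : pre f hf u ⟶ pre (bE E) (hb E) u => m.left.appTop.hom x)
      (preFun_comp (hb E) (hb E') hf (pr h) (hpr h) (qX E') (hqX E') (qX E) (hqX E) (hqpr h) u)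
  letI : ∀ E, CommRing (R E) := fun E => inferInstanceAs (CommRing (affChart (hba E) u).R)
  let I : Type u := Stage R (fun E J => SubIdeal (hba E) u hfa (qX E) (hqX E) J ∧ ∀ x ∈ T0 E, x ∈ J)
  let le' : I → I → Prop := fun a b => ∃ h : a.E ⊆ b.E, ∀ x ∈ a.J, r h x ∈ b.J
  have hrefl : ∀ a : I, le' a a := fun a =>
    ⟨Finset.Subset.refl _, fun x hx => Set.mem_of_eq_of_mem (s := (a.J : Set (R a.E))) (hrid a.E _ x) hx⟩
  have htrans : ∀ a b c : I, le' a b → le' b c → le' a c := by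
    rintro a b c ⟨h₁, h₁'⟩ ⟨h₂, h₂'⟩
    exact ⟨h₁.trans h₂, fun x hx =>
      Set.mem_of_eq_of_mem (s := (c.J : Set (R c.E))) (hrc h₁ h₂ _ x).symm (h₂' _ (h₁' x hx))⟩
  letI : Preorder I :=
    { le := le', lt := fun a b => le' a b ∧ ¬ le' b a, le_refl := hrefl, le_trans := htrans,
      lt_iff_le_not_ge := fun _ _ => Iff.rfl }
  have hex : ∀ (E : Finset K) (T : Finset (R E)), (∀ x ∈ T, k0 E x = 0) →
      ∃ J : {J : Ideal (R E) // SubIdeal (hba E) u hfa (qX E) (hqX E) J ∧ ∀ x ∈ T0 E, x ∈ J},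
        ∀ x ∈ T, x ∈ J.1 := fun E T hT => by
    obtain ⟨J, hJ, hTJ⟩ := exists_subIdeal (hba E) u hfa (qX E) (hqX E) hY hqc hqs (hgood E).1 (T ∪ T0 E)
      fun x hx => (Finset.mem_union.1 hx).elim (hT x) (hT0 E x)
    exact ⟨⟨J, hJ, fun x hx => hTJ x (Finset.mem_union_right _ hx)⟩, fun x hx => hTJ x (Finset.mem_union_left _ hx)⟩
  have hdir : IsDirected I (fun a b => a ≤ b) := ⟨fun a b => by
    obtain ⟨A, hA⟩ := a.hC.1.1
    obtain ⟨B, hB⟩ := b.hC.1.1
    have ha : a.E ⊆ a.E ∪ b.E := Finset.subset_union_left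
    have hb' : b.E ⊆ a.E ∪ b.E := Finset.subset_union_right
    obtain ⟨J, hJ⟩ := hex (a.E ∪ b.E) (A.image (r ha) ∪ B.image (r hb')) (by
      intro x hx
      rcases Finset.mem_union.1 hx with hx | hx
      · obtain ⟨y, hy, rfl⟩ := Finset.mem_image.1 hx
        exact (hkr ha y).trans (a.hC.1.2.1 y (hA ▸ Ideal.subset_span hy))
      · obtain ⟨y, hy, rfl⟩ := Finset.mem_image.1 hx
        exact (hkr hb' y).trans (b.hC.1.2.1 y (hB ▸ Ideal.subset_span hy)))
    exact ⟨⟨a.E ∪ b.E, J.1, J.2⟩,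
      ⟨ha, forall_mem_of_generators (r ha) hA fun y hy =>
        hJ _ (Finset.mem_union_left _ (Finset.mem_image_of_mem _ hy))⟩,
      ⟨hb', forall_mem_of_generators (r hb') hB fun y hy =>
        hJ _ (Finset.mem_union_right _ (Finset.mem_image_of_mem _ hy))⟩⟩⟩
  obtain ⟨J₀, -⟩ := hex ∅ ∅ (by simp)
  have hne : Nonempty I := ⟨⟨∅, J₀.1, J₀.2⟩⟩
  choose Z jj hh hja hjc hjfp hhj hjkill hfac using fun i : I =>
    exists_sub_of_subIdeal (hba i.E) u hfa (qX i.E) (hqX i.E) hqc hu (hgood i.E).1 i.J i.hC.1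
  haveI hmono : ∀ i, Mono (jj i) := fun i => mono_of_closed (hjc i)
  have hTq := fun i => qcqs_of_affine (hja i)
  have hgh : ∀ i, hh i ≫ jj i ≫ bE i.E = f := fun i => by rw [reassoc_of% hhj i, hqX]
  have htr : ∀ {a b : I}, a ≤ b → ∃ h : (Z b).obj ⟶ (Z a).obj, ∀ e : a.E ⊆ b.E, h ≫ jj a = jj b ≫ pr e := by
    intro a b hab
    obtain ⟨hE, hJ⟩ := hab
    obtain ⟨h, hh'⟩ := hfac a _ (jj b ≫ pr hE) (jj b ≫ bE b.E) (hja b) (by rw [Category.assoc, hpr]) fun x hx => by
      rw [← preFun_comp (hb a.E) (hb b.E) (hTq b) (pr hE) (hpr hE) (jj b) rfl (jj b ≫ pr hE) (by rw [Category.assoc, hpr]) rfl u]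
      exact hjkill b _ (hJ x hx)
    exact ⟨h, fun _ => hh'⟩
  choose tr htr' using @htr
  let D : Iᵒᵖ ⥤ Sp S :=
    { obj := fun i => (Z i.unop).obj
      map := fun {a b} φ => tr (leOfHom φ.unop)
      map_id := fun a => by
        rw [← cancel_mono (jj a.unop), htr' _ (Finset.Subset.refl _), hprid, Category.comp_id, Category.id_comp]
      map_comp := fun {a b c} φ ψ => by
        rw [← cancel_mono (jj c.unop), htr' _ ((leOfHom ψ.unop).1.trans (leOfHom φ.unop).1), Category.assoc,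
          htr' _ (leOfHom ψ.unop).1, reassoc_of% htr' (leOfHom φ.unop) (leOfHom φ.unop).1, hprc] }
  let t : D ⟶ (Functor.const Iᵒᵖ).obj Y :=
    { app := fun i => jj i.unop ≫ bE i.unop.E
      naturality := fun a b φ => by
        change tr _ ≫ jj b.unop ≫ bE _ = (jj a.unop ≫ bE _) ≫ 𝟙 _
        rw [reassoc_of% htr' (leOfHom φ.unop) (leOfHom φ.unop).1, hpr, Category.comp_id] }
  let c : Cone D :=
    { pt := X
      π := { app := fun i => hh i.unop
             naturality := fun a b φ => by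
              change 𝟙 _ ≫ hh b.unop = hh a.unop ≫ tr _
              rw [← cancel_mono (jj b.unop), Category.assoc, Category.assoc, htr' _ (leOfHom φ.unop).1, hhj,
                Category.id_comp, reassoc_of% hhj, hqpr] } }
  let jf := fun i : I => preFun (hb i.E) (hTq i) (jj i) rfl u
  obtain ⟨hlim⟩ := nonempty_isLimit_of_chart t (fun i => hja i.unop) (c := c) f hfa (fun i => hgh i.unop) u hu
    (fun x => by
      obtain ⟨k, z, hz⟩ := hgen x
      obtain ⟨J, -⟩ := hex {k} ∅ (by simp)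
      let i : I := ⟨{k}, J.1, J.2⟩
      obtain ⟨πk, hπk, e1⟩ := hproj {k} k (Finset.mem_singleton_self k)
      have hk := qcqs_of_affine (hwa k)
      refine ⟨i, (jf i).left.appTop.hom ((preFun hk (hb i.E) πk hπk u).left.appTop.hom z), ?_⟩
      refine Eq.trans ?_ hz
      refine congrArg (fun m : pre f hf u ⟶ pre (w k) hk u => m.left.appTop.hom z) (?_ :
        preFun (hTq i) hf (hh i) (hgh i) u ≫ jf i ≫ preFun hk (hb i.E) πk hπk u = preFun hk hf (p k) (hp k) u)
      rw [preFun_comp hk (hb i.E) (hTq i) πk hπk (jj i) rfl _ (by rw [Category.assoc, hπk]) rfl u,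
        preFun_comp hk (hTq i) hf _ _ (hh i) (hgh i) _ (hp k) (by rw [reassoc_of% hhj i, e1]) u])
    (fun i z hz => by
      haveI : IsClosedImmersion (jf i).left := (hjc i).2 _ _ _ (isPullback_preFun (hb i.E) (hTq i) (jj i) rfl u)
      haveI : IsAffine (pre (bE i.E) (hb i.E) u).left := (affChart (hba i.E) u).aff
      obtain ⟨y, rfl⟩ := (IsClosedImmersion.isAffine_surjective_of_isAffine (jf i).left).2 z
      have hy : k0 i.E y = 0 := by
        refine Eq.trans ?_ hz
        exact congrArg (fun m : pre f hf u ⟶ pre (bE i.E) (hb i.E) u => m.left.appTop.hom y)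
          (preFun_comp (hb i.E) (hTq i) hf (jj i) rfl (hh i) (hgh i) (qX i.E) (hqX _) (hhj i) u).symm
      obtain ⟨A, hA⟩ := i.hC.1.1
      obtain ⟨J, hJ⟩ := hex i.E (insert y A) (by
        intro x hx
        rcases Finset.mem_insert.1 hx with rfl | hx
        · exact hy
        · exact i.hC.1.2.1 x (hA ▸ Ideal.subset_span hx))
      let j : I := ⟨i.E, J.1, J.2⟩
      have hij : i ≤ j := ⟨Finset.Subset.refl _, forall_mem_of_generators (r _) hA fun x hx =>
        Set.mem_of_eq_of_mem (s := (J.1 : Set (R i.E))) (hrid i.E _ x) (hJ x (Finset.mem_insert_of_mem hx))⟩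
      refine ⟨j, hij, ?_⟩
      refine (congrArg (fun m : pre (jj j ≫ bE j.E) (hTq j) u ⟶ pre (bE i.E) (hb i.E) u => m.left.appTop.hom y) (?_ :
        preFun (hTq i) (hTq j) (tr hij) (trans_comp t hij) u ≫ jf i =
          jf j ≫ preFun (hb i.E) (hb j.E) (pr (Finset.Subset.refl i.E)) (hpr _) u)).trans ?_
      · rw [preFun_comp (hb i.E) (hTq i) (hTq j) (jj i) rfl (tr hij) (trans_comp t hij)
          (tr hij ≫ jj i) (by rw [Category.assoc]; exact trans_comp t hij) rfl u,
          preFun_comp (hb i.E) (hb j.E) (hTq j) (pr (Finset.Subset.refl i.E)) (hpr _) (jj j) rfl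
          (tr hij ≫ jj i) (by rw [Category.assoc]; exact trans_comp t hij) (htr' hij _).symm u]
      · exact hjkill j _ (Set.mem_of_eq_of_mem (s := (J.1 : Set (R i.E))) (hrid i.E _ y)
          (hJ y (Finset.mem_insert_self _ _))))
  refine ⟨I, inferInstance, hdir, hne, D, t, c, hlim, Iso.refl _, fun i => (Z i.unop).property,
    fun a b φ => AlgSpDec.isAffineMor_of_repWith le_rfl (repWith_affine_cancel hqc
      (hja b.unop) (hja a.unop) _ ?_), fun i => ⟨repWith_comp (repWith_mono hPC _ (hjc i.unop)) (hgood _).2.1, ?_⟩,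
    fun i => ?_, fun i => ⟨i.unop.E, jj i.unop, hja i.unop, rfl, hjc i.unop, ?_, fun x hx =>
      hjkill i.unop x (i.unop.hC.2 x hx)⟩⟩
  · exact (t.naturality φ).trans (Category.comp_id _)
  · exact isFinitePresentationMor_comp_affine (Z i.unop).property (hgood _).1 hY
      (repWith_affine_of_closed (hjc _)) (hba _) (hjfp _) (hgood _).2.2
  · change 𝟙 X ≫ _ = f
    rw [Category.id_comp]
    exact hgh i.unop
  · change 𝟙 X ≫ _ = qX _
    rw [Category.id_comp]
    exact hhj i.unop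

/-- An affine space over a quasi-compact quasi-separated space whose functions come from finitely presented
ones is a limit of finitely presented ones. -/
theorem exists_system_limit (hY : IsAlgSpace Y) (hqc : IsQuasiCompactSp Y) (hqs : IsQuasiSeparatedSp Y)
    {P : MorphismProperty Scheme.{u}} [P.IsMultiplicative] [P.IsStableUnderBaseChange]
    (hPA : P ≤ @IsAffineHom) (hPC : (@IsClosedImmersion : MorphismProperty Scheme.{u}) ≤ P) {f : X ⟶ Y}
    (hfa : RepWith @IsAffineHom f) (u : Chart Y) (hu : RepWith @Surjective u.c) {K : Type u} (W : K → Sp S)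
    (w : ∀ k, W k ⟶ Y) (hw : ∀ k, IsGood P (w k)) (p : ∀ k, X ⟶ W k) (hp : ∀ k, p k ≫ w k = f)
    (hgen : ∀ x : Γ((pre f (qcqs_of_affine hfa) u).left, ⊤), ∃ (k : K) (z : _),
      (preFun (qcqs_of_affine (repWith_mono hPA _ (hw k).2.1)) (qcqs_of_affine hfa) (p k) (hp k) u).left.appTop.hom z
        = x) :
    ∃ (I : Type u) (_ : Preorder I) (_ : IsDirected I (fun a b => a ≤ b)) (_ : Nonempty I) (D : Iᵒᵖ ⥤ Sp S)
      (t : D ⟶ (Functor.const Iᵒᵖ).obj Y) (c : Cone D) (_ : IsLimit c) (e : c.pt ≅ X),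
      (∀ i, IsAlgSpace (D.obj i)) ∧ (∀ (i j : Iᵒᵖ) (φ : i ⟶ j), IsAffineMor (D.map φ)) ∧
      (∀ i, RepWith P (t.app i) ∧ IsFinitePresentationMor (t.app i)) ∧
      (∀ i, e.inv ≫ c.π.app i ≫ t.app i = f) := by
  classical
  have hg := fun E : Finset K => isGood_widePullback w hPA hY hw E
  obtain ⟨I, hI, hdir, hne, D, t, c, hc, e, hD, hDa, ht, he, -⟩ := exists_system_limit_of hY hqc hqs hPC hfa u hu W w (fun k => repWith_mono hPA _ (hw k).2.1) p hp
    (fun E : Finset K => widePullback Y (fun k : E => W k) (fun k => w k))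
    (fun E => WidePullback.base (fun k : E => w k)) (fun E => repWith_mono hPA _ (hg E).2.1) hg
    (fun E => WidePullback.lift f (fun k => p k) (fun k => hp k)) (fun E => WidePullback.lift_base _ _ _ _)
    (fun {E E'} h => WidePullback.lift (WidePullback.base (fun k : E' => w k))
      (fun k => WidePullback.π (fun k : E' => w k) ⟨k.1, h k.2⟩)
      (fun k => WidePullback.π_arrow (fun k : E' => w k) ⟨k.1, h k.2⟩))
    (fun h => WidePullback.lift_base _ _ _ _)
    (fun E => WidePullback.hom_ext _ _ _ (fun k => by simp) (by simp))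
    (fun h h' => WidePullback.hom_ext _ _ _ (fun k => by simp) (by simp))
    (fun h => WidePullback.hom_ext _ _ _ (fun k => by simp) (by simp))
    (fun E k hk => ⟨WidePullback.π (fun k : E => w k) ⟨k, hk⟩,
      WidePullback.π_arrow (fun k : E => w k) ⟨k, hk⟩, WidePullback.lift_π _ _ _ _ _⟩) (fun _ => ∅)
    (fun E x hx => absurd hx (Finset.notMem_empty x)) hgen
  exact ⟨I, hI, hdir, hne, D, t, c, hc, e, hD, hDa, ht, he⟩

end Groth.Agent.AlgSpQMod
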