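import Groth.Agent.AlgSpQMod.FpSetup
import Groth.Agent.AlgSpQMod.ClosedLimit
import Groth.Agent.AlgSpDec.AffineRep
import Mathlib.RingTheory.FiniteType

/-!
# A finitely presented thickening of an affine finite type morphism over a chart
-/

set_option autoImplicit false
set_option backward.isDefEq.respectTransparency false
set_option backward.isDefEq.respectTransparency.types false
set_option maxHeartbeats 600000

universe u

open CategoryTheory CategoryTheory.Limits AlgebraicGeometry AlgSp Groth.Agent.AlgSpLib TopologicalSpace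

namespace Groth.Agent.AlgSpQMod

variable {S : Scheme.{u}} {Y : Sp S}

/-- The square of scheme maps between pullbacks to a chart. -/
theorem isPullback_preFun' {P P' : Over S} {g : (yon S).obj P ⟶ Y} {g' : (yon S).obj P' ⟶ Y}
    (hg : RepWith (@QuasiCompact ⊓ @QuasiSeparated) g) (hg' : RepWith (@QuasiCompact ⊓ @QuasiSeparated) g')
    (w : P' ⟶ P) (hw : (yon S).map w ≫ g = g') (c : Chart Y) :
    IsPullback (hg'.rep.fst' c.c) (preFun hg hg' ((yon S).map w) hw c) w (hg.rep.fst' c.c) := by
  have h := isPullback_preFun hg hg' ((yon S).map w) hw c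
  refine IsPullback.of_map (yon S) ((yon S).map_injective ?_) ?_
  · rw [Functor.map_comp, Functor.map_comp]
    simpa [Functor.relativelyRepresentable.map_fst'] using h.w
  · simpa [Functor.relativelyRepresentable.map_fst'] using h

/-- Points of a fibre product of charts have the same image. -/
theorem ofPt_fst' {P : Over S} {g : (yon S).obj P ⟶ Y} (hg : RepWith (@QuasiCompact ⊓ @QuasiSeparated) g)
    (c : Chart Y) (z : (pre g hg c).left) :
    Points.ofPt g ((hg.rep.fst' c.c).left z) = Points.ofPt c.c ((preπ g hg c).left z) := by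
  have := (hg.rep.isPullback' c.c).w
  rw [← ofPt_comp, ← ofPt_comp, this]

theorem etale_fst' {P : Over S} {g : (yon S).obj P ⟶ Y} (hg : RepWith (@QuasiCompact ⊓ @QuasiSeparated) g)
    (c : Chart Y) : Etale (hg.rep.fst' c.c).left :=
  c.et.2 g _ _ (hg.rep.isPullback' c.c).flip

variable {Z : Sp S} (ν : Z ⟶ Y) (hν : RepWith (@QuasiCompact ⊓ @QuasiSeparated) ν)

/-- Finitely presented thickenings over a chart. -/
theorem exists_thickening [QuasiSeparatedSpace ↥S] (hY : IsAlgSpace Y) (hqs : IsQuasiSeparatedSp Y)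
    (haff : RepWith @IsAffineHom ν) (hft : ∀ c : Chart Y, LocallyOfFiniteType (preπ ν hν c).left)
    {n : ℕ} (c : Fin n → Chart Y) (hc : ∀ i, LocallyOfFinitePresentation (preπ ν hν (c i)).left)
    (v u : Chart Y) (xs : Finset Γ((pre ν hν u).left, ⊤)) :
    ∃ (ZV : Over S) (_ : IsAffine ZV.left) (πV : ZV ⟶ v.W) (κ : pre ν hν v ⟶ ZV),
      κ ≫ πV = preπ ν hν v ∧ IsClosedImmersion κ.left ∧ IsAffineHom πV.left ∧
      LocallyOfFinitePresentation πV.left ∧
      (∀ {T ZT PT : Over S} (t : T ⟶ v.W) (_ : Etale t.left) (xZ : ZT ⟶ ZV) (ρZ : ZT ⟶ T)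
        (_ : IsPullback xZ ρZ πV t) (xP : PT ⟶ pre ν hν v) (ρP : PT ⟶ T)
        (_ : IsPullback xP ρP (preπ ν hν v) t) (kT : PT ⟶ ZT), kT ≫ xZ = xP ≫ κ → kT ≫ ρZ = ρP →
        (∀ x : T.left, Points.ofPt v.c (t.left x) ∈ ⋃ i, Set.range (Points.ofPt (c i).c)) → IsIso kT.left) ∧
      (∀ (gv : (yon S).obj (pre ν hν v) ⟶ Y) (hgv : RepWith (@QuasiCompact ⊓ @QuasiSeparated) gv)
        (gV : (yon S).obj ZV ⟶ Y) (hgV : RepWith (@QuasiCompact ⊓ @QuasiSeparated) gV)
        (hw : hν.rep.fst v.c ≫ ν = gv) (hκ : (yon S).map κ ≫ gV = gv) (_ : gV = (yon S).map πV ≫ v.c),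
        ∀ x ∈ xs, ∃ a, (preFun hgV hgv ((yon S).map κ) hκ u).left.appTop.hom a =
          (preFun hν hgv (hν.rep.fst v.c) hw u).left.appTop.hom x) := by
  classical
  haveI haffv : ∀ d : Chart Y, IsAffineHom (preπ ν hν d).left := fun d => haff.2 d.c _ _ (hν.rep.isPullback d.c)
  haveI : IsAffine (pre ν hν v).left := isAffine_of_isAffineHom (preπ ν hν v).left
  -- a presentation over the chart
  obtain ⟨A, hA, πA, i, hiπ, hi, hπa, hπf⟩ : ∃ (A : Over S) (_ : IsAffine A.left) (πA : A ⟶ v.W)
      (i : pre ν hν v ⟶ A), i ≫ πA = preπ ν hν v ∧ IsClosedImmersion i.left ∧ IsAffineHom πA.left ∧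
      LocallyOfFinitePresentation πA.left := by
    have h1 : (preπ ν hν v).left.appTop.hom.FiniteType :=
      (HasRingHomProperty.iff_of_isAffine (P := @LocallyOfFiniteType)).1 (hft v)
    algebraize [(preπ ν hν v).left.appTop.hom]
    obtain ⟨m, φ, hφ⟩ := Algebra.FiniteType.iff_quotient_mvPolynomial''.1 ‹Algebra.FiniteType _ _›
    let P0 : CommRingCat.{u} := CommRingCat.of (MvPolynomial (Fin m) v.R)
    let C0 : CommRingCat.of v.R ⟶ P0 := CommRingCat.ofHom MvPolynomial.C
    have hC : LocallyOfFinitePresentation (Spec.map C0) :=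
      (HasRingHomProperty.Spec_iff (P := @LocallyOfFinitePresentation)).2
        (RingHom.finitePresentation_algebraMap.2 (inferInstance : Algebra.FinitePresentation v.R
          (MvPolynomial (Fin m) v.R)))
    let A : Over S := Over.mk (Spec.map C0 ≫ v.W.left.isoSpec.inv ≫ v.W.hom)
    let πA : A ⟶ v.W := CategoryTheory.Over.homMk (Spec.map C0 ≫ v.W.left.isoSpec.inv) (Category.assoc _ _ _)
    haveI : IsAffine A.left := inferInstanceAs (IsAffine (Spec _))
    let e := (pre ν hν v).left.isoSpec.hom ≫ Spec.map (CommRingCat.ofHom φ.toRingHom)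
    have he : e ≫ πA.left = (preπ ν hν v).left := by
      change ((pre ν hν v).left.isoSpec.hom ≫ Spec.map _) ≫ Spec.map C0 ≫ v.W.left.isoSpec.inv = _
      rw [Category.assoc, ← Spec.map_comp_assoc,
        show C0 ≫ CommRingCat.ofHom φ.toRingHom = (preπ ν hν v).left.appTop from
          CommRingCat.hom_ext (RingHom.ext fun r => φ.commutes r),
        Scheme.isoSpec_hom_naturality_assoc, Iso.hom_inv_id, Category.comp_id]
    let i : pre ν hν v ⟶ A := CategoryTheory.Over.homMk e (by
      have e' := congrArg (· ≫ v.W.hom) he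
      simp only [Category.assoc] at e'
      exact ((congrArg (e ≫ ·) (Over.w πA)).symm.trans e').trans (Over.w (preπ ν hν v)))
    refine ⟨A, inferInstance, πA, i, Over.OverMorphism.ext he, ?_, isAffineHom_of_isAffine _, ?_⟩
    · haveI := IsClosedImmersion.spec_of_surjective (CommRingCat.ofHom φ.toRingHom) hφ
      change IsClosedImmersion e
      infer_instance
    · change LocallyOfFinitePresentation (Spec.map C0 ≫ v.W.left.isoSpec.inv)
      infer_instance
  -- the kernel is finitely generated over the pieces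
  choose m e a b hlift using fun j => exists_pieces hY hqs v (c j)
  let B : ∀ j, Fin (m j) → Over S := fun j p => pullback πA (a j p).k
  have sqB : ∀ j p, IsPullback (pullback.fst πA (a j p).k) (pullback.snd πA (a j p).k) πA (a j p).k :=
    fun j p => IsPullback.of_hasPullback _ _
  have hBaff : ∀ j p, IsAffine (B j p).left := fun j p => by
    haveI : IsAffineHom (pullback.snd πA (a j p).k).left :=
      MorphismProperty.of_isPullback (P := @IsAffineHom) ((sqB j p).map (Over.forget S)) hπa
    exact isAffine_of_isAffineHom (pullback.snd πA (a j p).k).left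
  have hBet : ∀ j p, Etale (pullback.fst πA (a j p).k).left := fun j p =>
    MorphismProperty.of_isPullback (P := @Etale) ((sqB j p).map (Over.forget S)).flip (a j p).etale
  let D₁ : ∀ j, Fin (m j) → Chart ((yon S).obj A) := fun j p =>
    haveI := hBaff j p; haveI := hBet j p; mkChart (pullback.fst πA (a j p).k)
  have hD₁ : ∀ j p, (toTop (D₁ j p)).k = pullback.fst πA (a j p).k := fun j p => by
    haveI := hBaff j p; haveI := hBet j p; exact toTop_mkChart _
  have hker : ∀ j p, (kerC i (D₁ j p)).FG := by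
    intro j p
    have h1 : IsPullback ((repWith_closed i).rep.fst' (D₁ j p).c) (preCπ i (D₁ j p) ≫ pullback.snd πA (a j p).k)
        (preπ ν hν v) (a j p).k := by
      have := isPullback_preC i (D₁ j p)
      rw [hD₁] at this
      simpa [hiπ] using this.paste_vert (sqB j p)
    have h2 := (isPullback_preMap ν hν (a j p)).map (Over.forget S)
    have h1' := h1.map (Over.forget S)
    have h3 : LocallyOfFinitePresentation (preπ ν hν (e j p)).left :=
      MorphismProperty.of_isPullback (P := @LocallyOfFinitePresentation)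
        ((isPullback_preMap ν hν (b j p)).map (Over.forget S)) (hc j)
    have h4 : LocallyOfFinitePresentation ((preCπ i (D₁ j p)).left ≫ (pullback.snd πA (a j p).k).left) := by
      have h5 := h1'.isoIsPullback_hom_snd _ _ h2
      simp only [Over.forget_map, Over.comp_left] at h5
      rw [← h5]
      infer_instance
    haveI : LocallyOfFiniteType (pullback.snd πA (a j p).k).left :=
      haveI : LocallyOfFinitePresentation (pullback.snd πA (a j p).k).left :=
        MorphismProperty.of_isPullback (P := @LocallyOfFinitePresentation) ((sqB j p).map (Over.forget S)) hπf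
      inferInstance
    haveI : LocallyOfFinitePresentation (preCπ i (D₁ j p)).left :=
      AlgSpPts.locallyOfFinitePresentation_of_comp _ (pullback.snd πA (a j p).k).left
    exact fg_ker_of_lfp (preCπ i (D₁ j p)).left
  choose G hG using hker
  choose H hH using fun (j : Fin n) (p : Fin (m j)) (x : G j p) =>
    (resMap _ (repWith_closed i)).ker.exists_finset_span (toTop (D₁ j p))
      ⟨x.1, (hG j p).le (Submodule.subset_span x.2)⟩
  let J₁ : Finset (topChart A).R := Finset.univ.biUnion fun j => Finset.univ.biUnion fun p =>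
    Finset.univ.biUnion fun x => (H j p x).image
      (fun z : LinearMap.ker ((resMap _ (repWith_closed i)).app (topChart A)) => (z.1 : (topChart A).R))
  -- lifting of functions
  let hvq := repWith_qcqs_yon hY hqs v.c
  let T := pre v.c hvq u
  let t : T ⟶ v.W := hvq.rep.fst' u.c
  haveI : Etale t.left := etale_fst' hvq u
  haveI : IsAffineHom (pullback.snd πA t).left :=
    MorphismProperty.of_isPullback (P := @IsAffineHom)
      ((IsPullback.of_hasPullback πA t).map (Over.forget S)) hπa
  haveI : CompactSpace (pullback πA t).left :=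
    QuasiCompact.compactSpace_of_compactSpace (pullback.snd πA t).left
  haveI : QuasiSeparatedSpace (pullback πA t).left :=
    quasiSeparatedSpace_of_quasiSeparated (pullback.snd πA t).left
  haveI : Etale (pullback.fst πA t).left :=
    MorphismProperty.of_isPullback (P := @Etale) ((IsPullback.of_hasPullback πA t).map (Over.forget S)).flip ‹Etale t.left›
  let gv₀ := (yon S).map (preπ ν hν v) ≫ v.c
  have hgv₀ : RepWith (@QuasiCompact ⊓ @QuasiSeparated) gv₀ := repWith_qcqs_yon hY hqs gv₀
  have sqT : IsPullback (hgv₀.rep.fst' u.c) (preFun hvq hgv₀ ((yon S).map (preπ ν hν v)) rfl u)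
      (preπ ν hν v) t := isPullback_preFun' hvq hgv₀ (preπ ν hν v) rfl u
  obtain ⟨ρ, hρ₁, hρ₂⟩ := (IsPullback.of_hasPullback πA t).exists_lift (hgv₀.rep.fst' u.c ≫ i)
    (preFun hvq hgv₀ ((yon S).map (preπ ν hν v)) rfl u) (by rw [Category.assoc, hiπ]; exact sqT.w)
  have sqP : IsPullback (hgv₀.rep.fst' u.c) ρ i (pullback.fst πA t) :=
    IsPullback.of_bot (by rw [hρ₂, hiπ]; exact sqT) hρ₁.symm (IsPullback.of_hasPullback πA t)
  choose J₂ hJ₂ hJ₂' using fun x : xs => exists_lift_fun i (pullback.fst πA t) sqP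
    ((preFun hν hgv₀ (hν.rep.fst v.c) (hν.rep.w v.c) u).left.appTop.hom x.1)
  let J : Finset (topChart A).R := J₁ ∪ Finset.univ.biUnion J₂
  let K : Ideal (topChart A).R := Submodule.span (topChart A).R J
  have hKfg : K.FG := ⟨J, rfl⟩
  have hJker : ∀ z ∈ J, z ∈ kerC i (topChart A) := fun z hz => by
    rcases Finset.mem_union.1 hz with h | h
    · simp only [J₁, Finset.mem_biUnion, Finset.mem_image] at h
      obtain ⟨j, -, p, -, x, -, y, -, rfl⟩ := h
      exact y.2
    · simp only [Finset.mem_biUnion] at h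
      obtain ⟨x, -, hx⟩ := h
      exact hJ₂ x z hx
  obtain ⟨κ, hκ⟩ := (factor_iff (topChart A) i K).2 fun z hz =>
    appTop_eq_zero_of_mem_ker i ((Submodule.span_le (p := kerC i (topChart A))).2 hJker hz)
  have hgood : ∀ j p, Good i K (D₁ j p) := by
    intro j p x hx
    have hle : kerC i (D₁ j p) ≤ (unitMod ((yon S).obj A)).Span (toTop (D₁ j p)) K := by
      rw [← hG j p, Submodule.span_le]
      intro g hg
      have h1 := Submodule.mem_map_of_mem
        (f := (LinearMap.ker ((resMap _ (repWith_closed i)).app (D₁ j p))).subtype) (hH j p ⟨g, hg⟩)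
      rw [(resMap _ (repWith_closed i)).map_span] at h1
      refine (unitMod _).span_mono ?_ h1
      rw [Submodule.map_span, Submodule.span_le]
      rintro _ ⟨z, hz, rfl⟩
      exact Submodule.subset_span (Finset.mem_union_left _ (Finset.mem_biUnion.2 ⟨j, Finset.mem_univ _,
        Finset.mem_biUnion.2 ⟨p, Finset.mem_univ _, Finset.mem_biUnion.2 ⟨⟨g, hg⟩, Finset.mem_univ _,
          Finset.mem_image.2 ⟨z, hz, rfl⟩⟩⟩⟩))
    exact hle hx
  haveI : IsClosedImmersion (idealι (topChart A) K).left := inferInstance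
  haveI : IsClosedImmersion (κ.left ≫ (idealι (topChart A) K).left) := by rw [← Over.comp_left, hκ]; exact hi
  haveI := lfp_idealι (topChart A) hKfg
  refine ⟨idealSpec (topChart A) K, inferInstance, idealι (topChart A) K ≫ πA, κ,
    by rw [reassoc_of% hκ, hiπ], IsClosedImmersion.of_comp_isClosedImmersion κ.left (idealι (topChart A) K).left,
    isAffineHom_of_isAffine _, inferInstanceAs (LocallyOfFinitePresentation ((idealι (topChart A) K).left ≫ πA.left)),
    ?_, ?_⟩
  · intro T ZT PT t ht xZ ρZ sZ xP ρP sP kT hx hρ hpts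
    have sq0 := IsPullback.of_hasPullback πA t
    obtain ⟨lZ, hlZ1, hlZ2⟩ := sq0.exists_lift (xZ ≫ idealι (topChart A) K) ρZ
      (by rw [Category.assoc]; exact sZ.w)
    obtain ⟨lP, hlP1, hlP2⟩ := sq0.exists_lift (xP ≫ i) ρP (by rw [Category.assoc, hiπ]; exact sP.w)
    have sZ' : IsPullback xZ lZ (idealι (topChart A) K) (pullback.fst πA t) :=
      IsPullback.of_bot (by rw [hlZ2]; exact sZ) hlZ1.symm sq0
    have sP' : IsPullback xP lP i (pullback.fst πA t) :=
      IsPullback.of_bot (by rw [hlP2, hiπ]; exact sP) hlP1.symm sq0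
    haveI : Etale (pullback.fst πA t).left :=
      MorphismProperty.of_isPullback (P := @Etale) (sq0.map (Over.forget S)).flip ht
    refine isIso_bc i hκ (pullback.fst πA t) sZ' sP' hx ?_ fun D g hg w => ?_
    · apply pullback.hom_ext
      · rw [Category.assoc, hlZ1, hlP1, ← Category.assoc, hx, Category.assoc, hκ]
      · rw [Category.assoc, hlZ2, hlP2, hρ]
    -- refine near the point by a piece
    let q : D.W.left := w
    have hq : πA.left ((toTop D).k.left w) = t.left ((g ≫ pullback.snd πA t).left w) := by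
      have := congrArg (fun k : D.W ⟶ v.W => k.left w)
        (show (toTop D).k ≫ πA = (g ≫ pullback.snd πA t) ≫ t by rw [← hg, Category.assoc, Category.assoc, sq0.w])
      exact this
    have hmem := hpts ((g ≫ pullback.snd πA t).left w)
    rw [← hq] at hmem
    obtain ⟨j, hj⟩ := Set.mem_iUnion.1 hmem
    obtain ⟨E₁, j₁, k₁, ⟨w₁, hw₁⟩⟩ := exists_refine_range v (c j) (πA.left ((toTop D).k.left w)) hj
    obtain ⟨E₂, j₂, p, r, ⟨w₂, hw₂⟩, hr, -⟩ := hlift j E₁ k₁ j₁ w₁
    have hpt : (a j p).k.left (r.k.left w₂) = πA.left ((toTop D).k.left w) := by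
      have := congrArg (fun h : Chart.Hom E₂ v => h.k.left w₂) hr
      simp only [Chart.Hom.comp, Over.comp_left, Scheme.Hom.comp_apply] at this
      rw [this, hw₂, hw₁]
    obtain ⟨z, hz1, hz2⟩ := Scheme.exists_preimage_of_isPullback
      ((sqB j p).map (Over.forget S)) ((toTop D).k.left w) (r.k.left w₂) hpt.symm
    obtain ⟨E, s₁, s₂, -, sqE⟩ := QMod.exists_pullback (toTop D) (toTop (D₁ j p))
    obtain ⟨z', hz'1, -⟩ := Scheme.exists_preimage_of_isPullback sqE w z (by
      rw [hD₁]; exact hz1.symm)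
    exact ⟨E, s₁, ⟨z', hz'1⟩, good_comp i s₂ (hgood j p)⟩
  · intro gv hgv gV hgV hw hκV hgV' x hx
    obtain rfl : gv = gv₀ := hw.symm.trans (hν.rep.w v.c)
    subst hgV'
    have sqV : IsPullback (hgV.rep.fst' u.c) (preFun hvq hgV ((yon S).map (idealι (topChart A) K ≫ πA)) rfl u)
        (idealι (topChart A) K ≫ πA) t := isPullback_preFun' hvq hgV _ rfl u
    obtain ⟨σ, hσ₁, hσ₂⟩ := (IsPullback.of_hasPullback πA t).exists_lift (hgV.rep.fst' u.c ≫ idealι (topChart A) K)
      (preFun hvq hgV ((yon S).map (idealι (topChart A) K ≫ πA)) rfl u) (by rw [Category.assoc]; exact sqV.w)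
    have sqZ : IsPullback (hgV.rep.fst' u.c) σ (idealι (topChart A) K) (pullback.fst πA t) :=
      IsPullback.of_bot (by rw [hσ₂]; exact sqV) hσ₁.symm (IsPullback.of_hasPullback πA t)
    have hfst : preFun hgV hgv ((yon S).map κ) hκV u ≫ hgV.rep.fst' u.c = hgv.rep.fst' u.c ≫ κ :=
      (isPullback_preFun' hgV hgv κ hκV u).w.symm
    refine hJ₂' ⟨x, hx⟩ K (fun z hz => Submodule.subset_span (Finset.mem_union_right _
      (Finset.mem_biUnion.2 ⟨⟨x, hx⟩, Finset.mem_univ _, hz⟩))) _ σ sqZ
      (preFun hgV hgv ((yon S).map κ) hκV u) ?_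
    apply pullback.hom_ext
    · rw [Category.assoc, hσ₁, hρ₁, ← Category.assoc, hfst, Category.assoc, hκ]
    · rw [Category.assoc, hσ₂, hρ₂]
      refine hvq.rep.hom_ext' ?_ ?_
      · rw [Category.assoc, ← sqV.w, ← sqT.w, ← Category.assoc, hfst, Category.assoc, reassoc_of% hκ, hiπ]
      · rw [Category.assoc, preFun_snd, preFun_snd, preFun_snd]

end Groth.Agent.AlgSpQMod
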